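import Cfsg.Agent.H98.MlCj
import Cfsg.Agent.H1.MlA

/-!
# The first limit vanishes: faithful case
-/

set_option autoImplicit false
set_option linter.unusedSectionVars false

namespace Cfsg.Agent.H98.ML

open Subgroup Cfsg.Agent.H83 Cfsg.Agent.H1.ML MulAction

universe u

section basic
variable {G X M : Type*} [Group G] [MulAction G X] [AddCommGroup M] [DistribMulAction G M]

theorem st_smul (g : G) (x : X) : stabilizer G (g • x) = cj g (stabilizer G x) :=
  stabilizer_smul_eq_stabilizer_map_conj g x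

theorem le_st_smul {P : Subgroup G} {x : X} (h : P ≤ stabilizer G x) {g : G}
    (hg : g ∈ normalizer (P : Set G)) : P ≤ stabilizer G (g • x) := by
  rw [st_smul, ← cj_eq_self hg]; exact cj_mono g h

variable (G) in
/-- cocycles -/
structure Coc (t : X → X → M) : Prop where
  eqv : ∀ {P : Subgroup G}, Qp M P → ∀ {x y}, P ≤ stabilizer G x → P ≤ stabilizer G y →
    ∀ g : G, t (g • x) (g • y) = g • t x y
  add : ∀ {P : Subgroup G}, Qp M P → ∀ {x y z}, P ≤ stabilizer G x → P ≤ stabilizer G y →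
    P ≤ stabilizer G z → t x z = t x y + t y z

variable {t : X → X → M} {P : Subgroup G} {x y : X}

theorem Coc.self (h : Coc G t) (q : Qp M P) (hx : P ≤ stabilizer G x) : t x x = 0 :=
  left_eq_add.1 (h.add q hx hx hx)

theorem Coc.symm (h : Coc G t) (q : Qp M P) (hx : P ≤ stabilizer G x) (hy : P ≤ stabilizer G y)
    (e : t x y = 0) : t y x = 0 := by
  have := h.add q hx hy hx
  rwa [h.self q hx, e, zero_add, eq_comm] at this

theorem Coc.sub (h : Coc G t) {f : X → M} (hf : ∀ (g : G) x, f (g • x) = g • f x) :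
    Coc G fun x y => t x y - (f y - f x) where
  eqv q _ _ hx hy g := by rw [h.eqv q hx hy, hf, hf, smul_sub, smul_sub]
  add q _ _ _ hx hy hz := by rw [h.add q hx hy hz]; abel

variable (M) in
open Classical in
/-- the characteristic subgroup -/
noncomputable def W (p : ℕ) (P : Subgroup G) : Subgroup G :=
  if ∃ A ≤ P, Nice M p A then JJ (Nice M p) P else JJ (Tz M) P

variable {p : ℕ}

theorem W_pos (h : ∃ A ≤ P, Nice M p A) : W M p P = JJ (Nice M p) P := if_pos h
theorem W_neg (h : ∀ A ≤ P, ¬ Nice M p A) : W M p P = JJ (Tz M) P :=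
  if_neg fun ⟨A, a, b⟩ => h A a b

theorem W_le : W M p P ≤ P := by unfold W; split_ifs <;> exact JJ_le _ _

theorem nonice_cj (h : ∀ A ≤ P, ¬ Nice M p A) (g : G) : ∀ A ≤ cj g P, ¬ Nice M p A :=
  fun A a b => h _ (by rwa [cj_le_iff, inv_inv]) (nice_cj b g⁻¹)

theorem W_cj (g : G) (P : Subgroup G) : W M p (cj g P) = cj g (W M p P) := by
  by_cases h : ∃ A ≤ P, Nice M p A
  · rw [W_pos h, W_pos (let ⟨A, a, b⟩ := h; ⟨_, cj_mono g a, nice_cj b g⟩),
      JJ_cj (𝒜 := Nice M p) fun _ g h => nice_cj h g]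
  · push Not at h
    rw [W_neg h, W_neg (nonice_cj h g), JJ_cj (𝒜 := Tz M) fun _ g h => tz_cj h g]

theorem norm_W : normalizer (P : Set G) ≤ normalizer (W M p P : Set G) := fun g hg => by
  rw [← cj_eq_self_iff, ← W_cj, cj_eq_self hg]

variable [Finite G]

/-- orbits as finsets -/
noncomputable def orb (K : Subgroup G) (x : X) : Finset X :=
  (show (orbit K x).Finite from Set.finite_range _).toFinset

theorem mem_orb {K : Subgroup G} : y ∈ orb K x ↔ ∃ k ∈ K, k • x = y := by
  rw [orb, Set.Finite.mem_toFinset]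
  exact ⟨fun ⟨g, e⟩ => ⟨g, g.2, e⟩, fun ⟨g, hg, e⟩ => ⟨⟨g, hg⟩, e⟩⟩

theorem card_orb (K : Subgroup G) (x : X) : (orb K x).card = (stabilizer G x).relIndex K := by
  exact (Set.ncard_eq_toFinset_card (orbit K x) (Set.finite_range _)).symm.trans
    (index_stabilizer K x).symm

theorem orb_smul {K : Subgroup G} {k : G} (hk : k ∈ K) : orb K (k • x) = orb K x := by
  ext y
  rw [mem_orb, mem_orb]
  exact ⟨fun ⟨a, ha, e⟩ => ⟨a * k, mul_mem ha hk, by rw [mul_smul, e]⟩,
    fun ⟨a, ha, e⟩ => ⟨a * k⁻¹, mul_mem ha (inv_mem hk), by rw [mul_smul, inv_smul_smul, e]⟩⟩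

theorem orb_cj (g : G) (K : Subgroup G) (x : X) :
    orb (cj g K) (g • x) = (orb K x).map (toPerm g).toEmbedding := by
  ext y
  rw [Finset.mem_map_equiv, mem_orb, mem_orb]
  refine ⟨fun ⟨a, ha, e⟩ => ⟨_, mem_cj.1 ha, ?_⟩, fun ⟨a, ha, e⟩ => ⟨_, conj_mem_cj ha, ?_⟩⟩
  · rw [mul_smul, mul_smul, e]; rfl
  · rw [mul_smul, mul_smul, inv_smul_smul, e]; exact smul_inv_smul g y

/-- the average -/
noncomputable def avg (c : ℕ → ℕ) (t : X → X → M) (K : Subgroup G) (x : X) : M :=
  -(c (orb K x).card • ∑ y ∈ orb K x, t x y)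

variable {c : ℕ → ℕ} {K : Subgroup G}

theorem avg_smul (h : Coc G t) (q : Qp M P) (hx : ∀ k ∈ K, P ≤ stabilizer G (k • x)) (g : G) :
    avg c t (cj g K) (g • x) = g • avg c t K x := by
  rw [avg, avg, orb_cj, Finset.card_map, Finset.sum_map, smul_neg, smul_comm g,
    Finset.smul_sum (r := g)]
  refine congrArg (fun z : M => -(c (orb K x).card • z)) (Finset.sum_congr rfl fun y hy => ?_)
  obtain ⟨k, hk, rfl⟩ := mem_orb.1 hy
  exact h.eqv q (by simpa using hx 1 (one_mem _)) (hx k hk) g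

theorem avg_sub (h : Coc G t) (hc : ∀ n, ¬ p ∣ n → ∀ d : M, c n • n • d = d) (q : Qp M P)
    (hx : ∀ k ∈ K, P ≤ stabilizer G (k • x)) (hp : ¬ p ∣ (stabilizer G x).relIndex K) {k : G}
    (hk : k ∈ K) : t x (k • x) = avg c t K (k • x) - avg c t K x := by
  have e : ∑ y ∈ orb K x, t x y = (orb K x).card • t x (k • x) + ∑ y ∈ orb K x, t (k • x) y := by
    rw [← Finset.sum_const, ← Finset.sum_add_distrib]
    refine Finset.sum_congr rfl fun y hy => ?_
    obtain ⟨a, ha, rfl⟩ := mem_orb.1 hy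
    exact h.add q (by simpa using hx 1 (one_mem _)) (hx k hk) (hx a ha)
  rw [avg, avg, orb_smul hk, e, smul_add, hc _ (by rwa [card_orb])]
  abel

variable [Finite M] [Fact p.Prime]

theorem exists_c (hM : IsPGroup p (Multiplicative M)) :
    ∃ c : ℕ → ℕ, ∀ n, ¬ p ∣ n → ∀ d : M, c n • n • d = d := by
  obtain ⟨k, hk⟩ := IsPGroup.iff_card.1 hM
  have : ∀ n, ∃ c : ℕ, ¬ p ∣ n → ∀ d : M, c • n • d = d := fun n => by
    by_cases h : p ∣ n
    · exact ⟨0, fun e => absurd h e⟩
    obtain ⟨c, e, he⟩ := exists_inv_mod h k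
    refine ⟨c, fun _ d => ?_⟩
    rw [← mul_smul, he, add_smul, one_smul, mul_smul, ← hk,
      show Nat.card (Multiplicative M) • d = 0 from card_nsmul_eq_zero', smul_zero, add_zero]
  choose c hc using this
  exact ⟨c, hc⟩

theorem exists_z (h : Coc G t) (hM : IsPGroup p (Multiplicative M)) (q : Qp M P)
    (hx : P ≤ stabilizer G x) {T : Subgroup G} (hT : IsSylowIn p T (normalizer (P : Set G)))
    (hT' : T ≤ stabilizer G x) :
    ∃ z : M, ∀ n ∈ normalizer (P : Set G), t x (n • x) = n • z - z := by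
  obtain ⟨c, hc⟩ := exists_c hM
  have h1 := fun k hk => le_st_smul hx (g := k) hk
  refine ⟨avg c t (normalizer (P : Set G)) x, fun n hn => ?_⟩
  rw [avg_sub h hc q h1 (fun e => hT.not_dvd_relIndex (e.trans (relIndex_dvd_of_le_left _ hT'))) hn,
    ← avg_smul h q h1, cj_eq_self (le_normalizer hn)]

end basic

section main
variable {G X M : Type u} [Group G] [Finite G] [MulAction G X] [AddCommGroup M] [Finite M]
  [DistribMulAction G M] {p : ℕ} [Fact p.Prime] {t : X → X → M}

theorem W_qp (tri : TriStmt.{u}) (hM : IsPGroup p (Multiplicative M)) (ff : Ff M G)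
    {P : Subgroup G} (hP : IsPGroup p P) (q : Qp M P) : Qp M (W M p P) := by
  by_cases h : ∃ A ≤ P, Nice M p A
  · rw [W_pos h]
    obtain ⟨A, a, b⟩ := h
    exact ⟨A, le_JJ a b, b.2.1, b.2.2.1⟩
  · obtain ⟨-, a, ha, v, hv⟩ := (tri G M p hM ff P hP q).resolve_left h
    push Not at h
    rw [W_neg h]
    exact tv_qp hv (tv_mem_JJ hv ha)

variable (G p) in
/-- first normalisation -/
def N1 (t : X → X → M) : Prop := ∀ x y, Qp M (stabilizer G x) →
  W M p (stabilizer G x) = W M p (stabilizer G y) → t x y = 0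

variable (G p) in
/-- second normalisation -/
def N2 (t : X → X → M) : Prop := p = 2 → ∀ x, (∀ A ≤ stabilizer G x, ¬ Nice M 2 A) →
  ∀ (a : G) (v : M) (b : G) (w : M), Sol (stabilizer G x) a v b w → t x (b • x) = 0

theorem n1 (tri : TriStmt.{u}) (sy : Syl p G X) (hM : IsPGroup p (Multiplicative M)) (ff : Ff M G)
    (h : Coc G t) : ∃ f : X → M, (∀ (g : G) x, f (g • x) = g • f x) ∧
      N1 G p fun x y => t x y - (f y - f x) := by
  classical
  obtain ⟨c, hc⟩ := exists_c hM
  have q := fun x : X => W_qp tri hM ff (sy.syl x).isPGroup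
  have h1 : ∀ x : X, ∀ k ∈ normalizer (W M p (stabilizer G x) : Set G),
      W M p (stabilizer G x) ≤ stabilizer G (k • x) := fun x k hk => le_st_smul W_le hk
  have qs : ∀ (g : G) (x : X), Qp M (stabilizer G (g • x)) ↔ Qp M (stabilizer G x) := fun g x =>
    ⟨fun e => by simpa [← st_smul] using qp_cj e g⁻¹, fun e => st_smul g x ▸ qp_cj e g⟩
  refine ⟨fun x => if Qp M (stabilizer G x) then
    avg c t (normalizer (W M p (stabilizer G x) : Set G)) x else 0, fun g x => ?_,
    fun x y hx e => ?_⟩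
  · simp only [qs]
    split_ifs with hx
    · rw [← avg_smul h (q x hx) (h1 x), st_smul, W_cj, cj_normalizer]
    · rw [smul_zero]
  · obtain ⟨g, rfl⟩ := sy.tr x y
    simp only [qs, if_pos hx]
    rw [← e, sub_eq_zero]
    refine avg_sub h hc (q x hx) (h1 x) ((sy.syl x).mono (le_normalizer.trans norm_W)
      le_top).not_dvd_relIndex ?_
    rw [← cj_eq_self_iff, ← W_cj, ← st_smul, e]

theorem sol_fix {x : X} {a b c : G} {v w u : M} (s : Sol (stabilizer G x) a v b w) (hc : Tv c u)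
    (hx : c ∈ stabilizer G x) (n : c ≠ a) : zpowers c ≤ stabilizer G (b • x) :=
  zpowers_le.2 (by rw [mem_stabilizer_iff, ← mul_smul, ← s.cm c hx u hc n, mul_smul, hx])

theorem sol_val (ff : Ff M G) (h : Coc G t) {x : X} {a b : G} {v w : M}
    (s : Sol (stabilizer G x) a v b w) : t x (b • x) = 0 ∨ t x (b • x) = w := by
  obtain ⟨c, hx, u, hc, n⟩ := s.ex
  have q := tv_qp hc (mem_zpowers c)
  have x1 := zpowers_le.2 hx
  have x2 := sol_fix s hc hx n
  have ax : a • x = x := s.mem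
  have x3 : zpowers c ≤ stabilizer G (a • b • x) := by
    have := sol_fix s (tv_cj hc a⁻¹) (mul_mem (mul_mem (inv_mem s.mem) hx) (inv_mem (inv_mem s.mem)))
      fun e => n (by
        calc c = a * (a⁻¹ * c * a⁻¹⁻¹) * a⁻¹ := by group
          _ = a := by rw [e]; group)
    rw [st_smul, zpowers_le, mem_cj]
    simpa using zpowers_le.1 this
  have e1 : t x (a • b • x) = a • t x (b • x) := by rw [← h.eqv q x1 x2, ax]
  have e2 : b • a • b • x = a • b • x := by
    rw [← mul_smul, ← mul_smul, ← tv_braid ff s.ta s.tb s.ne s.ne', mul_smul, mul_smul, ax,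
      ← mul_smul]
  have e3 := h.add q x1 x2 x3
  rw [← e2, h.eqv q x1 x3, e2, e1] at e3
  have b1 := (s.tb.alt v).resolve_left s.ne
  have w2 := tv_two s.tb
  generalize t x (b • x) = τ at e3
  rcases s.ta.alt τ with e | e
  · rw [e, left_eq_add] at e3
    exact .inl ((smul_eq_zero_iff_eq b).1 e3)
  · rw [e, smul_add, b1] at e3
    rcases s.tb.alt τ with e' | e' <;> rw [e'] at e3
    · exact .inr (by
        calc τ = τ + (τ + (v + w)) - (τ + v) + w - (w + w) := by abel
          _ = w := by rw [← e3, w2]; abel)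
    · exact .inl (by
        calc τ = τ + (τ + w + (v + w)) - (τ + v) - (w + w) := by abel
          _ = 0 := by rw [← e3, w2]; abel)

theorem n2 (tvc : TvcStmt.{u}) (sy : Syl p G X) (ff : Ff M G) (h : Coc G t) (h1 : N1 G p t) :
    ∃ f : X → M, (∀ (g : G) x, f (g • x) = g • f x) ∧ (N1 G p fun x y => t x y - (f y - f x)) ∧
      N2 G p fun x y => t x y - (f y - f x) := by
  classical
  by_cases hp : p = 2
  swap
  · exact ⟨0, by simp, by simpa using h1, fun e => absurd e hp⟩
  subst hp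
  have := Fintype.ofFinite M
  let V : X → M → Prop := fun x v => (∀ A ≤ stabilizer G x, ¬ Nice M 2 A) ∧
    ∃ (a b : G) (w : M), Sol (stabilizer G x) a v b w ∧ t x (b • x) ≠ 0
  have V1 : ∀ (g : G) x v, V x v → V (g • x) (g • v) := by
    rintro g x v ⟨nn, a, b, w, s, e⟩
    obtain ⟨c, hx, u, hc, n⟩ := s.ex
    refine ⟨st_smul g x ▸ nonice_cj nn g, _, _, _, st_smul g x ▸ sol_cj s g, fun e' => e ?_⟩
    rwa [mul_smul, mul_smul, inv_smul_smul, h.eqv (tv_qp hc (mem_zpowers c)) (zpowers_le.2 hx)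
      (sol_fix s hc hx n), smul_eq_zero_iff_eq] at e'
  have V2 : ∀ x y, W M 2 (stabilizer G x) = W M 2 (stabilizer G y) → ∀ v, V x v → V y v := by
    rintro x y e v ⟨nn, a, b, w, s, e'⟩
    have nn' : ∀ A ≤ stabilizer G y, ¬ Nice M 2 A := by
      obtain ⟨g, rfl⟩ := sy.tr x y
      exact st_smul g x ▸ nonice_cj nn g
    have e1 := e
    rw [W_neg nn, W_neg nn'] at e1
    have s' := sol_congr e1 s
    obtain ⟨c, hx, u, hc, n⟩ := s.ex
    have hy : c ∈ stabilizer G y := JJ_le _ _ (e1 ▸ tv_mem_JJ hc hx)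
    have q := tv_qp hc (mem_zpowers c)
    have z := h1 x y (tv_qp hc hx) e
    have x1 := zpowers_le.2 hx
    have y1 := zpowers_le.2 hy
    refine ⟨nn', a, b, w, s', fun e2 => e' ?_⟩
    rw [h.add q x1 y1 (sol_fix s hc hx n), h.add q y1 (sol_fix s' hc hy n) (sol_fix s hc hx n), z,
      e2, h.eqv q y1 x1, h.symm q x1 y1 z]
    simp
  have eqv : ∀ (g : G) x, ∑ v with V (g • x) v, v = g • ∑ v with V x v, v := fun g x => by
    rw [Finset.smul_sum]
    exact (Finset.sum_equiv (toPerm g) (fun v => by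
      simp only [Finset.mem_filter, Finset.mem_univ, true_and, toPerm_apply]
      exact ⟨V1 g x v, fun e => by simpa using V1 g⁻¹ _ _ e⟩) fun _ _ => rfl).symm
  refine ⟨fun x => ∑ v with V x v, v, eqv, fun x y q e => ?_, fun _ x nn a v b w s => ?_⟩
  · simp only [show V x = V y from funext fun v => propext ⟨V2 x y e v, V2 y x e.symm v⟩, sub_self,
      sub_zero]
    exact h1 x y q e
  have o : ∀ v', V x v' → v' ≠ v → b • v' - v' = 0 := by
    rintro v' ⟨-, a', b', w', s', -⟩ n
    rw [tv_comm s'.ta (s.cm a' s'.mem v' s'.ta fun e => n (tv_uniq s'.ta (e ▸ s.ta))), sub_self]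
  simp only [eqv]
  rw [Finset.smul_sum, ← Finset.sum_sub_distrib, sub_eq_zero]
  by_cases hv : V x v
  · rw [Finset.sum_eq_single_of_mem v (by simpa using hv) fun v' h' => o v' (by simpa using h'),
      (s.tb.alt v).resolve_left s.ne, add_sub_cancel_left]
    refine (sol_val ff h s).resolve_left fun e => ?_
    obtain ⟨-, a', b', w', s', e'⟩ := hv
    rcases tvc G M ff _ (sy.syl x) nn a a' v b b' w w' s s' with rfl | rfl
    · exact e' e
    · obtain ⟨c, hx, u, hc, n⟩ := s.ex
      have ax : a • x = x := s.mem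
      have := h.eqv (tv_qp hc (mem_zpowers c)) (zpowers_le.2 hx) (sol_fix s hc hx n) a
      rw [e, smul_zero, ax] at this
      exact e' (by rwa [mul_smul, mul_smul, inv_smul_eq_iff.2 ax.symm])
  · rw [Finset.sum_eq_zero fun v' h' => o v' (by simpa using h') fun e => hv (by simpa [e] using h')]
    by_contra e
    exact hv ⟨nn, a, b, w, s, e⟩

variable (G) in
/-- no bad subgroup of order at least `m` -/
def Good (t : X → X → M) (m : ℕ) : Prop := ∀ P : Subgroup G, Qp M P → m ≤ Nat.card P →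
  ∀ x y, P ≤ stabilizer G x → P ≤ stabilizer G y → t x y = 0

variable (G p) in
/-- no locally bad pair of order at least `m` -/
def NoLB (t : X → X → M) (m : ℕ) : Prop := ∀ P T : Subgroup G, Qp M P →
  IsSylowIn p T (normalizer (P : Set G)) → m ≤ Nat.card T → ∀ x, P ≤ stabilizer G x →
  T ≤ stabilizer G x → ∀ n ∈ normalizer (P : Set G), t x (n • x) = 0

theorem l3 (sy : Syl p G X) (h : Coc G t) {m : ℕ} (g : Good G t m) (l : NoLB G p t m)
    {P : Subgroup G} (q : Qp M P) {x : X} (hx : P ≤ stabilizer G x)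
    (hm : m ≤ Nat.card (stabilizer G x ⊓ normalizer (P : Set G) : Subgroup G)) {T : Subgroup G}
    (hT : IsSylowIn p T (normalizer (P : Set G))) {y : X} (hy : T ≤ stabilizer G y) :
    t x y = 0 := by
  have hp := (sy.syl x).isPGroup
  obtain ⟨T', hT', le⟩ := exists_isSylowIn_ge (inf_le_right : stabilizer G x ⊓ _ ≤ normalizer (P : Set G))
    (hp.to_le inf_le_left)
  obtain ⟨n, hn, rfl⟩ := hT.exists_conj hT'
  have PT := hT.le_of_norm le_normalizer (hp.to_le hx) hT.le
  have py := le_st_smul (PT.trans hy) hn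
  have z := g _ (qp_mono q (le_inf hx le_normalizer)) hm x (n • y) inf_le_left
    (le.trans (st_smul n y ▸ cj_mono n hy))
  rw [h.add q hx py (PT.trans hy), z, h.symm q (PT.trans hy) py (l P T q hT
    (by rw [← card_cj n]; exact hm.trans (card_le_of_le le)) y (PT.trans hy) hy n hn), add_zero]

theorem l3' (sy : Syl p G X) (h : Coc G t) {m : ℕ} (g : Good G t m) (l : NoLB G p t m)
    {P : Subgroup G} (q : Qp M P) {x y : X} (hx : P ≤ stabilizer G x) (hy : P ≤ stabilizer G y)
    (hm : m ≤ Nat.card (stabilizer G x ⊓ normalizer (P : Set G) : Subgroup G))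
    (hm' : m ≤ Nat.card (stabilizer G y ⊓ normalizer (P : Set G) : Subgroup G)) : t x y = 0 := by
  obtain ⟨T, hT⟩ := exists_isSylowIn p (normalizer (P : Set G))
  obtain ⟨z, hz⟩ := sy.adm.ex T hT.isPGroup
  have pz := (hT.le_of_norm le_normalizer ((sy.syl x).isPGroup.to_le hx) hT.le).trans hz
  rw [h.add q hx pz hy, l3 sy h g l q hx hm hT hz, h.symm q hy pz (l3 sy h g l q hy hm' hT hz),
    add_zero]

theorem l3n (sy : Syl p G X) (h : Coc G t) {m : ℕ} (g : Good G t m) (l : NoLB G p t m)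
    {P : Subgroup G} (q : Qp M P) {x : X} (hx : P ≤ stabilizer G x)
    (hm : m ≤ Nat.card (stabilizer G x ⊓ normalizer (P : Set G) : Subgroup G)) {n : G}
    (hn : n ∈ normalizer (P : Set G)) : t x (n • x) = 0 :=
  l3' sy h g l q hx (le_st_smul hx hn) hm (by
    rwa [st_smul, ← cj_eq_self (le_normalizer (H := normalizer (P : Set G)) hn), ← cj_inf, card_cj])

theorem card_lt {A B : Subgroup G} (h : A < B) : Nat.card A + 1 ≤ Nat.card B :=
  (card_le_of_le h.le).lt_of_ne fun e => h.ne (eq_of_le_of_card_ge h.le e.ge)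

theorem good_step (sy : Syl p G X) (h : Coc G t) (h1 : N1 G p t) {m : ℕ} (g : Good G t (m + 1))
    (l : NoLB G p t (m + 1)) : Good G t m := by
  intro P q hm x y hx hy
  by_cases e : stabilizer G x = stabilizer G y
  · exact h1 x y (qp_mono q hx) (by rw [e])
  have key : ∀ x y : X, P ≤ stabilizer G x → P ≤ stabilizer G y → stabilizer G x ≠ stabilizer G y →
      m + 1 ≤ Nat.card (stabilizer G x ⊓ normalizer (P : Set G) : Subgroup G) := fun x y hx hy e =>
    (Nat.succ_le_succ hm).trans (card_lt (lt_inf_normalizer (sy.syl x).isPGroup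
      (hx.lt_of_ne fun e' => e ((sy.syl x).max _ le_top (sy.syl y).isPGroup (e' ▸ hy)).symm)))
  exact l3' sy h g l q hx hy (key x y hx hy e) (key y x hy hx (Ne.symm e))

theorem lb_step (nrm : NormStmt.{u}) (tri : TriStmt.{u}) (tva : TvaStmt.{u}) (tvb : TvbStmt.{u})
    (sy : Syl p G X) (hM : IsPGroup p (Multiplicative M)) (ff : Ff M G) (h : Coc G t)
    (h1 : N1 G p t) (h2 : N2 G p t) {m : ℕ} (g : Good G t (m + 1)) (l : NoLB G p t (m + 1)) :
    NoLB G p t m := by
  intro P T q hT hm x hx hT' n hn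
  obtain ⟨z, hz⟩ := exists_z h hM q hx hT hT'
  have hp := (sy.syl x).isPGroup
  have PT := hT.le_of_norm le_normalizer (hp.to_le hx) hT.le
  have L : ∀ E ≤ T, Qp M E → T < stabilizer G x ⊓ normalizer (E : Set G) →
      ∀ b ∈ normalizer (E : Set G), t x (b • x) = 0 := fun E hE q' lt b hb =>
    l3n sy h g l q' (hE.trans hT') ((Nat.succ_le_succ hm).trans (card_lt lt)) hb
  have zW : z ∈ fx M (normalizer (P : Set G) ⊓ normalizer (W M p T : Set G)) := fun k hk => by
    rw [← sub_eq_zero, ← hz k hk.1]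
    rcases hT'.eq_or_lt with rfl | lt
    · exact h1 _ _ (qp_mono q hx) (by rw [st_smul, W_cj, cj_eq_self hk.2])
    · exact L _ W_le (W_qp tri hM ff hT.isPGroup (qp_mono q PT))
        ((lt_inf_normalizer hp lt).trans_le (inf_le_inf_left _ norm_W)) k hk.2
  by_contra e
  have zN : z ∉ fx M (normalizer (P : Set G)) := fun a => e (by rw [hz n hn, a n hn, sub_self])
  by_cases nn : ∃ A ≤ T, Nice M p A
  · rw [W_pos nn] at zW
    exact zN (nrm G M p hM _ T _ hT inf_le_left le_rfl zW)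
  obtain ⟨rfl, tr⟩ := (tri G M p hM ff P (hp.to_le hx) q).resolve_left
    fun ⟨A, a, b⟩ => nn ⟨A, a.trans PT, b⟩
  push Not at nn
  rw [W_neg nn] at zW
  obtain ⟨a, v, b, w, hb, bz, aP, s⟩ := tva G M ff _ T P hT PT le_rfl nn tr z zW zN
  have ne : t x (b • x) ≠ 0 := by rwa [hz b hb, sub_ne_zero]
  rcases hT'.eq_or_lt with rfl | lt
  · exact ne (h2 rfl x nn a v b w s)
  · obtain ⟨nn', s'⟩ := tvb G M ff _ T P hp lt PT hT.le nn tr a v b w aP s
      fun E hE ⟨c, hc, u, hu⟩ lt' hb' => ne (L E hE (tv_qp hu hc) lt' b hb')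
    exact ne (h2 rfl x nn' a v b w s')

end main

/-- **FIN** -/
theorem finStmt (nrm : NormStmt.{u}) (tri : TriStmt.{u}) (tva : TvaStmt.{u}) (tvb : TvbStmt.{u})
    (tvc : TvcStmt.{u}) : FinStmt.{u} := by
  intro G X M _ _ _ _ _ _ p _ sy hM ff t e1 e2
  have h : Coc G t :=
    ⟨fun q _ _ hx hy => e1 _ _ (qp_mono q fun g hg => mem_St.2 ⟨trivial, by
      simpa using And.intro (hx hg) (hy hg)⟩), fun q _ _ _ hx hy hz => e2 _ _ _
      (qp_mono q fun g hg => mem_St.2 ⟨trivial, by
        simpa using And.intro (hx hg) (And.intro (hy hg) (hz hg))⟩)⟩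
  obtain ⟨f1, a1, a2⟩ := n1 tri sy hM ff h
  obtain ⟨f2, b1, b2, b3⟩ := n2 tvc sy ff (h.sub a1) a2
  have h' := (h.sub a1).sub b1
  have key : ∀ k m, Nat.card G + 1 ≤ m + k →
      Good G (fun x y => t x y - (f1 y - f1 x) - (f2 y - f2 x)) m ∧
      NoLB G p (fun x y => t x y - (f1 y - f1 x) - (f2 y - f2 x)) m := by
    intro k
    induction k with
    | zero =>
      exact fun m hm => ⟨fun P _ a => absurd P.card_le_card_group (by omega),
        fun _ T _ _ a => absurd T.card_le_card_group (by omega)⟩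
    | succ k ih =>
      intro m hm
      obtain ⟨g, l⟩ := ih (m + 1) (by omega)
      exact ⟨good_step sy h' b2 g l, lb_step nrm tri tva tvb sy hM ff h' b2 b3 g l⟩
  refine ⟨f1 + f2, fun g x => by simp [a1, b1], fun x y q => ?_⟩
  have := (key _ 0 (zero_add _).ge).1 _ q (Nat.zero_le _) x y
    (fun g hg => (mem_St.1 hg).2 x (by simp)) fun g hg => (mem_St.1 hg).2 y (by simp)
  simp only [sub_sub _ (f1 y - f1 x), sub_eq_zero] at this
  rw [this, Pi.add_apply, Pi.add_apply]
  abel

end Cfsg.Agent.H98.ML
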