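import Cfsg.Agent.H98.Simple2
import Cfsg.Agent.H26.SLBasic

/-!
The fusion system of `SL_n(K)` in the defining characteristic.
-/

set_option autoImplicit false

namespace Cfsg.Agent.H98

open Cfsg Matrix

/-- A multiplicatively closed subset of a finite group, as a subgroup. -/
def subOfMul {G : Type*} [Group G] [Finite G] (s : Set G) (h1 : (1 : G) ∈ s)
    (hm : ∀ a ∈ s, ∀ b ∈ s, a * b ∈ s) : Subgroup G where
  carrier := s
  one_mem' := h1
  mul_mem' := fun {a b} ha hb => hm a ha b hb
  inv_mem' := fun {a} ha => by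
    have h : ∀ n : ℕ, a ^ n ∈ s := fun n => by
      induction n with
      | zero => rwa [pow_zero]
      | succ n ih => rw [pow_succ]; exact hm _ ih _ ha
    have : a⁻¹ = a ^ (orderOf a - 1) := by
      rw [inv_eq_iff_mul_eq_one, ← pow_succ', Nat.sub_add_cancel (orderOf_pos a), pow_orderOf_eq_one]
    rw [this]; exact h _

theorem mem_subOfMul {G : Type*} [Group G] [Finite G] {s : Set G} {h1 : (1 : G) ∈ s}
    {hm : ∀ a ∈ s, ∀ b ∈ s, a * b ∈ s} {x : G} : x ∈ subOfMul s h1 hm ↔ x ∈ s := Iff.rfl

namespace SLC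

variable {ι K : Type*} [Fintype ι] [DecidableEq ι] [Field K] {b : ι → ℕ}

/-- block upper triangular -/
def Up (b : ι → ℕ) (x : Matrix ι ι K) : Prop := ∀ i j, b j < b i → x i j = 0

/-- strictly block upper triangular -/
def SUp (b : ι → ℕ) (x : Matrix ι ι K) : Prop := ∀ i j, b j ≤ b i → x i j = 0

/-- block upper triangular with diagonal blocks on the diagonal -/
def Tri (b : ι → ℕ) (x : Matrix ι ι K) : Prop := ∀ i j, i ≠ j → b j ≤ b i → x i j = 0

omit [Fintype ι] in
theorem up_one : Up b (1 : Matrix ι ι K) := fun i j h => one_apply_ne (by rintro rfl; omega)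

omit [DecidableEq ι] in
theorem Up.mul {x y : Matrix ι ι K} (hx : Up b x) (hy : Up b y) : Up b (x * y) := fun i j h => by
  rw [mul_apply]
  refine Finset.sum_eq_zero fun k _ => ?_
  by_cases hk : b k < b i
  · rw [hx i k hk, zero_mul]
  · rw [hy k j (by omega), mul_zero]

omit [DecidableEq ι] in
theorem Up.mul_sup {x y : Matrix ι ι K} (hx : Up b x) (hy : SUp b y) : SUp b (x * y) :=
  fun i j h => by
  rw [mul_apply]
  refine Finset.sum_eq_zero fun k _ => ?_
  by_cases hk : b k < b i
  · rw [hx i k hk, zero_mul]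
  · rw [hy k j (by omega), mul_zero]

omit [DecidableEq ι] in
theorem SUp.mul_up {x y : Matrix ι ι K} (hx : SUp b x) (hy : Up b y) : SUp b (x * y) :=
  fun i j h => by
  rw [mul_apply]
  refine Finset.sum_eq_zero fun k _ => ?_
  by_cases hk : b k ≤ b i
  · rw [hx i k hk, zero_mul]
  · rw [hy k j (by omega), mul_zero]

omit [Fintype ι] in
theorem SUp.up_of_sub_one {x : Matrix ι ι K} (hx : SUp b (x - 1)) : Up b x := fun i j h => by
  have := hx i j h.le
  rwa [Matrix.sub_apply, up_one i j h, sub_zero] at this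

theorem SUp.pow {x : Matrix ι ι K} (hx : SUp b x) (m : ℕ) :
    ∀ i j, b j < b i + m → (x ^ m) i j = 0 := by
  induction m with
  | zero => intro i j h; rw [pow_zero]; exact up_one i j h
  | succ m ih =>
    intro i j h
    rw [pow_succ, mul_apply]
    refine Finset.sum_eq_zero fun k _ => ?_
    by_cases hk : b k < b i + m
    · rw [ih i k hk, zero_mul]
    · rw [hx k j (by omega), mul_zero]

omit [DecidableEq ι] in
theorem Tri.mul {x y : Matrix ι ι K} (hx : Tri b x) (hy : Tri b y) :
    Tri b (x * y) ∧ ∀ i, (x * y) i i = x i i * y i i := by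
  refine ⟨fun i j hij h => ?_, fun i => ?_⟩
  · rw [mul_apply]
    refine Finset.sum_eq_zero fun k _ => ?_
    by_cases hk : i ≠ k ∧ b k ≤ b i
    · rw [hx i k hk.1 hk.2, zero_mul]
    · rw [hy k j (by rintro rfl; exact hk ⟨hij, h⟩)
        (by by_cases hik : i = k; · exact hik ▸ h
            · have : ¬ b k ≤ b i := fun h' => hk ⟨hik, h'⟩
              omega), mul_zero]
  · rw [mul_apply]
    refine Finset.sum_eq_single i (fun k _ hk => ?_) (by simp)
    by_cases h : b k ≤ b i
    · rw [hx i k hk.symm h, zero_mul]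
    · rw [hy k i hk (by omega), mul_zero]

theorem Tri.pow {x : Matrix ι ι K} (hx : Tri b x) (m : ℕ) :
    Tri b (x ^ m) ∧ ∀ i, (x ^ m) i i = x i i ^ m := by
  induction m with
  | zero => exact ⟨fun i j h _ => by rw [pow_zero, one_apply_ne h], fun i => by simp⟩
  | succ m ih =>
    rw [pow_succ]
    exact ⟨(ih.1.mul hx).1, fun i => by rw [(ih.1.mul hx).2, ih.2, pow_succ]⟩

/-- the matrix of an element of `SL` -/
abbrev mt : SpecialLinearGroup ι K →* Matrix ι ι K := Matrix.SpecialLinearGroup.coeMonoidHom

theorem mt_inj {x y : SpecialLinearGroup ι K} (h : mt x = mt y) : x = y := Subtype.ext h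

theorem mt_tv {i j : ι} (h : i ≠ j) (c : K) :
    mt (SpecialLinearGroup.transvection h c) = 1 + single i j c := rfl

variable [Finite K]

/-- the parabolic subgroup -/
def par (K : Type*) [Field K] [Finite K] (b : ι → ℕ) : Subgroup (SpecialLinearGroup ι K) :=
  subOfMul {g | Up b (mt g)} up_one fun _ ha _ hb => Up.mul ha hb

/-- its unipotent radical -/
def rad (K : Type*) [Field K] [Finite K] (b : ι → ℕ) : Subgroup (SpecialLinearGroup ι K) :=
  subOfMul {g | SUp b (mt g - 1)} (fun i j _ => by simp) fun x hx y hy i j h => by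
    have : mt (x * y) - 1 = (mt x - 1) * mt y + (mt y - 1) := by
      rw [map_mul]; noncomm_ring
    rw [this, Matrix.add_apply, SUp.mul_up hx (SUp.up_of_sub_one hy) i j h, hy i j h, add_zero]

theorem mem_par {g : SpecialLinearGroup ι K} : g ∈ par K b ↔ Up b (mt g) := Iff.rfl

theorem mem_rad {g : SpecialLinearGroup ι K} : g ∈ rad K b ↔ SUp b (mt g - 1) := Iff.rfl

theorem conj_mem_rad {g x : SpecialLinearGroup ι K} (hg : g ∈ par K b) (hx : x ∈ rad K b) :
    g * x * g⁻¹ ∈ rad K b := by
  have h : mt (g * x * g⁻¹) - 1 = mt g * (mt x - 1) * mt g⁻¹ := by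
    rw [mul_sub, sub_mul, mul_one, ← map_mul mt g g⁻¹, mul_inv_cancel, map_mul, map_mul, map_one]
  rw [mem_rad, h]
  exact (Up.mul_sup hg hx).mul_up ((par K b).inv_mem hg)

variable {p : ℕ} [Fact p.Prime] [CharP K p]

theorem rad_isPGroup : IsPGroup p (rad K b) := by
  rintro ⟨x, hx⟩
  cases isEmpty_or_nonempty ι
  · exact ⟨0, Subsingleton.elim _ _⟩
  set m := Finset.univ.sup b + 1
  have h1 : (mt x - 1) ^ p ^ m = 0 := by
    ext i j
    refine SUp.pow hx _ i j ?_
    have := Finset.le_sup (f := b) (Finset.mem_univ j)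
    have := Nat.lt_pow_self (n := m) (Fact.out : p.Prime).one_lt
    omega
  rw [sub_pow_char_pow_of_commute _ _ (Commute.one_right _), one_pow, sub_eq_zero] at h1
  exact ⟨m, Subtype.ext (mt_inj (by rw [← map_pow] at h1; exact h1))⟩

theorem Tri.mem_rad {x : SpecialLinearGroup ι K} (hx : Tri b (mt x)) {k : ℕ} (h : x ^ p ^ k = 1) :
    x ∈ rad K b := by
  intro i j hij
  by_cases e : i = j
  · subst e
    have h1 := (hx.pow (p ^ k)).2 i
    rw [← map_pow, h, map_one] at h1
    have h2 : (mt x i i - 1) ^ p ^ k = 0 := by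
      rw [sub_pow_char_pow, ← h1]; simp
    simpa using pow_eq_zero_iff'.1 h2 |>.1
  · rw [Matrix.sub_apply, hx i j e hij, one_apply_ne e, sub_zero]

omit [Fact p.Prime] [CharP K p] in
theorem transvection_mem_rad {i j : ι} (h : i ≠ j) (hb : b i < b j) (c : K) :
    SpecialLinearGroup.transvection h c ∈ rad K b := fun k l hkl => by
  rw [mt_tv, add_sub_cancel_left, single_apply_of_ne]
  rintro ⟨rfl, rfl⟩
  omega

omit [Fact p.Prime] [CharP K p] in
theorem transvection_mem_par {i j : ι} (h : i ≠ j) (hb : b i ≤ b j) (c : K) :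
    SpecialLinearGroup.transvection h c ∈ par K b := fun k l hkl => by
  rw [mt_tv, Matrix.add_apply, up_one k l hkl, zero_add, single_apply_of_ne]
  rintro ⟨rfl, rfl⟩
  omega

omit [Finite K] in
theorem transvection_pow_char {i j : ι} (h : i ≠ j) (c : K) :
    SpecialLinearGroup.transvection h c ^ p ^ 1 = 1 := by
  have : ∀ m : ℕ, SpecialLinearGroup.transvection h c ^ m =
      SpecialLinearGroup.transvection h (m * c) := fun m => by
    induction m with
    | zero => simp
    | succ m ih => rw [pow_succ, ih, ← SpecialLinearGroup.transvection_add]; congr 1; push_cast; ring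
  rw [this, pow_one, CharP.cast_eq_zero, zero_mul, SpecialLinearGroup.transvection_coeff_zero]

omit [Finite K] [Fact p.Prime] [CharP K p] in
theorem of_comm_transvection {x : SpecialLinearGroup ι K} {i j : ι} (h : i ≠ j)
    (hx : x * SpecialLinearGroup.transvection h 1 = SpecialLinearGroup.transvection h 1 * x) :
    (∀ k, k ≠ i → mt x k i = 0) ∧ ∀ l, l ≠ j → mt x j l = 0 := by
  have h1 : mt x * single i j (1 : K) = single i j (1 : K) * mt x := by
    have := congrArg mt hx
    simp only [map_mul, mt_tv, mul_add, add_mul, mul_one, one_mul] at this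
    exact add_left_cancel this
  refine ⟨fun k hk => ?_, fun l hl => ?_⟩
  · have := congrFun (congrFun h1 k) j
    rwa [mul_single_apply_same, single_mul_apply_of_ne _ _ _ _ _ hk, mul_one] at this
  · have := congrFun (congrFun h1 i) l
    rw [single_mul_apply_same, mul_single_apply_of_ne _ _ _ _ _ hl, one_mul] at this
    exact this.symm

theorem rad_centric {i₀ j₀ : ι} (h0 : b i₀ < b j₀) (x : SpecialLinearGroup ι K)
    (hx : ∀ y ∈ rad K b, x * y * x⁻¹ = y) (hp : ∃ k, x ^ p ^ k = 1) : x ∈ rad K b := by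
  obtain ⟨k, hk⟩ := hp
  have key : ∀ i j, b i < b j → (∀ k, k ≠ i → mt x k i = 0) ∧ ∀ l, l ≠ j → mt x j l = 0 :=
    fun i j h => of_comm_transvection (i := i) (j := j) (by rintro rfl; omega)
      (mul_inv_eq_iff_eq_mul.1 (hx _ (transvection_mem_rad _ h 1)))
  refine Tri.mem_rad (fun i j hij h => ?_) hk
  by_cases hj : b j < b j₀
  · exact (key j j₀ hj).1 i hij
  · exact (key i₀ i (by omega)).2 j hij.symm

/-! ### the Borel subgroup -/

variable {n : ℕ}

omit [Fact p.Prime] [CharP K p] in
theorem rad_le_of_monotone {c : Fin n → ℕ} (hc : Monotone c) : rad K c ≤ rad K Fin.val :=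
  fun _ hx i j h => hx i j (hc h)

omit [Fact p.Prime] [CharP K p] in
theorem par_le_of_monotone {c : Fin n → ℕ} (hc : Monotone c) : par K Fin.val ≤ par K c :=
  fun _ hx i j h => hx i j (hc.reflect_lt h)

omit [Fact p.Prime] [CharP K p] in
theorem tri_of_mem_par {g : SpecialLinearGroup (Fin n) K} (hg : g ∈ par K Fin.val) :
    Tri Fin.val (mt g) := fun i j hij h => hg i j (lt_of_le_of_ne h fun e => hij (Fin.ext e.symm))

/-- a regular unipotent element -/
def reg (n : ℕ) (K : Type*) [Field K] : SpecialLinearGroup (Fin n) K :=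
  ⟨of fun i j => if i ≤ j then 1 else 0, by
    rw [det_of_isUpperTriangular fun i j (h : j < i) => by simp [h.not_ge]]; simp⟩

omit [Finite K] [Fact p.Prime] [CharP K p] in
theorem reg_sub_one (i j : Fin n) : (mt (reg n K) - 1) i j = if i < j then 1 else 0 := by
  show (if i ≤ j then (1 : K) else 0) - (1 : Matrix (Fin n) (Fin n) K) i j = _
  rcases lt_trichotomy i j with h | rfl | h
  · simp [h, h.le, h.ne]
  · simp
  · simp [h.not_ge, h.not_gt, h.ne']

omit [Fact p.Prime] [CharP K p] in
theorem reg_mem : reg n K ∈ rad K Fin.val := fun i j h => by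
  rw [reg_sub_one, if_neg (not_lt.2 (Fin.le_def.2 h))]

omit [Fact p.Prime] [CharP K p] in
theorem mem_par_of_conj_reg {g : SpecialLinearGroup (Fin n) K}
    (h : g * reg n K * g⁻¹ ∈ rad K Fin.val) : g ∈ par K Fin.val := by
  have e : mt g * (mt (reg n K) - 1) = (mt (g * reg n K * g⁻¹) - 1) * mt g := by
    rw [mul_sub, sub_mul, ← map_mul, ← map_mul, inv_mul_cancel_right, mul_one, one_mul]
  have key : ∀ m, ∀ i j : Fin n, j.val + 2 * (n - i.val) = m → j.val < i.val → mt g i j = 0 := by
    intro m
    induction m using Nat.strong_induction_on with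
    | _ m ih =>
      intro i j hm hji
      have hi := i.2
      have := congrFun (congrFun e i) ⟨j.val + 1, by omega⟩
      rw [mul_apply, mul_apply, Finset.sum_eq_single j (fun k _ hk => ?_) (by simp),
        Finset.sum_eq_zero fun l _ => ?_, reg_sub_one, if_pos (by simp [Fin.lt_def]),
        mul_one] at this
      · exact this
      · by_cases hl : l.val ≤ i.val
        · rw [h i l hl, zero_mul]
        · have := l.2
          rw [ih _ (by simp only; omega) l _ rfl (by simp only; omega), mul_zero]
      · rw [reg_sub_one]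
        split_ifs with hk'
        · have h1 : k.val ≠ j.val := fun e => hk (Fin.ext e)
          rw [Fin.lt_def] at hk'
          simp only at hk'
          rw [ih _ (by omega) i k rfl (by omega), zero_mul]
        · rw [mul_zero]
  exact fun i j hji => key _ i j rfl hji

theorem sylIn_rad : SylIn p (rad K (Fin.val : Fin n → ℕ)) ⊤ :=
  sylIn_of_normalizer le_top rad_isPGroup fun _ _ hg ⟨_, hk⟩ =>
    (tri_of_mem_par (mem_par_of_conj_reg (hg _ reg_mem))).mem_rad hk

omit [Fact p.Prime] [CharP K p] in
theorem rad_le_of_transvection {T : Subgroup (SpecialLinearGroup (Fin n) K)}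
    (hT : ∀ i j (h : i < j) c, SpecialLinearGroup.transvection h.ne c ∈ T) :
    rad K Fin.val ≤ T := by
  classical
  have key : ∀ m, ∀ g ∈ rad K (Fin.val : Fin n → ℕ),
      (Finset.univ.filter fun x : Fin n × Fin n => (mt g - 1) x.1 x.2 ≠ 0).card = m → g ∈ T := by
    intro m
    induction m using Nat.strong_induction_on with
    | _ m ih =>
      intro g hg hm
      set A := Finset.univ.filter fun x : Fin n × Fin n => (mt g - 1) x.1 x.2 ≠ 0 with hA
      rcases A.eq_empty_or_nonempty with h0 | h0
      · have : g = 1 := mt_inj (by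
          rw [map_one, ← sub_eq_zero]
          ext i j
          simpa using Finset.filter_eq_empty_iff.1 h0 (Finset.mem_univ (i, j)))
        rw [this]; exact T.one_mem
      obtain ⟨⟨i, j⟩, hij, hmax⟩ := A.exists_max_image (fun x => x.1) h0
      have hc : (mt g - 1) i j ≠ 0 := (Finset.mem_filter.1 hij).2
      have hlt : i < j := lt_of_not_ge fun h => hc (hg i j h)
      have hrow : ∀ l, mt g j l = (1 : Matrix (Fin n) (Fin n) K) j l := fun l => by
        by_contra hne
        exact (hmax (j, l) (Finset.mem_filter.2 ⟨Finset.mem_univ _, sub_ne_zero.2 hne⟩)).not_gt hlt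
      set c := (mt g - 1) i j
      have e : mt (SpecialLinearGroup.transvection hlt.ne (-c) * g) - 1 =
          mt g - 1 + single i j (-c) := by
        have : single i j (-c) * mt g = single i j (-c) := by
          ext a l
          by_cases ha : a = i
          · subst ha
            rw [single_mul_apply_same, hrow]
            by_cases hl : j = l
            · subst hl; simp
            · simp [hl]
          · rw [single_mul_apply_of_ne _ _ _ _ _ ha, single_apply_of_ne _ _ _ _ _ (by tauto)]
        rw [map_mul, mt_tv, add_mul, one_mul, this]; abel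
      have h1 := ih _ ?_ _ ((rad K _).mul_mem (transvection_mem_rad hlt.ne hlt (-c)) hg) rfl
      · exact (T.mul_mem_cancel_left (hT i j hlt _)).1 h1
      rw [← hm]
      refine Finset.card_lt_card ⟨fun x hx => ?_, fun hsub => ?_⟩
      · have hx' := (Finset.mem_filter.1 hx).2
        refine Finset.mem_filter.2 ⟨Finset.mem_univ _, fun h0 => hx' ?_⟩
        rw [e, Matrix.add_apply, h0, zero_add, single_apply_of_ne]
        rintro ⟨h1, h2⟩
        exact hc (by rw [← h0, ← h1, ← h2])
      · have := (Finset.mem_filter.1 (hsub hij)).2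
        rw [e, Matrix.add_apply] at this
        exact this (by simp [c])
  exact fun g hg => key _ g hg rfl

omit [Fact p.Prime] [CharP K p] in
theorem rad_le_of_closed (hn : 3 ≤ n) {T : Subgroup (SpecialLinearGroup (Fin n) K)}
    (hT : T ≤ rad K Fin.val) {z : SpecialLinearGroup (Fin n) K} (hz : z ∈ T) (hz1 : z ≠ 1)
    (hc : ∀ s ∈ rad K Fin.val, s * z = z * s)
    (h : ∀ x ∈ T, ∀ g, g * x * g⁻¹ ∈ rad K Fin.val → g * x * g⁻¹ ∈ T) : rad K Fin.val ≤ T := by
  have L1 : ∀ (a b i : Fin n) (hab : a < b) (hib : i < b) (hia : i ≠ a) (c : K), c ≠ 0 →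
      SpecialLinearGroup.transvection hab.ne c ∈ T → ∀ d,
        SpecialLinearGroup.transvection hib.ne d ∈ T := fun a b i hab hib hia c hc0 hx d => by
    have e := H26.commutator_transvection hib.ne hia hab.ne (d / c) c
    rw [div_mul_cancel₀ _ hc0, commutatorElement_def] at e
    rw [← e]
    refine T.mul_mem (h _ hx _ ?_) (T.inv_mem hx)
    rw [mul_inv_eq_iff_eq_mul.1 e]
    exact (rad K _).mul_mem (transvection_mem_rad _ hib _) (hT hx)
  have L2 : ∀ (a b j : Fin n) (hab : a < b) (haj : a < j) (hbj : b ≠ j) (c : K), c ≠ 0 →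
      SpecialLinearGroup.transvection hab.ne c ∈ T → ∀ d,
        SpecialLinearGroup.transvection haj.ne d ∈ T := fun a b j hab haj hbj c hc0 hx d => by
    have e := H26.commutator_transvection haj.ne hab.ne hbj c (d / c)
    rw [mul_div_cancel₀ _ hc0, commutatorElement_def, mul_assoc, mul_assoc, ← mul_assoc _ _⁻¹] at e
    rw [← e]
    refine T.mul_mem hx (h _ (T.inv_mem hx) _ ?_)
    rw [eq_inv_mul_iff_mul_eq.2 e]
    exact (rad K _).mul_mem ((rad K _).inv_mem (hT hx)) (transvection_mem_rad _ haj _)
  obtain ⟨m, rfl⟩ : ∃ m, n = m + 3 := ⟨n - 3, by omega⟩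
  have h0 : (0 : Fin (m + 3)) < Fin.last _ := Fin.last_pos
  have h1 : (1 : Fin (m + 3)) < Fin.last _ := by simp [Fin.lt_def]
  have key : ∀ (i j : Fin (m + 3)) (h : i < j),
      (∀ k, k ≠ i → mt z k i = 0) ∧ ∀ l, l ≠ j → mt z j l = 0 := fun i j hij =>
    of_comm_transvection hij.ne (hc _ (transvection_mem_rad _ hij 1)).symm
  have ez : z = SpecialLinearGroup.transvection h0.ne (mt z 0 (Fin.last _)) := mt_inj (by
    rw [mt_tv, ← sub_eq_iff_eq_add']
    ext i j
    by_cases hij : j ≤ i
    · rw [hT hz i j hij, single_apply_of_ne]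
      rintro ⟨rfl, rfl⟩
      exact hij.not_gt h0
    have hij' := (not_le.1 hij).ne
    rw [Matrix.sub_apply, one_apply_ne hij', sub_zero]
    by_cases hi : 0 = i
    · by_cases hj : Fin.last _ = j
      · subst hi hj; simp
      · rw [(key j _ (lt_of_le_of_ne (Fin.le_last j) (Ne.symm hj))).1 i hij',
          single_apply_of_ne _ _ _ _ _ (by tauto)]
    · rw [(key 0 i (lt_of_le_of_ne (Fin.zero_le i) hi)).2 j hij'.symm,
        single_apply_of_ne _ _ _ _ _ (by tauto)])
  have hc0 : mt z 0 (Fin.last _) ≠ 0 := fun e => hz1 (by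
    rw [ez, e, SpecialLinearGroup.transvection_coeff_zero])
  have R1 := L1 0 _ 1 h0 h1 (by simp) _ hc0 (ez ▸ hz)
  have R2 : ∀ i (hi : i < Fin.last _) d, SpecialLinearGroup.transvection hi.ne d ∈ T :=
    fun i hi d => by
      by_cases e : i = 1
      · subst e; exact R1 d
      · exact L1 1 _ i h1 hi e 1 one_ne_zero (R1 1) d
  refine rad_le_of_transvection fun i j hij d => ?_
  by_cases e : Fin.last _ = j
  · subst e; exact R2 i hij d
  · have hi := lt_of_lt_of_le hij (Fin.le_last j)
    exact L2 i _ j hi hij e 1 one_ne_zero (R2 i hi 1) d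

theorem par_le_good (hn : 3 ≤ n)
    {N : Subgroup (SpecialLinearGroup (Fin n) K) → Subgroup (SpecialLinearGroup (Fin n) K)}
    (hN : GoodFam p ⊤ (rad K Fin.val) N) : par K Fin.val ≤ N (rad K Fin.val) := by
  have hd : ∀ (i j : Fin n) (h : i ≠ j) a ha, SpecialLinearGroup.diag2n h a ha ∈ par K (Fin.val : Fin n → ℕ) :=
    fun i j h a ha k l hkl => diagonal_apply_ne _ (by rintro rfl; omega)
  have h2 : ∀ (i j : Fin n) (h : i ≠ j), j.val = i.val + 1 → ∀ a ha,
      SpecialLinearGroup.diag2n h a ha ∈ N (rad K Fin.val) := fun i j h hij a ha => by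
    set t := if i.val = 0 then 2 else 1
    set c : Fin n → ℕ := fun k => if k.val < t then 0 else 1
    have hc : Monotone c := fun k l hkl => by
      have : k.val ≤ l.val := hkl
      simp only [c]; split_ifs <;> omega
    have hcij : c i = c j := by simp only [c, t]; split_ifs <;> omega
    have h01 : c ⟨0, by omega⟩ < c ⟨2, by omega⟩ := by simp only [c, t]; split_ifs <;> omega
    refine hN.extend (rad K c) _ (rad_le_of_monotone hc) le_rfl
      (fun x _ => rad_centric h01 x) _ ?_ fun x hx => conj_mem_rad (hd _ _ _ _ _) hx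
    have ht : ∀ (k l : Fin n) (h : k ≠ l), c k ≤ c l → ∀ d,
        SpecialLinearGroup.transvection h d ∈ N (rad K c) := fun k l h hkl d =>
      hN.pElt _ (rad_le_of_monotone hc) _ trivial
        (fun x hx => conj_mem_rad (transvection_mem_par h hkl d) hx) ⟨1, transvection_pow_char h d⟩
    rw [H26.diag2n_decompose]
    iterate 5 refine Subgroup.mul_mem _ ?_ (ht _ _ _ (by omega) _)
    exact ht _ _ _ hcij.le _
  have key : ∀ m, m < n → ∀ g ∈ par K (Fin.val : Fin n → ℕ), (∀ i, m < i.val → mt g i i = 1) →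
      g ∈ N (rad K Fin.val) := by
    intro m
    induction m with
    | zero =>
      intro hm g hg h
      refine hN.mem_self sylIn_rad fun i j hij => ?_
      by_cases e : i = j
      · subst e
        rw [Matrix.sub_apply, one_apply_eq, sub_eq_zero]
        by_cases hi : 0 < i.val
        · exact h i hi
        have h1 : (mt g).det = 1 := g.2
        rwa [det_of_isUpperTriangular fun i j (h : j < i) => hg i j h,
          Finset.prod_eq_single i (fun k _ hk => h k (by
            have : k.val ≠ i.val := fun e => hk (Fin.ext e)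
            omega)) (by simp)] at h1
      · rw [Matrix.sub_apply, tri_of_mem_par hg i j e hij, one_apply_ne e, sub_zero]
    | succ m ih =>
      intro hm g hg h
      have hne : (⟨m, by omega⟩ : Fin n) ≠ ⟨m + 1, hm⟩ := by simp
      have ha : mt g ⟨m + 1, hm⟩ ⟨m + 1, hm⟩ ≠ 0 := fun e => by
        have h1 : (mt g).det = 1 := g.2
        rw [det_of_isUpperTriangular fun i j (h : j < i) => hg i j h,
          Finset.prod_eq_zero (f := fun i => mt g i i) (Finset.mem_univ _) e] at h1
        exact zero_ne_one h1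
      refine (Subgroup.mul_mem_cancel_left _ (h2 _ _ hne rfl _ ha)).1
        (ih (by omega) _ ((par K _).mul_mem (hd _ _ _ _ _) hg) fun i hi => ?_)
      rw [map_mul, ((tri_of_mem_par (hd _ _ hne _ ha)).mul (tri_of_mem_par hg)).2]
      show diagonal _ i i * _ = _
      rw [diagonal_apply_eq, if_neg (by rintro rfl; simp at hi)]
      split_ifs with e
      · rw [e, inv_mul_cancel₀ ha]
      · rw [one_mul, h i (by have : i.val ≠ m + 1 := fun e' => e (Fin.ext e'); omega)]
  exact fun g hg => key (n - 1) (by omega) g hg fun i hi => by have := i.2; omega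

theorem sl_isSimple (hn : 3 ≤ n) (R : Sylow p (SpecialLinearGroup (Fin n) K)) :
    (groupFusionSystem (R : Subgroup (SpecialLinearGroup (Fin n) K))).IsSimple p := by
  refine group_isSimple_of_good' sylIn_rad (fun h => ?_)
    (fun N hN g hg _ => par_le_good hn hN (mem_par_of_conj_reg (hg _ reg_mem)))
    (fun T hT z hz hz1 _ hc h => rad_le_of_closed hn hT hz hz1 hc h) R
  have h1 := reg_mem (n := n) (K := K)
  rw [h, Subgroup.mem_bot] at h1
  have := reg_sub_one (K := K) (⟨0, by omega⟩ : Fin n) ⟨1, by omega⟩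
  rw [h1, map_one, sub_self, if_pos (by simp [Fin.lt_def])] at this
  exact zero_ne_one this

end SLC

end Cfsg.Agent.H98
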