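import Mathlib
import Cfsg.Agent.H17.KnDefs

/-!
# Inclusions, normality and generators in the model
-/

set_option autoImplicit false
set_option maxRecDepth 100000
set_option synthInstance.maxSize 2000

namespace Cfsg.Agent.H98.KnM2a

open Equiv Subgroup Cfsg.Agent.H11.A16 Cfsg.Agent.H17.Kn

theorem par_eq (u : N2) :
    par u = u.f 0 + u.f 1 + u.f 2 + u.f 3 + u.f 4 + u.f 5 + u.f 6 + u.f 7 := by
  rw [par, Fin.sum_univ_eight]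

theorem aff4 {f : P → ZMod 2} (h : ∀ p q r, f (p ^^^ q ^^^ r) = f p + f q + f r) :
    f 3 = f 0 + f 1 + f 2 ∧ f 5 = f 0 + f 1 + f 4 ∧ f 6 = f 0 + f 2 + f 4 ∧
      f 7 = f 1 + f 2 + f 4 := ⟨h 0 1 2, h 0 1 4, h 0 2 4, h 1 2 4⟩

theorem fun8 {α : Type} (f : P → α) : f = ![f 0, f 1, f 2, f 3, f 4, f 5, f 6, f 7] := by
  funext p; fin_cases p <;> rfl

theorem aff_of4 {f : P → ZMod 2} (h : f 3 = f 0 + f 1 + f 2 ∧ f 5 = f 0 + f 1 + f 4 ∧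
    f 6 = f 0 + f 2 + f 4 ∧ f 7 = f 1 + f 2 + f 4) (p q r : P) :
    f (p ^^^ q ^^^ r) = f p + f q + f r := by
  have e := fun8 f
  rw [h.1, h.2.1, h.2.2.1, h.2.2.2] at e
  revert e
  generalize f 0 = a; generalize f 1 = b; generalize f 2 = c; generalize f 4 = d
  rintro rfl
  revert a b c d p q r; decide +kernel

theorem QK_EV : QK ≤ EV := fun u hu => by
  obtain ⟨a, b, c, d⟩ := aff4 hu.2
  show par u = 0
  rw [par_eq, a, b, c, d]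
  generalize u.f 0 = a; generalize u.f 1 = b; generalize u.f 2 = c; generalize u.f 4 = d
  revert a b c d; decide

theorem FI_EV : FI ≤ EV := fun u hu => by
  have a : u.f 1 = u.f 0 := hu.2 0
  have b : u.f 3 = u.f 2 := hu.2 2
  have c : u.f 5 = u.f 4 := hu.2 4
  have d : u.f 7 = u.f 6 := hu.2 6
  show par u = 0
  rw [par_eq, a, b, c, d]
  generalize u.f 0 = a; generalize u.f 2 = b; generalize u.f 4 = c; generalize u.f 6 = d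
  revert a b c d; decide

theorem TR_eq {σ : Perm P} (h : σ ∈ TR) : σ = x (σ 0) := Equiv.ext h

theorem TR_T : TR ≤ T' := fun σ h => by
  rw [TR_eq h]; generalize σ 0 = s; revert s; decide +kernel

theorem TR_AG : TR ≤ AG := fun σ h => by
  rw [TR_eq h]; generalize σ 0 = s; revert s; decide +kernel

theorem TR_TV : TR ≤ TV := fun σ h => by
  rw [TR_eq h]; generalize σ 0 = s; revert s; decide +kernel

theorem mem_PP {u : N2} : u ∈ PP ↔ u.σ = 1 := Iff.rfl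

theorem PP_σ {u : N2} (h : u ∈ PP) (K : Subgroup (Perm P)) : u.σ ∈ K := by
  rw [mem_PP.1 h]; exact one_mem _

theorem JJ_S2 : JJ ≤ S2 := fun u hu => ⟨JJ_x hu, fun p q h => by
  have a := mem_JJ.1 hu p; have b := mem_JJ.1 hu q
  change (u.σ p).1 / 4 = (u.σ q).1 / 4
  revert h a b; generalize u.σ p = s; generalize u.σ q = t; revert p q s t; decide +kernel⟩

theorem JJ_HH {u : N2} (hu : u ∈ JJ) : u.σ ∈ HH := fun p => by
  have a := mem_JJ.1 hu p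
  revert a; generalize u.σ p = s; revert p s; decide

theorem JJ_TV {u : N2} (hu : u ∈ JJ) : u.σ ∈ TV := fun p => by
  have a := mem_JJ.1 hu p; have b := mem_JJ.1 hu 0
  revert a b; generalize u.σ p = s; generalize u.σ 0 = t; revert p s t; decide +kernel

theorem AA_QK : AA ≤ QK := fun u hu => (AA_le_T0 hu).1

theorem AA_FI : AA ≤ FI := fun u hu =>
  ⟨(TR_T hu.1).1, fun p => (hu.2 _).trans (hu.2 p).symm⟩

theorem AA_DD : AA ≤ DD := fun u hu => ⟨⟨AA_le_T0 hu, AA_FI hu⟩, TR_TV hu.1⟩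

theorem VV_AA : VV ≤ AA := fun u hu => ⟨hu.1.1, fun p => (hu.2 p).trans (hu.2 0).symm⟩

theorem T0_T1 : T0 ≤ T1 := fun u hu => ⟨⟨hu.1.1, QK_EV hu.1⟩, hu.2⟩

theorem AE_T1 : AE ≤ T1 := fun u hu => ⟨⟨TR_AG hu.1, hu.2⟩, TR_T hu.1⟩

theorem EE_AE : EE ≤ AE := fun u hu => ⟨PP_σ hu.1 TR, hu.2⟩

theorem PP_JJ : PP ≤ JJ := fun u hu => PP_σ hu BL

theorem AP_T0 : AP ≤ T0 := fun u hu => ⟨hu.1, PP_σ hu.2 T'⟩

theorem le : AP ≤ EE ∧ QQ ≤ T0 ∧ QQ ≤ AE ∧ AA ≤ QQ ∧ AP ≤ QQ ∧ EE ≤ AE ∧ AE ≤ T1 ∧ T0 ≤ T1 ∧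
    T1 ≤ SE ∧ QK ≤ QE ∧ PP ≤ JJ ∧ JJ ≤ S2 ∧ FF ≤ SE ∧ E1 ≤ F1 ∧ U1 ≤ F1 ∧ U1 ≤ DD ∧ VV ≤ AA ∧
    VV ≤ DD ∧ AA ≤ DD ∧ U1 ≤ UU ∧ FF ≤ YY ∧ XX ≤ YY ∧ YY ≤ SE ∧ PI ≤ U1 ∧ ∀ i, FF ≤ JI i :=
  ⟨fun _ h => ⟨h.2, QK_EV h.1⟩, fun _ h => ⟨h.2, TR_T h.1⟩, fun _ h => ⟨h.1, QK_EV h.2⟩,
    fun _ h => ⟨h.1, AA_QK h⟩, fun _ h => ⟨PP_σ h.2 TR, h.1⟩, EE_AE, AE_T1, T0_T1,
    fun _ h => ⟨h.2, h.1.2⟩, fun _ h => ⟨h.1, QK_EV h⟩, PP_JJ, JJ_S2,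
    fun _ h => ⟨JJ_S2 h.1, FI_EV h.2⟩, fun _ h => ⟨AE_T1 (EE_AE h.1), h.2⟩,
    fun _ h => ⟨T0_T1 h.1, h.2⟩, fun _ h => ⟨⟨h.1, h.2.2⟩, JJ_TV h.2.1⟩, VV_AA,
    VV_AA.trans AA_DD, AA_DD, fun _ h => ⟨⟨h.1, h.2.2⟩, JJ_HH h.2.1⟩,
    fun _ h => ⟨JJ_S2 h.1, h.2⟩, fun _ h => ⟨h.1.2, h.2⟩, fun _ h => ⟨h.1, FI_EV h.2⟩,
    fun _ h => ⟨AA_le_T0 h.1, h.2⟩, fun i _ h => ⟨h.1, h.2.2 (pa i)⟩⟩

/-! ### Normality -/

theorem cσ (m u : N2) (p : P) : (m * u * m⁻¹).σ p = m.σ (u.σ (m.σ⁻¹ p)) := rfl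

theorem cf (m u : N2) (p : P) :
    (m * u * m⁻¹).f p = m.f (m.σ⁻¹ p) + (u.f (m.σ⁻¹ p) + m.f (u.σ (m.σ⁻¹ p))) := rfl

theorem par_inv (m : N2) : par m⁻¹ = par m := Equiv.sum_comp m.σ⁻¹ m.f

theorem nPP (m u : N2) (h : u ∈ PP) : m * u * m⁻¹ ∈ PP :=
  (MonoidHom.normal_ker π2).conj_mem u h m

theorem nEV (m u : N2) (h : u ∈ EV) : m * u * m⁻¹ ∈ EV := by
  show par _ = 0
  rw [par_mul, par_mul, par_inv, show par u = 0 from h, add_zero, z2add]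

theorem nJJ {m u : N2} (hm : m ∈ S2) (h : u ∈ JJ) : m * u * m⁻¹ ∈ JJ := mem_JJ.2 fun p => by
  have hm1 : ∀ p, m.σ (x 1 p) = x 1 (m.σ p) := hm.1
  rw [cσ]
  rcases mem_JJ.1 h (m.σ⁻¹ p) with e | e <;> rw [e]
  · exact Or.inl (app_inv _ _)
  · rw [hm1, app_inv]; exact Or.inr rfl

theorem inv_x {m : N2} (hm : m ∈ S2) (p : P) : m.σ⁻¹ (x 1 p) = x 1 (m.σ⁻¹ p) :=
  (inv_mem hm).1 p

theorem nFF {m u : N2} (hm : m ∈ S2) (h : u ∈ FF) : m * u * m⁻¹ ∈ FF := by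
  refine ⟨nJJ hm h.1, JJ_x (nJJ hm h.1), fun p => ?_⟩
  rw [cf, cf, inv_x hm, h.2.2, h.2.1]
  rcases mem_JJ.1 h.1 (m.σ⁻¹ p) with e | e <;> rw [e]
  · generalize m.f (x 1 (m.σ⁻¹ p)) = a; generalize m.f (m.σ⁻¹ p) = b
    generalize u.f (m.σ⁻¹ p) = c; revert a b c; decide
  · rw [xx]; ring

theorem xor0 (p : P) : p ^^^ 0 = p := by revert p; decide

theorem nTR {σ τ : Perm P} (hs : σ ∈ AG) (h : τ ∈ TR) : σ * τ * σ⁻¹ ∈ TR := fun p => by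
  have k : ∀ p, (σ * τ * σ⁻¹) p = p ^^^ σ (τ 0) ^^^ σ 0 := fun p => by
    show σ (τ (σ⁻¹ p)) = _
    rw [h, ← xor0 (σ⁻¹ p ^^^ τ 0), hs, app_inv]
  rw [k, k]; generalize σ (τ 0) = a; generalize σ 0 = b; revert p a b; decide +kernel

theorem nAA {m u : N2} (hm : m ∈ QK) (h : u ∈ AA) : m * u * m⁻¹ ∈ AA := by
  refine ⟨nTR hm.1 h.1, fun p => ?_⟩
  have h1 : ∀ p, u.σ p = p ^^^ u.σ 0 := h.1
  have k : ∀ p, (m * u * m⁻¹).f p = u.f 0 + m.f (u.σ 0) + m.f 0 := fun p => by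
    rw [cf, h1, ← xor0 (m.σ⁻¹ p ^^^ u.σ 0), hm.2, h.2]
    generalize m.f (m.σ⁻¹ p) = a; generalize u.f 0 = b; generalize m.f (u.σ 0) = c
    generalize m.f 0 = d; revert a b c d; decide
  rw [k, k]

theorem der {f : P → ZMod 2} (h : f 0 + f 1 + f 2 + f 3 + f 4 + f 5 + f 6 + f 7 = 0) (s : P)
    (p q r : P) : f (p ^^^ q ^^^ r) + f (p ^^^ q ^^^ r ^^^ s) =
      f p + f (p ^^^ s) + (f q + f (q ^^^ s)) + (f r + f (r ^^^ s)) := by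
  refine aff_of4 (f := fun p => f p + f (p ^^^ s)) ?_ p q r
  have e := fun8 f
  revert e h
  generalize f 0 = a0; generalize f 1 = a1; generalize f 2 = a2; generalize f 3 = a3
  generalize f 4 = a4; generalize f 5 = a5; generalize f 6 = a6; generalize f 7 = a7
  rintro h rfl
  revert a0 a1 a2 a3 a4 a5 a6 a7 s; decide +kernel

theorem nQQ {m u : N2} (hm : m ∈ QE) (h : u ∈ QQ) : m * u * m⁻¹ ∈ QQ := by
  have h1 : ∀ p, u.σ p = p ^^^ u.σ 0 := h.1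
  have hi : ∀ p q r, m.σ⁻¹ (p ^^^ q ^^^ r) = m.σ⁻¹ p ^^^ m.σ⁻¹ q ^^^ m.σ⁻¹ r :=
    AG.inv_mem hm.1
  have hp : par m = 0 := hm.2
  refine ⟨nTR hm.1 h.1, TR_AG (nTR hm.1 h.1), fun p q r => ?_⟩
  rw [cf, cf, cf, cf, hi, h.2.2, h1, h1 (m.σ⁻¹ p), h1 (m.σ⁻¹ q), h1 (m.σ⁻¹ r)]
  have := der (par_eq m ▸ hp) (u.σ 0) (m.σ⁻¹ p) (m.σ⁻¹ q) (m.σ⁻¹ r)
  linear_combination this

theorem nXX {m u : N2} (hm : m ∈ T0) (h : u ∈ XX) : m * u * m⁻¹ ∈ XX := by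
  have k : m * u * m⁻¹ ∈ T0 := mul_mem (mul_mem hm h.1) (inv_mem hm)
  refine ⟨k, k.2.1, fun p => ?_⟩
  have d : ∀ q, m.f (x 1 q) = m.f q + m.f 1 + m.f 0 := fun q => by
    rw [← hm.1.2, xor0]; rfl
  rw [cf, cf, inv_x hm.2, h.2.2, h.2.1, d, d]
  generalize m.f 1 = a; generalize m.f 0 = b
  have := z2add a; have := z2add b
  linear_combination z2add a + z2add b

theorem nTV {σ τ : Perm P} (hs : σ ∈ AG) (h1 : ∀ p, σ (x 1 p) = x 1 (σ p)) (h : τ ∈ TV) :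
    σ * τ * σ⁻¹ ∈ TV := fun p => by
  have key : ∀ s q q0 r r0 : P, r.1 / 2 = (q.1 / 2) ^^^ (s.1 / 2) →
      r0.1 / 2 = (q0.1 / 2) ^^^ (s.1 / 2) → r0 = r ^^^ q ^^^ q0 ∨ r0 = x 1 (r ^^^ q ^^^ q0) := by
    decide +kernel
  show (σ (τ (σ⁻¹ p))).1 / 2 = (p.1 / 2) ^^^ ((σ (τ (σ⁻¹ 0))).1 / 2)
  rcases key _ _ _ _ _ (h (σ⁻¹ p)) (h (σ⁻¹ 0)) with e | e
  · rw [e, hs, app_inv, app_inv]; generalize σ (τ (σ⁻¹ p)) = a
    clear e; revert a p; decide +kernel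
  · rw [e, h1, hs, app_inv, app_inv]; generalize σ (τ (σ⁻¹ p)) = a
    clear e; revert a p; decide +kernel

theorem nHH {σ τ : Perm P} (hs : σ ∈ T') (h : τ ∈ HH) : σ * τ * σ⁻¹ ∈ HH := fun p => by
  have := hs.2 _ _ (h (σ⁻¹ p))
  rwa [app_inv] at this

theorem nrm : ∀ m, (∀ u ∈ PP, m * u * m⁻¹ ∈ PP) ∧ (∀ u ∈ EE, m * u * m⁻¹ ∈ EE) ∧
    (m ∈ S2 → (∀ u ∈ FF, m * u * m⁻¹ ∈ FF) ∧ ∀ u ∈ JJ, m * u * m⁻¹ ∈ JJ) ∧
    (m ∈ QK → (∀ u ∈ AA, m * u * m⁻¹ ∈ AA) ∧ ∀ u ∈ AP, m * u * m⁻¹ ∈ AP) ∧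
    (m ∈ QE → (∀ u ∈ QQ, m * u * m⁻¹ ∈ QQ) ∧ ∀ u ∈ AE, m * u * m⁻¹ ∈ AE) ∧
    (m ∈ T0 → (∀ u ∈ U1, m * u * m⁻¹ ∈ U1) ∧ (∀ u ∈ DD, m * u * m⁻¹ ∈ DD) ∧
      ∀ u ∈ UU, m * u * m⁻¹ ∈ UU) := fun m =>
  ⟨nPP m, fun u h => ⟨nPP m u h.1, nEV m u h.2⟩,
    fun hm => ⟨fun _ h => nFF hm h, fun _ h => nJJ hm h⟩,
    fun hm => ⟨fun _ h => nAA hm h,
      fun u h => ⟨QK.mul_mem (QK.mul_mem hm h.1) (QK.inv_mem hm), nPP m u h.2⟩⟩,
    fun hm => ⟨fun _ h => nQQ hm h, fun u h => ⟨nTR hm.1 h.1, nEV m u h.2⟩⟩,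
    fun hm => ⟨fun _ h => ⟨T0.mul_mem (T0.mul_mem hm h.1) (T0.inv_mem hm), nFF hm.2 h.2⟩,
      fun _ h => ⟨nXX hm h.1, nTV hm.1.1 hm.2.1 h.2⟩, fun _ h => ⟨nXX hm h.1, nHH hm.2 h.2⟩⟩⟩

/-! ### Abelian subgroups -/

theorem comm_of_sq {K : Subgroup N2} (h : ∀ u ∈ K, u * u = 1) : ∀ u ∈ K, ∀ v ∈ K, Commute u v :=
  fun u hu v hv => by
    have a := inv_eq_of_mul_eq_one_right (h _ (mul_mem hu hv))
    rw [mul_inv_rev, inv_eq_of_mul_eq_one_right (h u hu), inv_eq_of_mul_eq_one_right (h v hv)] at a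
    exact a.symm

theorem sqFF : ∀ u ∈ FF, u * u = 1 := fun u h => by
  refine N2.ext (Equiv.ext fun p => ?_) (funext fun p => ?_)
  · show u.σ (u.σ p) = p
    rcases mem_JJ.1 h.1 p with e | e
    · rw [e, e]
    · rw [e, h.2.1, e, xx]
  · show u.f p + u.f (u.σ p) = 0
    rcases mem_JJ.1 h.1 p with e | e
    · rw [e, z2add]
    · rw [e, h.2.2, z2add]

theorem sqPP : ∀ u ∈ PP, u * u = 1 := fun u h => by
  refine N2.ext ?_ (funext fun p => ?_)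
  · show u.σ * u.σ = 1
    rw [mem_PP.1 h, one_mul]
  · show u.f p + u.f (u.σ p) = 0
    rw [mem_PP.1 h, Perm.one_apply, z2add]

theorem AA_eq {u : N2} (hu : u ∈ AA) : u = ⟨x (u.σ 0), fun _ => u.f 0⟩ :=
  N2.ext (Equiv.ext hu.1) (funext hu.2)

theorem sqAA : ∀ u ∈ AA, u * u = 1 := fun u hu => by
  rw [AA_eq hu]; generalize u.σ 0 = m; generalize u.f 0 = c; revert m c; decide +kernel

theorem ab : (∀ u ∈ PP, ∀ v ∈ PP, Commute u v) ∧ (∀ u ∈ FF, ∀ v ∈ FF, Commute u v) ∧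
    (∀ u ∈ AA, ∀ v ∈ AA, Commute u v) ∧ (∀ u ∈ PP, u * u = 1) ∧ (∀ u ∈ FF, u * u = 1) ∧
    (∀ u ∈ AA, u * u = 1) ∧ ∀ u, Commute u H17.Kn.z2 :=
  ⟨comm_of_sq sqPP, comm_of_sq sqFF, comm_of_sq sqAA, sqPP, sqFF, sqAA, fun u =>
    N2.ext ((mul_one u.σ).trans (one_mul u.σ).symm) (funext fun p => add_comm _ _)⟩

/-! ### Generators -/

theorem xc_mem {K : Subgroup N2} (c : ZMod 2) {i j : Fin 5} (h : xe i j ∈ K) : xc c i j ∈ K := by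
  unfold xc; split
  · exact one_mem _
  · exact h

theorem xc_zero {K : Subgroup N2} {c : ZMod 2} (h : c = 0) (i j : Fin 5) : xc c i j ∈ K := by
  rw [xc, if_pos h]; exact one_mem _

theorem cm_mem {K : Subgroup N2} {a b c : N2} (ha : a ∈ K) (hb : b ∈ K) (e : c = a * b * a * b) :
    c ∈ K := e ▸ mul_mem (mul_mem (mul_mem ha hb) ha) hb

theorem gT0 (h1 : Mod1) : ∀ K : Subgroup N2, xe 0 1 ∈ K → xe 1 2 ∈ K → xe 2 3 ∈ K → xe 3 4 ∈ K →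
    T0 ≤ K := fun K a b c d u hu => by
  have h02 : xe 0 2 ∈ K := cm_mem a b (by decide +kernel)
  have h13 : xe 1 3 ∈ K := cm_mem b c (by decide +kernel)
  have h24 : xe 2 4 ∈ K := cm_mem c d (by decide +kernel)
  have h03 : xe 0 3 ∈ K := cm_mem a h13 (by decide +kernel)
  have h14 : xe 1 4 ∈ K := cm_mem b h24 (by decide +kernel)
  have h04 : xe 0 4 ∈ K := cm_mem a h14 (by decide +kernel)
  rw [h1.nf u hu, ut]
  repeat' apply mul_mem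
  all_goals exact xc_mem _ ‹_›

/-- A sign change or the identity. -/
def dc (c : ZMod 2) (a : N2) : N2 := if c = 0 then 1 else a

theorem dc_mem {K : Subgroup N2} (c : ZMod 2) {a : N2} (h : a ∈ K) : dc c a ∈ K := by
  unfold dc; split
  · exact one_mem _
  · exact h

theorem PP_eq {u : N2} (h : u ∈ PP) :
    u = ⟨1, ![u.f 0, u.f 1, u.f 2, u.f 3, u.f 4, u.f 5, u.f 6, u.f 7]⟩ := N2.ext h (fun8 u.f)

theorem gPP : ∀ K : Subgroup N2, (∀ p, dl p ∈ K) → PP ≤ K := fun K h u hu => by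
  have k : ∀ a0 a1 a2 a3 a4 a5 a6 a7 : ZMod 2, (⟨1, ![a0, a1, a2, a3, a4, a5, a6, a7]⟩ : N2) =
      dc a0 (dl 0) * dc a1 (dl 1) * dc a2 (dl 2) * dc a3 (dl 3) * dc a4 (dl 4) * dc a5 (dl 5) *
        dc a6 (dl 6) * dc a7 (dl 7) := by decide +kernel
  rw [PP_eq hu, k]
  repeat' apply mul_mem
  all_goals exact dc_mem _ (h _)

theorem gEE : ∀ K : Subgroup N2, (∀ p q, dl p * dl q ∈ K) → EE ≤ K := fun K h u hu => by
  have k : ∀ a0 a1 a2 a3 a4 a5 a6 a7 : ZMod 2, a0 + a1 + a2 + a3 + a4 + a5 + a6 + a7 = 0 →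
      (⟨1, ![a0, a1, a2, a3, a4, a5, a6, a7]⟩ : N2) =
      dc a1 (dl 1 * dl 0) * dc a2 (dl 2 * dl 0) * dc a3 (dl 3 * dl 0) * dc a4 (dl 4 * dl 0) *
        dc a5 (dl 5 * dl 0) * dc a6 (dl 6 * dl 0) * dc a7 (dl 7 * dl 0) := by decide +kernel
  have hp : par u = 0 := hu.2
  rw [PP_eq hu.1, k _ _ _ _ _ _ _ _ (par_eq u ▸ hp)]
  refine mul_mem (mul_mem (mul_mem (mul_mem (mul_mem (mul_mem ?_ ?_) ?_) ?_) ?_) ?_) ?_
  all_goals exact dc_mem _ (h _ _)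

theorem gFF (h1 : Mod1) : ∀ K : Subgroup N2, (∀ i k, wb i k ∈ K) → FF ≤ K := fun K h u hu => by
  obtain ⟨a, b, c, e, rfl⟩ := h1.nfF u hu
  exact mul_mem (mul_mem (mul_mem (h _ _) (h _ _)) (h _ _)) (h _ _)

theorem gAA : ∀ K : Subgroup N2, (∀ i, xe i 4 ∈ K) → AA ≤ K := fun K h u hu => by
  have k : ∀ (m : P) (c : ZMod 2), (⟨x m, fun _ => c⟩ : N2) =
      xc c 0 4 * xc (bit m 0) 1 4 * xc (bit m 1) 2 4 * xc (bit m 2) 3 4 := by decide +kernel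
  rw [AA_eq hu, k]
  repeat' apply mul_mem
  all_goals exact xc_mem _ (h _)

theorem gAP : ∀ K : Subgroup N2, (∀ j, xe 0 j ∈ K) → AP ≤ K := fun K h u hu => by
  have k : ∀ a b c d : ZMod 2,
      (⟨1, ![a, b, c, a + b + c, d, a + b + d, a + c + d, b + c + d]⟩ : N2) =
      xc a 0 4 * xc (a + b) 0 1 * xc (a + c) 0 2 * xc (a + d) 0 3 := by decide +kernel
  obtain ⟨a, b, c, d⟩ := aff4 hu.1.2
  rw [PP_eq hu.2, a, b, c, d, k]
  repeat' apply mul_mem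
  all_goals exact xc_mem _ (h _)

theorem gU1 (h1 : Mod1) : ∀ K : Subgroup N2, (∀ j, 2 ≤ j → xe 0 j ∈ K ∧ xe 1 j ∈ K) → U1 ≤ K :=
  fun K h u hu => by
  have s0 := mem_JJ.1 hu.2.1 0
  have s4 := mem_JJ.1 hu.2.1 4
  have e01 : en u 0 1 = 0 := by
    have a : u.f 1 = u.f 0 := hu.2.2.2 0
    show 0 + u.f 1 + (0 + u.f 0) = 0
    rw [a, z2add]
  have e24 : en u 2 4 = 0 := by
    show bit (u.σ 0) 1 = 0
    rcases s0 with e | e <;> rw [e] <;> decide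
  have e34 : en u 3 4 = 0 := by
    show bit (u.σ 0) 2 = 0
    rcases s0 with e | e <;> rw [e] <;> decide
  have e23 : en u 2 3 = 0 := by
    show bit (u.σ 4) 1 + bit (u.σ 0) 1 = 0
    rcases s0 with e | e <;> rcases s4 with e' | e' <;> rw [e, e'] <;> decide
  rw [h1.nf u hu.1, ut]
  refine mul_mem (mul_mem (mul_mem (mul_mem (mul_mem (mul_mem (mul_mem (mul_mem (mul_mem
    (xc_mem _ (h 4 (by decide)).1) (xc_mem _ (h 4 (by decide)).2)) (xc_zero e24 _ _))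
    (xc_zero e34 _ _)) (xc_mem _ (h 3 (by decide)).1)) (xc_mem _ (h 3 (by decide)).2))
    (xc_zero e23 _ _)) (xc_mem _ (h 2 (by decide)).1)) (xc_mem _ (h 2 (by decide)).2))
    (xc_zero e01 _ _)

/-- A product of three elementary matrices. -/
def l3 (a b c d e f : Fin 3) : Perm P := lx a b * lx c d * lx e f

theorem l3_mem {H : Subgroup (Perm P)} (h : ∀ i j, lx i j ∈ H) (a b c d e f : Fin 3) :
    l3 a b c d e f ∈ H := mul_mem (mul_mem (h _ _) (h _ _)) (h _ _)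

theorem lx_AG : ∀ i j, lx i j ∈ AG := by decide +kernel
theorem x_AG : ∀ m, x m ∈ AG := by decide +kernel
theorem l3_zero : ∀ a b c d e f, l3 a b c d e f 0 = 0 := by decide +kernel
theorem st1 : ∀ p : P, p ≠ 0 → ∃ a b c d e f, l3 a b c d e f p = 1 := by decide +kernel
theorem st2 : ∀ p : P, p ≠ 0 → p ≠ 1 → ∃ a b c d e f, l3 a b c d e f 1 = 1 ∧
    l3 a b c d e f p = 2 := by decide +kernel
theorem st3 : ∀ p : P, p ≠ 0 → p ≠ 1 → p ≠ 2 → p ≠ 3 → ∃ a b c d e f, l3 a b c d e f 1 = 1 ∧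
    l3 a b c d e f 2 = 2 ∧ l3 a b c d e f p = 4 := by decide +kernel

theorem AG_le {H : Subgroup (Perm P)} (hx : ∀ m, x m ∈ H) (h : ∀ i j, lx i j ∈ H) : AG ≤ H := by
  have k4 : ∀ σ ∈ AG, σ 0 = 0 → σ 1 = 1 → σ 2 = 2 → σ 4 = 4 → σ ∈ H := fun σ hs a b c d => by
    have e3 : σ 3 = 3 := by have := hs 0 1 2; rw [a, b, c] at this; exact this
    have e5 : σ 5 = 5 := by have := hs 0 1 4; rw [a, b, d] at this; exact this
    have e6 : σ 6 = 6 := by have := hs 0 2 4; rw [a, c, d] at this; exact this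
    have e7 : σ 7 = 7 := by have := hs 1 2 4; rw [b, c, d] at this; exact this
    have : σ = 1 := Equiv.ext fun p => by fin_cases p <;> assumption
    rw [this]; exact one_mem _
  have k3 : ∀ σ ∈ AG, σ 0 = 0 → σ 1 = 1 → σ 2 = 2 → σ ∈ H := fun σ hs a b c => by
    have e3 : σ 3 = 3 := by have := hs 0 1 2; rw [a, b, c] at this; exact this
    obtain ⟨i, j, k, l, m, n, r1, r2, r4⟩ := st3 (σ 4)
      (fun e => absurd (σ.injective (e.trans a.symm)) (by decide))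
      (fun e => absurd (σ.injective (e.trans b.symm)) (by decide))
      (fun e => absurd (σ.injective (e.trans c.symm)) (by decide))
      (fun e => absurd (σ.injective (e.trans e3.symm)) (by decide))
    exact (mul_mem_cancel_left (l3_mem h i j k l m n)).1 (k4 _ (mul_mem (l3_mem lx_AG i j k l m n) hs)
      (by rw [Perm.mul_apply, a, l3_zero]) (by rw [Perm.mul_apply, b, r1])
      (by rw [Perm.mul_apply, c, r2]) r4)
  have k2 : ∀ σ ∈ AG, σ 0 = 0 → σ 1 = 1 → σ ∈ H := fun σ hs a b => by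
    obtain ⟨i, j, k, l, m, n, r1, r2⟩ := st2 (σ 2)
      (fun e => absurd (σ.injective (e.trans a.symm)) (by decide))
      (fun e => absurd (σ.injective (e.trans b.symm)) (by decide))
    exact (mul_mem_cancel_left (l3_mem h i j k l m n)).1 (k3 _ (mul_mem (l3_mem lx_AG i j k l m n) hs)
      (by rw [Perm.mul_apply, a, l3_zero]) (by rw [Perm.mul_apply, b, r1]) r2)
  have k1 : ∀ σ ∈ AG, σ 0 = 0 → σ ∈ H := fun σ hs a => by
    obtain ⟨i, j, k, l, m, n, r1⟩ := st1 (σ 1)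
      (fun e => absurd (σ.injective (e.trans a.symm)) (by decide))
    exact (mul_mem_cancel_left (l3_mem h i j k l m n)).1 (k2 _ (mul_mem (l3_mem lx_AG i j k l m n) hs)
      (by rw [Perm.mul_apply, a, l3_zero]) r1)
  intro σ hs
  refine (mul_mem_cancel_left (hx (σ 0))).1 (k1 _ (mul_mem (x_AG _) hs) ?_)
  rw [Perm.mul_apply]; generalize σ 0 = s; revert s; decide

theorem sec_QK {σ : Perm P} (h : σ ∈ AG) : sec2 σ ∈ QK := ⟨h, fun _ _ _ => rfl⟩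

theorem split_PP (m : N2) : m * (sec2 m.σ)⁻¹ ∈ PP := mul_inv_cancel m.σ

theorem gQK : ∀ K : Subgroup N2, T0 ≤ K → xe 2 1 ∈ K → xe 3 2 ∈ K → QK ≤ K :=
  fun K hT a b m hm => by
  have h31 : xe 3 1 ∈ K := cm_mem b a (by decide +kernel)
  have hx : ∀ s, x s ∈ K.comap sec2 := fun s =>
    hT (show sec2 (x s) ∈ T0 by revert s; decide +kernel)
  have hl : ∀ i j, lx i j ∈ K.comap sec2 := fun i j => by
    have k : ∀ i j, sec2 (lx i j) ∈ T0 ∨ sec2 (lx i j) = xe 2 1 ∨ sec2 (lx i j) = xe 3 2 ∨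
      sec2 (lx i j) = xe 3 1 := by decide +kernel
    rcases k i j with e | e | e | e
    · exact hT e
    · exact mem_comap.2 (e ▸ a)
    · exact mem_comap.2 (e ▸ b)
    · exact mem_comap.2 (e ▸ h31)
  have h1 : sec2 m.σ ∈ K := AG_le hx hl hm.1
  exact (mul_mem_cancel_right (inv_mem h1)).1
    (hT (AP_T0 ⟨QK.mul_mem hm (QK.inv_mem (sec_QK hm.1)), split_PP m⟩))

theorem top_of_swaps {K : Subgroup N2} (hP : PP ≤ K) (h : ∀ p q, p ≠ q → sec2 (swap p q) ∈ K) :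
    K = ⊤ := by
  have k : ∀ σ : Perm P, sec2 σ ∈ K := fun σ => by
    refine Perm.swap_induction_on σ (by rw [map_one]; exact one_mem _) fun f p q e hf => ?_
    rw [map_mul]; exact mul_mem (h p q e) hf
  exact eq_top_iff.2 fun m _ => (mul_mem_cancel_right (inv_mem (k m.σ))).1 (hP (split_PP m))

theorem gN : ∀ K : Subgroup N2, S2 ≤ K → QK ≤ K → K = ⊤ := fun K hS hQ => by
  refine top_of_swaps (PP_JJ.trans (JJ_S2.trans hS)) fun p q e => ?_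
  have h0 : sec2 (swap 6 7) ∈ K := hS (show sec2 (swap 6 7) ∈ S2 by decide +kernel)
  obtain ⟨i, j, k, l, m, n, r⟩ := st1 (p ^^^ q) (by revert e; revert p q; decide +kernel)
  set g : Perm P := x p * (l3 i j k l m n)⁻¹ * x 6 with hg
  have gA : g ∈ AG := mul_mem (mul_mem (x_AG _) (inv_mem (l3_mem lx_AG i j k l m n))) (x_AG _)
  have g6 : g 6 = p := by
    have : (l3 i j k l m n)⁻¹ 0 = 0 := by rw [Perm.inv_eq_iff_eq, l3_zero]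
    show x p ((l3 i j k l m n)⁻¹ 0) = p
    rw [this]; clear * -; revert p; decide
  have g7 : g 7 = q := by
    have : (l3 i j k l m n)⁻¹ 1 = p ^^^ q := by rw [Perm.inv_eq_iff_eq, r]
    show x p ((l3 i j k l m n)⁻¹ 1) = q
    rw [this]; clear * -; revert p q; decide +kernel
  rw [← g6, ← g7, swap_apply_apply, map_mul, map_mul, map_inv]
  exact mul_mem (mul_mem (hQ (sec_QK gA)) h0) (inv_mem (hQ (sec_QK gA)))

theorem gN7 : ∀ K : Subgroup N2, (∀ m, m.σ 7 = 7 → m ∈ K) → f0 ∈ K → K = ⊤ := fun K h h0 => by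
  refine top_of_swaps (fun u hu => h u (by rw [mem_PP.1 hu]; rfl)) fun p q _ => ?_
  have k : ∀ p q : P, (sec2 (swap p q)).σ 7 = 7 ∨ sec2 (swap p q) = f0 ∨
      (f0 * sec2 (swap p q) * f0).σ 7 = 7 := by decide +kernel
  rcases k p q with e | e | e
  · exact h _ e
  · exact e ▸ h0
  · exact (mul_mem_cancel_left h0).1 ((mul_mem_cancel_right h0).1 (h _ e))

end Cfsg.Agent.H98.KnM2a
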