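import Cfsg.Agent.H17.KnDef2

/-!
# Project KN, piece E256: the elementary abelian subgroups of order 256 of `S2`
-/

set_option autoImplicit false
set_option maxRecDepth 100000

namespace Cfsg.Agent.H98.KnE256

open Equiv Subgroup Cfsg.Agent.H11.A16 Cfsg.Agent.H17.Kn

universe u

/-- The block of a pair. -/
def bl (p : P) : Fin 4 := ⟨p.1 / 2, by omega⟩

/-- The action on the blocks. -/
def bf (u : N2) (i : Fin 4) : Fin 4 := bl (u.σ (pa i))

theorem bl_x : ∀ p, bl (x 1 p) = bl p := by decide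
theorem bl_pa : ∀ i, bl (pa i) = i := by decide
theorem bl_cases : ∀ p i, bl p = i → p = pa i ∨ p = x 1 (pa i) := by decide
theorem bl_eq : ∀ p q, bl q = bl p → q = p ∨ q = x 1 p := by decide

theorem bf_p {u : N2} (h : u ∈ S2) (p : P) : bl (u.σ p) = bf u (bl p) := by
  rcases bl_cases p _ rfl with e | e
  · exact congrArg (fun q => bl (u.σ q)) e
  · have := (show u.σ ∈ T' from h).1 (pa (bl p))
    rw [← e] at this
    rw [this, bl_x]; rfl

theorem bf_mul {u : N2} (h : u ∈ S2) (v : N2) (i : Fin 4) : bf (u * v) i = bf u (bf v i) :=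
  bf_p h _

theorem bf_one (i : Fin 4) : bf 1 i = i := bl_pa i

theorem JJ_of {u : N2} (h : u ∈ S2) (e : ∀ i, bf u i = i) : u ∈ JJ :=
  mem_JJ.2 fun p => bl_eq _ _ ((bf_p h p).trans (e _))

theorem bf_half {u : N2} (h : u ∈ S2) (i j : Fin 4) (e : i.1 / 2 = j.1 / 2) :
    (bf u i).1 / 2 = (bf u j).1 / 2 := by
  have := (show u.σ ∈ T' from h).2 (pa i) (pa j) (by simp only [pa]; omega)
  simp only [bf, bl]; omega

theorem fin1 : ∀ a : Fin 4 → Fin 4, (∀ i, a (a i) = i) →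
    (∀ i j : Fin 4, i.1 / 2 = j.1 / 2 → (a i).1 / 2 = (a j).1 / 2) → ¬ (a 0 = 1 ∧ a 2 = 3) →
    ¬ (∀ i, a i = i) → ∀ b : Fin 4 → Fin 4, (∀ i, b (b i) = i) →
    (∀ i j : Fin 4, i.1 / 2 = j.1 / 2 → (b i).1 / 2 = (b j).1 / 2) → ¬ (b 0 = 1 ∧ b 2 = 3) →
    (∀ i, b (a (b (a i))) = i) → ¬ (b (a 0) = 1 ∧ b (a 2) = 3) →
    (∀ i, b (a i) = i) ∨ ∀ i, b i = i := by
  decide +kernel

/-- Trivial on a block. -/
def KB (u : N2) (i : Fin 4) : Prop := ∀ p, bl p = i → u.σ p = p ∧ u.f p = 0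

theorem KB.move {u y : N2} {i : Fin 4} (h : KB u i) (hy : y ∈ S2) (yy : y * y = 1)
    (c : u * y = y * u) : KB u (bf y i) := fun q hq => by
  obtain ⟨p, rfl⟩ := y.σ.surjective q
  have e : bl p = i := by
    have := congrArg (bf y) ((bf_p hy p).symm.trans hq)
    rwa [← bf_mul hy, ← bf_mul hy, yy, bf_one, bf_one] at this
  obtain ⟨h1, h2⟩ := h p e
  have c1 := congrArg (fun a : N2 => a.σ p) c
  have c2 := congrArg (fun a : N2 => a.f p) c
  simp only [N2.mul_σ, N2.mul_f, Perm.mul_apply, h1, h2, zero_add] at c1 c2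
  exact ⟨c1, add_eq_left.1 c2⟩

/-- The coordinates of a component. -/
def gc (I : Fin 4 → Bool) (u : N2) (i : Fin 4) : ZMod 2 × ZMod 2 :=
  if I i = true then (u.f (pa i), u.f (x 1 (pa i)))
  else (if u.σ (pa i) = pa i then 0 else 1, u.f (pa i))

theorem gc_eq {I : Fin 4 → Bool} {u v : N2} (hu : XI I u) (hv : XI I v) {i : Fin 4}
    (e : gc I u i = gc I v i) : KB (v⁻¹ * u) i := by
  have k : u.σ (pa i) = v.σ (pa i) ∧ u.f (pa i) = v.f (pa i) ∧
      u.f (x 1 (pa i)) = v.f (x 1 (pa i)) := by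
    have h1 := hu.2 i
    have h2 := hv.2 i
    unfold gc at e
    by_cases hI : I i = true
    · rw [if_pos hI] at h1 h2
      rw [if_pos hI, if_pos hI, Prod.mk.injEq] at e
      exact ⟨h1.trans h2.symm, e⟩
    · rw [if_neg hI] at h1 h2
      rw [if_neg hI, if_neg hI, Prod.mk.injEq] at e
      refine ⟨?_, e.2, by rw [h1.2, h2.2, e.2]⟩
      have e1 := e.1
      by_cases a : u.σ (pa i) = pa i <;> by_cases b : v.σ (pa i) = pa i
      · rw [a, b]
      · rw [if_pos a, if_neg b] at e1; exact absurd e1 (by decide)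
      · rw [if_neg a, if_pos b] at e1; exact absurd e1 (by decide)
      · rw [(mem_JJ.1 hu.1 _).resolve_left a, (mem_JJ.1 hv.1 _).resolve_left b]
  have k2 : ∀ p, bl p = i → u.σ p = v.σ p ∧ u.f p = v.f p := fun p hp => by
    rcases bl_cases p i hp with rfl | rfl
    · exact ⟨k.1, k.2.1⟩
    · exact ⟨by rw [JJ_x hu.1, JJ_x hv.1, k.1], k.2.2⟩
  intro p hp
  obtain ⟨a, b⟩ := k2 p hp
  simp only [N2.mul_σ, N2.mul_f, N2.inv_σ, N2.inv_f, Perm.mul_apply, a, b, inv_app]
  exact ⟨trivial, z2add _⟩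

theorem eq_of {u v : N2} (h : ∀ i, KB (v⁻¹ * u) i) : u = v := by
  have : v⁻¹ * u = 1 := N2.ext (Equiv.ext fun p => (h _ p rfl).1) (funext fun p => (h _ p rfl).2)
  exact (inv_mul_eq_one.1 this).symm

theorem comm_of {X : Subgroup N2} (h2 : ∀ u ∈ X, u * u = 1) {a b : N2} (ha : a ∈ X) (hb : b ∈ X) :
    a * b = b * a := by
  calc a * b = (a * b)⁻¹ := mul_eq_one_iff_eq_inv.1 (h2 _ (X.mul_mem ha hb))
    _ = b * a := by
      rw [mul_inv_rev, ← mul_eq_one_iff_eq_inv.1 (h2 a ha), ← mul_eq_one_iff_eq_inv.1 (h2 b hb)]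

theorem exI (X : Subgroup N2) (h2 : ∀ u ∈ X, u * u = 1) :
    ∃ I, ∀ u ∈ X, u ∈ JJ → XI I u := by
  classical
  refine ⟨fun i => decide (∀ u ∈ X, u ∈ JJ → u.σ (pa i) = pa i), fun u hu hJ => ⟨hJ, fun i => ?_⟩⟩
  split_ifs with h
  · exact of_decide_eq_true h u hu hJ
  · rw [decide_eq_true_eq] at h
    push Not at h
    obtain ⟨v, hv, hvJ, e⟩ := h
    have e' := (mem_JJ.1 hvJ _).resolve_left e
    refine ⟨hJ, ?_⟩
    rcases mem_JJ.1 hJ (pa i) with a | a
    · have c := congrArg (fun t : N2 => t.f (pa i)) (comm_of h2 hu hv)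
      simp only [N2.mul_f, a, e'] at c
      rw [add_comm] at c
      exact add_right_cancel c
    · have c := congrArg (fun t : N2 => t.f (pa i)) (h2 u hu)
      simp only [N2.mul_f, a, N2.one_f] at c
      revert c
      generalize u.f (pa i) = s; generalize u.f (x 1 (pa i)) = t
      revert s t; decide

theorem card_le (X : Subgroup N2) (h2 : ∀ u ∈ X, u * u = 1) (S : Finset (Fin 4))
    (h : ∀ u ∈ X, (∀ i ∈ S, KB u i) → ∀ i, KB u i) :
    Nat.card (JJ.subgroupOf X) ≤ 4 ^ S.card := by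
  obtain ⟨I, hI⟩ := exI X h2
  have := Nat.card_le_card_of_injective
    (fun (u : JJ.subgroupOf X) (i : S) => gc I u.1.1 i.1) fun u v e => by
      refine Subtype.ext (Subtype.ext (eq_of (h _ (X.mul_mem (X.inv_mem v.1.2) u.1.2) ?_)))
      exact fun i hi => gc_eq (hI _ u.1.2 u.2) (hI _ v.1.2 v.2) (congrFun e ⟨i, hi⟩)
  rwa [Nat.card_fun, Nat.card_prod, Nat.card_zmod, Nat.card_eq_fintype_card (α := S),
    Fintype.card_coe] at this

theorem le_JJ (hB : Base.{u}) (X : Subgroup N2) (hX : X ≤ S2) (h2 : ∀ u ∈ X, u * u = 1)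
    (hc : 256 ≤ Nat.card X) : X ≤ JJ := by
  have m := (JJ.subgroupOf X).card_mul_index
  by_cases c : ∃ c ∈ X, bf c 0 = 1 ∧ bf c 2 = 3
  · exfalso
    obtain ⟨c, hc', c0, c2⟩ := c
    have k := card_le X h2 {0, 2} fun u hu h i => by
      have a0 := h 0 (by decide)
      have a2 := h 2 (by decide)
      have a1 := c0 ▸ a0.move (hX hc') (h2 c hc') (comm_of h2 hu hc')
      have a3 := c2 ▸ a2.move (hX hc') (h2 c hc') (comm_of h2 hu hc')
      fin_cases i <;> assumption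
    have J8 : JJ.relIndex S2 = 8 := by
      have t := (JJ.subgroupOf S2).card_mul_index
      rw [Nat.card_congr (subgroupOfEquivOfLe hB.m2.le.2.2.2.2.2.2.2.2.2.2.2.1).toEquiv, hB.m1.cJJ,
        hB.m1.cS2] at t
      unfold relIndex; omega
    have i8 : (JJ.subgroupOf X).index ≤ 8 := J8 ▸ relIndex_le_of_le_right hX (by rw [J8]; decide)
    have := Nat.mul_le_mul k i8
    rw [m, show ({0, 2} : Finset (Fin 4)).card = 2 by decide] at this
    omega
  · intro y hy
    by_contra hJ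
    have ny : ¬ ∀ i, bf y i = i := fun e => hJ (JJ_of (hX hy) e)
    have inv : ∀ u ∈ X, ∀ i, bf u (bf u i) = i := fun u hu i => by
      rw [← bf_mul (hX hu), h2 u hu, bf_one]
    have i2 : (JJ.subgroupOf X).index ∣ 2 := index_dvd_two_iff.2 ⟨⟨y, hy⟩, fun b => by
      have hb := X.mul_mem b.2 hy
      have := fin1 (bf y) (inv y hy) (bf_half (hX hy)) (fun e => c ⟨y, hy, e⟩) ny (bf b)
        (inv _ b.2) (bf_half (hX b.2)) (fun e => c ⟨_, b.2, e⟩)
        (fun i => by simpa only [bf_mul (hX b.2)] using inv _ hb i)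
        (fun e => c ⟨_, hb, by simpa only [bf_mul (hX b.2)] using e⟩)
      exact this.imp (fun e => JJ_of (hX hb) fun i => (bf_mul (hX b.2) y i).trans (e i))
        (JJ_of (hX b.2))⟩
    push Not at ny
    obtain ⟨i, hi⟩ := ny
    have k := card_le X h2 (Finset.univ.erase (bf y i)) fun u hu h j => by
      by_cases e : j = bf y i
      · exact e ▸ (h i (by simp [hi.symm])).move (hX hy) (h2 y hy) (comm_of h2 hu hy)
      · exact h j (by simp [e])
    have := Nat.mul_le_mul k (Nat.le_of_dvd two_pos i2)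
    rw [m, Finset.card_erase_of_mem (Finset.mem_univ _), Finset.card_univ, Fintype.card_fin] at this
    omega

theorem e256 (hB : Base.{u}) : E256Stmt := by
  intro X hX h2 hc
  have hJ := le_JJ hB X hX h2 hc
  obtain ⟨I, hI⟩ := exI X h2
  refine ⟨I, fun u => ⟨fun hu => hI u hu (hJ hu), fun hu => ?_⟩⟩
  have inj : Function.Injective fun (v : X) => gc I v.1 := fun v w e =>
    Subtype.ext (eq_of fun i => gc_eq (hI _ v.2 (hJ v.2)) (hI _ w.2 (hJ w.2)) (congrFun e i))
  have bij := (Nat.bijective_iff_injective_and_card _).2 ⟨inj, le_antisymm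
    (Nat.card_le_card_of_injective _ inj) (by
      rwa [Nat.card_fun, Nat.card_prod, Nat.card_zmod, Nat.card_eq_fintype_card (α := Fin 4),
        Fintype.card_fin])⟩
  obtain ⟨v, e⟩ := bij.2 (gc I u)
  rw [← eq_of fun i => gc_eq (hI _ v.2 (hJ v.2)) hu (congrFun e i)]
  exact v.2

end Cfsg.Agent.H98.KnE256
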