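import Cfsg.Agent.H27.F4Defs3
import Cfsg.Agent.H98.F4Kb1

/-! Frames for groups of type `F₄` and `²E₆`: the interface KB1 for the corrected kit. -/

set_option autoImplicit false

namespace Cfsg.Agent.H98.F4K5

open Cfsg Cfsg.Agent.H63 Cfsg.Agent.H63.SL Cfsg.Agent.H63.WR Cfsg.Agent.H34 Cfsg.Agent.H40
  Cfsg.Agent.H40.LF Cfsg.Agent.H27.End Cfsg.Agent.H27.F4 Subgroup Equiv
open Cfsg.Agent.H98.F4K (ok_one xinj fr_nU mono_mul mono_inv mono_swp swp_mono swp_swp hom_of_ty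
  dvd_of_pow fr_odd fr_in)

universe u v

variable {A : Type v} [Field A] {G : Type u} [Group G] {σ : A ≃+* A} {L : Subgroup G}
  {x : Φ4 → A → G}

theorem uq (hx : Pin4 σ x) (hK : KA5 σ L x) {l : G} (hm : l ∈ L) (φ : A ≃+* A) (χ : Φ4 → A) :
    (Mono σ x l 1 φ χ → φ = I1 A) ∧ ¬ Swp x l φ χ := by
  refine ⟨fun h => ?_, fun h => hK.sep hl (rho hl) (by decide) (by decide) 1 _ (ok_one _)
    one_ne_zero l hm (h.act _ _)⟩
  obtain ⟨-, χ', h'⟩ := hK.tor l hm fun r a => h.act r a ▸ x_mem_XR r _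
  have hs' : ¬ lg hs := by decide
  have k : ∀ a, χ hs * φ a = χ' hs * a := fun a =>
    xinj hx (fun e => absurd e hs') (fun e => absurd e hs') ((h.act hs a).symm.trans (h'.act hs a))
  have k1 := k 1
  rw [map_one, mul_one, mul_one] at k1
  exact RingEquiv.ext fun a => mul_left_cancel₀ (h.ne hs) ((k a).trans (by rw [k1]; rfl))

theorem nU [Finite G] (hM : Mod4 σ L x) (hK : KA5 σ L x) (hA : Aut4 σ L x) {g : G} (hg : g ∈ N[L])
    (h : g ∈ N[Up R4 x]) :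
    ∃ u ∈ Up R4 x, ∃ φ χ, Mono σ x (u * g) 1 φ χ ∨ (σ = I1 A ∧ Swp x (u * g) φ χ) := by
  obtain ⟨l, hl, φ, χ, h1⟩ := hA g hg
  have h2 : l ∈ N[Up R4 x] := (mul_mem_cancel_right h).1 (fr_nU h1)
  obtain ⟨a, ha, u, hu, n, -, w, hw, ψ, χ', -, h3, rfl⟩ :=
    hK.bru _ _ lin_ht R4.ht_ne_zero lin_ht R4.ht_ne_zero l hl
  simp only [R4.ht_pos_iff] at ha hu
  have h4 : n ∈ N[Up R4 x] :=
    (mul_mem_cancel_left (le_normalizer ha)).1 ((mul_mem_cancel_right (le_normalizer hu)).1 h2)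
  obtain rfl : w = 1 := (sgn R4).eq_one_of_pos hw fun j => by
    by_contra h5
    have h6 := conj_mem_of_mem_normalizer h4 (x_mem_UU (R4.pos_simple j) 1)
    rw [h3.act, map_one, mul_one] at h6
    refine h3.ne _ (hK.fth _ lin_ht {r | R4.Pos r} ?_ (fun r => (R4.ht_pos_iff r).2) _ h5 _
      (fun e => h3.ok _ ((W_lg hw _).1 e)) h6)
    simpa only [R4.ht_pos_iff] using (lin_ht (R := R4)).clo_pos
  have e : n⁻¹ * a * n * u * g = n⁻¹ * (a * n * u * g) := by group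
  refine ⟨n⁻¹ * a * n * u, mul_mem (inv_conj_mem_of_mem_normalizer h4 ha) hu, ?_⟩
  rw [e]
  rcases h1 with h1 | ⟨h0, h1⟩
  · exact ⟨_, _, .inl (mono_mul (mono_inv h3) h1)⟩
  · exact ⟨_, _, .inr ⟨h0, mono_swp (mono_inv h3) h1⟩⟩

theorem two [Finite G] (hK : KA5 σ L x) (hA : Aut4 σ L x) {P : Subgroup G} (hP : IsPGroup 2 P)
    (h : P ≤ N[L]) : ∃ l ∈ L, cj l P ≤ N[Up R4 x] := by
  have hS := hK.syl
  obtain ⟨T, hT, h1⟩ := H8.exists_isSylowIn_ge hS.isPGroup (hS.le.trans le_normalizer)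
  obtain ⟨n, hn, h2⟩ := hT.exists_conj_le hP h
  have h3 : T ≤ N[Up R4 x] := by
    rw [← hS.eq_of_le (Q := T ⊓ L) hT.isPGroup.to_inf_left inf_le_right (le_inf h1 hS.le)]
    exact le_normalizer_of_conj_mem fun g hg u hu =>
      ⟨T.mul_mem (T.mul_mem hg hu.1) (T.inv_mem hg), conj_mem_of_mem_normalizer (hT.le hg) hu.2⟩
  obtain ⟨l, hl, φ, χ, h4⟩ := hA _ (inv_mem hn)
  refine ⟨l, hl, ?_⟩
  rintro _ ⟨y, hy, rfl⟩
  have := mul_mem (mul_mem (fr_nU h4) (h3 (h2 (H8.conj_mem_conj_smul.2 hy)))) (inv_mem (fr_nU h4))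
  convert this using 1
  simp [mul_assoc]

theorem out [Finite A] (hM : Mod4 σ L x) (hK : KA5 σ L x) (hA : Aut4 σ L x) {n : ℕ}
    (hn : Nat.card {a // σ a = a} = 2 ^ n) : ∃ τ : N[L] →* Multiplicative (ZMod (2 * n)),
    ∀ g, τ g = 1 ↔ ∃ l ∈ L, ∃ χ, Mono σ x (l * g) 1 (I1 A) χ := by
  have := Fintype.ofFinite A
  have := CharTwo.of_one_ne_zero_of_two_eq_zero (one_ne_zero' A) hM.pin.two
  obtain ⟨e, d, he, hd, hed⟩ : ∃ e d, (σ = I1 A → e = 2) ∧ Fintype.card A = 2 ^ d ∧ 2 * n = e * d := by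
    by_cases h : σ = I1 A
    · subst h
      refine ⟨2, n, fun _ => rfl, ?_, rfl⟩
      rw [← hn, ← Nat.card_eq_fintype_card]
      exact (Nat.card_congr (Equiv.subtypeUnivEquiv fun _ => rfl)).symm
    · refine ⟨1, 2 * n, fun h' => absurd h' h, ?_, (one_mul _).symm⟩
      rw [H25.card_fixedSub h hM.pin.sq, mul_comm, pow_mul, ← hn]
      rfl
  have he0 : e ≠ 0 := by
    rintro rfl
    have : 1 < Nat.card {a // σ a = a} :=
      Finite.one_lt_card_iff_nontrivial.2 ⟨⟨0, map_zero σ⟩, ⟨1, map_one σ⟩, by simp⟩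
    rw [hn, show n = 0 by omega] at this
    omega
  let Ty : N[L] → ℕ → Prop := fun g i => ∃ l ∈ L, ∃ φ χ k, (∀ a, φ a = a ^ 2 ^ k) ∧
    ((i = e * k ∧ Mono σ x (l * g) 1 φ χ) ∨ (σ = I1 A ∧ i = 2 * k + 1 ∧ Swp x (l * g) φ χ))
  have ex : ∀ g, ∃ i, Ty g i := fun g => by
    obtain ⟨l, hl, φ, χ, h⟩ := hA g g.2
    obtain ⟨k, hk⟩ := H89.Shaw.exists_pow φ
    rcases h with h | ⟨h0, h⟩
    · exact ⟨_, l, hl, φ, χ, k, hk, .inl ⟨rfl, h⟩⟩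
    · exact ⟨_, l, hl, φ, χ, k, hk, .inr ⟨h0, rfl, h⟩⟩
  obtain ⟨τ, hτ⟩ := hom_of_ty (2 * n) Ty ex (by
    rintro g g' i j ⟨l, hl, φ, χ, k, hk, h⟩ ⟨l', hl', φ', χ', k', hk', h'⟩
    refine ⟨l * (g * l' * (g : G)⁻¹), mul_mem hl (conj_mem_of_mem_normalizer g.2 hl'), ?_⟩
    have e1 : l * (g * l' * (g : G)⁻¹) * ↑(g * g') = l * g * (l' * g') := by
      rw [coe_mul]; group
    have e2 : ∀ a, (φ'.trans φ) a = a ^ 2 ^ (k + k') := fun a => by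
      rw [RingEquiv.trans_apply, hk, hk', ← pow_mul, ← pow_add, add_comm]
    rw [e1]
    rcases h with ⟨rfl, h⟩ | ⟨h0, rfl, h⟩ <;> rcases h' with ⟨rfl, h'⟩ | ⟨h0', rfl, h'⟩
    · exact ⟨_, _, _, e2, .inl ⟨by ring, mono_mul h h'⟩⟩
    · exact ⟨_, _, _, e2, .inr ⟨h0', by rw [he h0']; ring, mono_swp h h'⟩⟩
    · exact ⟨_, _, _, e2, .inr ⟨h0, by rw [he h0]; ring, swp_mono h h'⟩⟩
    · have := PerfectRing.ofFiniteOfIsReduced 2 A
      refine ⟨(φ'.trans φ).trans (frobeniusEquiv A 2), _, k + k' + 1, fun a => ?_,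
        .inl ⟨by rw [he h0]; ring, h0 ▸ swp_swp h h' fun _ => rfl⟩⟩
      rw [RingEquiv.trans_apply, e2, pow_succ, pow_mul]
      rfl) (by
    rintro i ⟨l, hl, φ, χ, k, hk, ⟨rfl, h⟩ | ⟨-, -, h⟩⟩ <;> rw [coe_one, mul_one] at h
    · obtain rfl := (uq hM.pin hK hl φ χ).1 h
      exact hed ▸ mul_dvd_mul_left e (dvd_of_pow hd fun a => (hk a).symm)
    · exact absurd h (uq hM.pin hK hl φ χ).2)
  refine ⟨τ, fun g => ⟨fun h => ?_, fun ⟨l, hl, χ, h⟩ =>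
    (hτ g 0 ⟨l, hl, _, χ, 0, fun a => by simp, .inl ⟨by simp, h⟩⟩).2 (dvd_zero _)⟩⟩
  obtain ⟨i, hi⟩ := ex g
  have h1 := (hτ g i hi).1 h
  obtain ⟨l, hl, φ, χ, k, hk, ⟨rfl, h2⟩ | ⟨-, rfl, -⟩⟩ := hi
  · rw [hed, mul_dvd_mul_iff_left he0] at h1
    obtain rfl : φ = I1 A := RingEquiv.ext fun a => by
      rw [hk, H89.Shaw.pow_congr hd ((Nat.modEq_zero_iff_dvd).2 h1)]
      simp
    exact ⟨l, hl, χ, h2⟩
  · obtain ⟨c, hc⟩ := h1
    rw [mul_assoc] at hc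
    omega

/-- **KB1** (corrected kit) -/
theorem kb3 : Kb3Stmt.{u, v} := fun _ _ _ hM hK hA =>
  ⟨fun _ _ h => ⟨fr_odd hM h, fun e => by subst e; exact fr_in hM hK.ka h⟩,
    fun _ hl => uq hM.pin hK hl, fun _ => nU hM hK hA, fun _ => two hK hA, fun _ => out hM hK hA⟩

end Cfsg.Agent.H98.F4K5
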