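import Cfsg.Agent.H96.CpDefs

/-!
Formal consequences of the data of an essential subgroup.
-/

set_option autoImplicit false

namespace Cfsg.Agent.H98.D4Cp

open Cfsg.Agent.H97 Cfsg.Agent.H96.VB Cfsg.Agent.H96.CP Subgroup
open scoped commutatorElement Pointwise

universe u

variable {G : Type u} [Group G] {P : Subgroup G}

/-- `α` maps the members of `L` into themselves. -/
def Nv (α : MulAut P) (L : List (Subgroup G)) : Prop := ∀ Y ∈ L, ∀ y ∈ Y, ext α y ∈ Y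

theorem sa_one : ∀ (L : List (Subgroup G)) (X : Subgroup G), Sa (1 : MulAut P) X L
  | [], _ => fun x _ => ext_one x
  | _ :: L, _ => ⟨fun x _ => by rw [ext_one, inv_mul_cancel]; exact one_mem _, sa_one L _⟩

theorem sa_mul {α β : MulAut P} : ∀ {L : List (Subgroup G)} {X : Subgroup G}, X ≤ P →
    (∀ Y ∈ L, Y ≤ P) → Nv α L → Sa α X L → Sa β X L → Sa (α * β) X L
  | [], _, _, _, _, h, k => fun x hx => by rw [ext_mul, k x hx, h x hx]
  | Y :: L, _, hX, hL, hN, h, k => ⟨fun x hx => by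
      have h1 := k.1 x hx
      have h2 := ext_map_mul α (hX hx) (hL Y (by simp) h1)
      rw [mul_inv_cancel_left] at h2
      rw [ext_mul, h2, ← mul_assoc]
      exact mul_mem (h.1 x hx) (hN Y (by simp) _ h1),
    sa_mul (hL Y (by simp)) (fun Z hZ => hL Z (by simp [hZ])) (fun Z hZ => hN Z (by simp [hZ])) h.2 k.2⟩

theorem sa_conj {α δ : MulAut P} : ∀ {L : List (Subgroup G)} {X : Subgroup G}, X ≤ P →
    (∀ Y ∈ L, Y ≤ P) → Nv δ L → Nv δ⁻¹ (X :: L) → Sa α X L → Sa (δ * α * δ⁻¹) X L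
  | [], X, _, _, _, hN, h => fun x hx => by
      rw [ext_mul, ext_mul, h _ (hN X (by simp) x hx), ext_ext_inv]
  | Y :: L, X, hX, hL, hM, hN, h => ⟨fun x hx => by
      have h1 := hN X (by simp) x hx
      have h2 := hM Y (by simp) _ (h.1 _ h1)
      rwa [ext_map_mul δ (inv_mem (hX h1)) (ext_mem α (hX h1)), ext_map_inv δ (hX h1), ext_ext_inv,
        ← ext_mul, ← ext_mul] at h2,
    sa_conj (hL Y (by simp)) (fun Z hZ => hL Z (by simp [hZ])) (fun Z hZ => hM Z (by simp [hZ]))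
      (fun Z hZ => hN Z (List.mem_cons_of_mem _ hZ)) h.2⟩

theorem sa_of_st {α : MulAut P} {g : G} (h : Cj α g) : ∀ {L : List (Subgroup G)} {X : Subgroup G},
    X ≤ P → (∀ Y ∈ L, Y ≤ P) → St g X L → Sa α X L
  | [], _, hX, _, k => fun x hx => by
      rw [h x (hX hx), (commutatorElement_eq_one_iff_mul_comm.1 (k x hx)), mul_inv_cancel_right]
  | Y :: L, _, hX, hL, k => ⟨fun x hx => by
      have := inv_mem (k.1 _ (inv_mem hx))
      rw [h x (hX hx)]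
      convert this using 1
      rw [commutatorElement_def]; group,
    sa_of_st h (hL Y (by simp)) (fun Z hZ => hL Z (by simp [hZ])) k.2⟩

theorem le_of_chain : ∀ {L : List (Subgroup G)} {X : Subgroup G}, List.IsChain (· ≥ ·) (X :: L) →
    ∀ Y ∈ L, Y ≤ X
  | [], _, _ => by simp
  | Z :: L, _, h => fun Y hY => by
      rw [List.isChain_cons_cons] at h
      rcases List.mem_cons.1 hY with rfl | hY
      · exact h.1
      · exact (le_of_chain h.2 Y hY).trans h.1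

theorem nv_of_chain {α : MulAut P} : ∀ {L : List (Subgroup G)} {X : Subgroup G},
    List.IsChain (· ≥ ·) (X :: L) → Sa α X L → Nv α (X :: L)
  | [], _, _, k => fun Y hY y hy => by
      rw [List.mem_singleton] at hY
      subst hY
      rwa [k y hy]
  | Z :: L, _, h, k => fun Y hY y hy => by
      rw [List.isChain_cons_cons] at h
      rcases List.mem_cons.1 hY with rfl | hY
      · simpa using mul_mem hy (h.1 (k.1 y hy))
      · exact nv_of_chain h.2 k.2 Y hY y hy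

variable (P) in
/-- the stabilizer of a chain -/
def stM (L : List (Subgroup G)) (hL : ∀ Y ∈ L, Y ≤ P) : Submonoid (MulAut P) where
  carrier := {α | Nv α L ∧ Sa α P L}
  one_mem' := ⟨fun _ _ y hy => by rwa [ext_one], sa_one L P⟩
  mul_mem' := fun ha hb => ⟨fun Y hY y hy => by
    rw [ext_mul]; exact ha.1 Y hY _ (hb.1 Y hY y hy), sa_mul le_rfl hL ha.1 ha.2 hb.2⟩

variable [Finite G]

variable (P) in
/-- the stabilizer of a chain -/
def st (L : List (Subgroup G)) (hL : ∀ Y ∈ L, Y ≤ P) : Subgroup (MulAut P) :=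
  { stM P L hL with
    inv_mem' := fun {a} ha => (Submonoid.powers_le.2 ha : _ ≤ stM P L hL)
      (mem_powers_iff_mem_zpowers.2 (inv_mem (mem_zpowers a))) }

theorem mem_st {L : List (Subgroup G)} {hL : ∀ Y ∈ L, Y ≤ P} {α : MulAut P} :
    α ∈ st P L hL ↔ Nv α L ∧ Sa α P L := Iff.rfl

variable {p : ℕ} [Fact p.Prime] (hG : IsPGroup p G)
include hG

theorem sa_pow {α : MulAut P} : ∀ {L : List (Subgroup G)} {X : Subgroup G}, X ≤ P →
    (∀ Y ∈ L, Y ≤ P) → Nv α L → Sa α X L → ∃ k : ℕ, ∀ x ∈ X, ext (α ^ p ^ k) x = x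
  | [], _, _, _, _, h => ⟨0, by simpa using h⟩
  | Y :: L, X, hX, hL, hN, h => by
      have hY := hL Y (by simp)
      obtain ⟨k, hk⟩ := sa_pow hY (fun Z hZ => hL Z (by simp [hZ])) (fun Z hZ => hN Z (by simp [hZ])) h.2
      obtain ⟨e, he⟩ := IsPGroup.iff_card.1 hG
      refine ⟨k + e, fun x hx => ?_⟩
      have h1 : ∀ n : ℕ, x⁻¹ * ext (α ^ n) x ∈ Y := fun n => by
        induction n with
        | zero => simp
        | succ n ih =>
          have h2 := ext_map_mul α (hX hx) (hY ih)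
          rw [mul_inv_cancel_left] at h2
          rw [pow_succ', ext_mul, h2, ← mul_assoc]
          exact mul_mem (h.1 x hx) (hN Y (by simp) _ ih)
      have h2 : ∀ n : ℕ, ext ((α ^ p ^ k) ^ n) x = x * (x⁻¹ * ext (α ^ p ^ k) x) ^ n := fun n => by
        induction n with
        | zero => simp
        | succ n ih =>
          rw [pow_succ', ext_mul, ih, ext_map_mul _ (hX hx) (hY (pow_mem (h1 _) n)),
            hk _ (pow_mem (h1 _) n), pow_succ', ← mul_assoc, mul_inv_cancel_left]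
      rw [pow_add, pow_mul, h2, ← he, pow_card_eq_one', mul_one]

theorem isPGroup_st (L : List (Subgroup G)) (hL : ∀ Y ∈ L, Y ≤ P) : IsPGroup p (st P L hL) :=
  fun α => by
    obtain ⟨k, hk⟩ := sa_pow hG le_rfl hL α.2.1 α.2.2
    exact ⟨k, Subtype.ext (aut_eq_one hk)⟩

variable {A B : Subgroup (MulAut P)} (h : Cp0 p P A B)
include h

theorem inn (L : List (Subgroup G)) (hL : ∀ X ∈ L, X ≤ P ∧ Iv A X) (α : MulAut P) (hα : α ∈ A)
    (hS : Sa α P L) : ∃ s ∈ P, Cj α s := by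
  have h1 : ∀ Y ∈ L, Y ≤ P := fun Y hY => (hL Y hY).1
  have h2 : ∀ δ ∈ A, Nv δ L := fun δ hδ Y hY y hy => (hL Y hY).2 δ hδ y (h1 Y hY hy) hy
  have h3 : ∀ δ ∈ A, ∀ β ∈ A, Sa β P L → Sa (δ * β * δ⁻¹) P L := fun δ hδ β _ k =>
    sa_conj le_rfl h1 (h2 δ hδ) (fun Y hY y hy => by
      rcases List.mem_cons.1 hY with rfl | hY
      · exact ext_mem _ hy
      · exact h2 _ (inv_mem hδ) Y hY y hy) k
  obtain ⟨γ, hγ, k⟩ := h.syl (A ⊓ st P L h1) inf_le_left ((isPGroup_st hG L h1).to_inf_right)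
  have h4 : ∀ β ∈ A, Sa β P L → ∃ s, Cj β s := fun β hβ e => by
    have hm : γ⁻¹ * β * γ⁻¹⁻¹ ∈ A := mul_mem (mul_mem (inv_mem hγ) hβ) (inv_mem (inv_mem hγ))
    obtain ⟨s, hs⟩ := k _ ⟨hm, h2 _ hm, h3 _ (inv_mem hγ) β hβ e⟩
    exact ⟨s, by convert hs using 1; group⟩
  obtain ⟨s, hs⟩ := h4 α hα hS
  refine ⟨s, by_contra fun hn => h.lt fun δ hδ => h.se δ hδ α s hs hn ?_, hs⟩
  obtain ⟨t, ht⟩ := h4 _ (mul_mem (mul_mem hδ hα) (inv_mem hδ)) (h3 δ hδ α hα hS)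
  exact h.cj _ t ht

theorem chain (L : List (Subgroup G)) (hL : ∀ X ∈ L, X ≤ P ∧ Iv A X) (g : G) (hg : St g P L) :
    g ∈ P := by
  obtain ⟨α, hα⟩ := exists_cj (mem_normalizer_of_comm (P := P) (g := g) fun x hx => by
    cases L with
    | nil => rw [hg x hx]; exact one_mem _
    | cons Y L => exact (hL Y (by simp)).1 (hg.1 x hx))
  obtain ⟨s, hs, k⟩ := inn hG h L hL α (h.le (h.cj α g hα))
    (sa_of_st hα le_rfl (fun Y hY => (hL Y hY).1) hg)
  have := h.cen (s⁻¹ * g) fun x hx => by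
    have e := (hα x hx).symm.trans (k x hx)
    calc s⁻¹ * g * x = s⁻¹ * (g * x * g⁻¹) * g := by group
      _ = x * (s⁻¹ * g) := by rw [e]; group
  simpa using mul_mem hs this

theorem pair (L : List (Subgroup G)) (hL : List.IsChain (· ≥ ·) (P :: L)) (α : MulAut P) (hα : α ∈ A)
    (β β' : MulAut P) (s s' : G) (h1 : Cj β s) (h2 : s ∉ P) (h3 : Cj β' s') (h4 : s' ∉ P)
    (h5 : Sa β P L) (h6 : Sa (α * β' * α⁻¹) P L) : α ∈ B := by
  have k1 := le_of_chain hL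
  have k2 : ∀ δ ∈ A, Sa δ P L → δ ∈ A ⊓ st P L k1 := fun δ hδ e =>
    ⟨hδ, fun Y hY => nv_of_chain hL e Y (List.mem_cons_of_mem _ hY), e⟩
  obtain ⟨γ, hγ, k⟩ := h.syl (A ⊓ st P L k1) inf_le_left ((isPGroup_st hG L k1).to_inf_right)
  obtain ⟨t, ht⟩ := k β (k2 β (h.le (h.cj β s h1)) h5)
  have k3 := h.se γ hγ β s h1 h2 (h.cj _ t ht)
  obtain ⟨t', ht'⟩ := k _ (k2 _ (mul_mem (mul_mem hα (h.le (h.cj β' s' h3))) (inv_mem hα)) h6)
  refine h.se α hα β' s' h3 h4 ?_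
  have := mul_mem (mul_mem (inv_mem k3) (h.cj _ t' ht')) k3
  convert this using 1; group

omit hG h in
theorem mem_ind {β : MulAut P} : β ∈ autInducedBy ⊤ P ↔ ∃ s, Cj β s :=
  mem_autInducedBy_iff.trans ⟨fun ⟨s, _, k⟩ => ⟨s, k⟩, fun ⟨s, k⟩ => ⟨s, trivial, k⟩⟩

/-- Sylow's theorem in an overgroup of the induced automorphisms. -/
theorem syl_in {C M : Subgroup (MulAut P)} (h1 : C ≤ A) (h2 : autInducedBy ⊤ P ≤ C) (h3 : M ≤ C)
    (h4 : IsPGroup p M) : ∃ c ∈ C, ∀ α ∈ M, ∃ s, Cj (c * α * c⁻¹) s := by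
  obtain ⟨S, hS⟩ := ((isPGroup_autInducedBy (hG.to_subgroup ⊤) (P := P)).comap_subtype
    (K := C)).exists_le_sylow
  obtain ⟨T, hT⟩ := (h4.comap_subtype (K := C)).exists_le_sylow
  obtain ⟨c, hc⟩ := MulAction.exists_smul_eq C T S
  obtain ⟨γ, -, k⟩ := h.syl (S.1.map C.subtype) ((map_subtype_le _).trans h1) (S.2.map _)
  have e : autInducedBy ⊤ P = S.1.map C.subtype := by
    refine eq_of_le_of_card_ge (fun β hβ => ⟨⟨β, h2 hβ⟩, hS hβ, rfl⟩) ?_
    exact Nat.card_le_card_of_injective (fun β : S.1.map C.subtype =>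
      (⟨γ * β * γ⁻¹, mem_ind.2 (k β β.2)⟩ : autInducedBy ⊤ P)) fun β β' e =>
        Subtype.ext (by simpa using e)
  refine ⟨c, c.2, fun α hα => mem_ind.1 ?_⟩
  rw [e, ← hc]
  exact ⟨c * ⟨α, h3 hα⟩ * c⁻¹, smul_mem_pointwise_smul _ (MulAut.conj c) _ (hT hα), rfl⟩

theorem sylT (α : MulAut P) (hα : α ∈ A) (v : G) (hv : v ∈ P)
    (hc : ∀ s ∈ normalizer (P : Set G), s * ext α v = ext α v * s) :
    ∃ α' ∈ A, ext α' v = ext α v ∧ ∀ β s, Cj β s → s * v = v * s → ∃ s', Cj (α' * β * α'⁻¹) s' := by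
  let St : G → Subgroup (MulAut P) := fun w =>
    { carrier := {δ | ext δ w = w}
      one_mem' := ext_one w
      mul_mem' := fun {a b} (ha : _ = _) (hb : _ = _) => by
        change ext (a * b) w = w
        rw [ext_mul, hb, ha]
      inv_mem' := fun {a} (ha : _ = _) => by
        change ext a⁻¹ w = w
        conv_lhs => rw [← ha, ext_inv_ext] }
  have hX : autInducedBy ⊤ P ≤ A := fun β hβ => (mem_ind.1 hβ).elim fun s k => h.le (h.cj β s k)
  obtain ⟨c, hc1, k⟩ := syl_in hG h (C := A ⊓ St (ext α v))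
    (M := (autInducedBy ⊤ P ⊓ St v).map (MulAut.conj α).toMonoidHom) inf_le_left
    (fun β hβ => ⟨hX hβ, (mem_ind.1 hβ).elim fun s k => by
      change ext β _ = _
      rw [k _ (ext_mem α hv), hc s k.mem_normalizer, mul_inv_cancel_right]⟩)
    (by
      rintro _ ⟨β, ⟨h1, h2 : _ = _⟩, rfl⟩
      refine ⟨A.mul_mem (A.mul_mem hα (hX h1)) (A.inv_mem hα), ?_⟩
      change ext (α * β * α⁻¹) _ = _
      rw [ext_mul, ext_mul, ext_inv_ext, h2])
    (((isPGroup_autInducedBy (hG.to_subgroup ⊤)).to_inf_left).map _)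
  refine ⟨c * α, mul_mem hc1.1 hα, by rw [ext_mul]; exact hc1.2, fun β s h1 h2 => ?_⟩
  obtain ⟨s', hs'⟩ := k _ ⟨β, ⟨mem_ind.2 ⟨s, h1⟩, by
    change ext β v = v
    rw [h1 v hv, h2, mul_inv_cancel_right]⟩, rfl⟩
  exact ⟨s', by convert hs' using 1; simp [mul_assoc]⟩

omit hG h [Finite G] in
theorem dvd_of_fib {Ω κ : Type*} [Finite Ω] (S : Set Ω) (f : Ω → κ) (m : ℕ)
    (k : ∀ a ∈ S, m ∣ {x | x ∈ S ∧ f x = f a}.ncard) : m ∣ S.ncard := by
  classical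
  have := Fintype.ofFinite Ω
  rw [Set.ncard_eq_toFinset_card', Finset.card_eq_sum_card_image f]
  refine Finset.dvd_sum fun b hb => ?_
  obtain ⟨a, ha, rfl⟩ := Finset.mem_image.1 hb
  have e := k a (by simpa using ha)
  rw [Set.ncard_eq_toFinset_card'] at e
  refine e.trans (dvd_of_eq (congrArg _ ?_))
  ext; simp

omit hG in
theorem count {X : Set G} {R : Subgroup G} (hX : Iv B X) (h1 : P ≤ R)
    (h2 : R ≤ normalizer (P : Set G)) {α : MulAut P} (hα : α ∈ A) (hB : α ∉ B) {v : G} (hv : v ∈ P) :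
    {δ | (∃ b ∈ B, ∃ β ∈ autInducedBy R P, δ = b * α * β) ∧ ext δ v ∈ X}.ncard * Nat.card P =
      Nat.card B * {c | c ∈ R ∧ ext α (c * v * c⁻¹) ∈ X}.ncard := by
  rw [← Nat.card_coe_set_eq, ← Nat.card_coe_set_eq, ← Nat.card_prod, ← Nat.card_prod]
  have hi : ∀ b ∈ B, ∀ x ∈ P, ext b x ∈ X ↔ x ∈ X := fun b hb x hx =>
    ⟨fun e => by simpa using hX _ (inv_mem hb) _ (ext_mem b hx) e, hX b hb x hx⟩
  have : ∀ δ : {δ | (∃ b ∈ B, ∃ β ∈ autInducedBy R P, δ = b * α * β) ∧ ext δ v ∈ X},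
      ∃ b ∈ B, ∃ β, ∃ c ∈ R, Cj β c ∧ δ.1 = b * α * β := fun ⟨_, ⟨b, hb, β, hβ, e⟩, _⟩ =>
    (mem_autInducedBy_iff.1 hβ).elim fun c k => ⟨b, hb, β, c, k.1, k.2, e⟩
  choose b hb β c hc hβ e using this
  choose ρ hρ using fun s : P => exists_cj (P := P) (le_normalizer s.2)
  refine Nat.card_congr (Equiv.ofBijective (fun x => (⟨b x.1 * (α * ρ x.2 * α⁻¹)⁻¹,
    mul_mem (hb _) (inv_mem (h.cj _ _ ((hρ x.2).conj x.2.2 α)))⟩,
    ⟨x.2 * c x.1, mul_mem (h1 x.2.2) (hc _), ?_⟩)) ⟨?_, ?_⟩)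
  · have k := x.1.2.2
    rw [e, ext_mul, ext_mul, hi _ (hb _) _ (ext_mem _ (ext_mem _ hv))] at k
    rw [← ((hρ x.2).mul (hβ x.1)) v hv,
      ← hi _ (inv_mem (h.cj _ _ ((hρ x.2).conj x.2.2 α))) _ (ext_mem _ (ext_mem _ hv)),
      ← ext_mul, ← ext_mul]
    rw [← ext_mul] at k
    convert k using 2; group
  · rintro ⟨δ, s⟩ ⟨δ', s'⟩ k
    obtain ⟨k1, k2⟩ := Prod.ext_iff.1 k
    replace k1 : b δ * _ = b δ' * _ := congrArg Subtype.val k1
    replace k2 : s * c δ = s' * c δ' := congrArg Subtype.val k2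
    have k3 := ((hρ s).mul (hβ δ)).eq (k2 ▸ (hρ s').mul (hβ δ'))
    obtain rfl : δ = δ' := Subtype.ext (by
      calc δ.1 = b δ * (α * ρ s * α⁻¹)⁻¹ * α * (ρ s * β δ) := by rw [e δ]; group
        _ = δ'.1 := by rw [k1, k3, e δ']; group)
    rw [show s = s' from Subtype.ext (mul_right_cancel k2)]
  · rintro ⟨⟨b', hb'⟩, c', hc', k⟩
    obtain ⟨β', hβ'⟩ := exists_cj (h2 hc')
    let δ : {δ | (∃ b ∈ B, ∃ β ∈ autInducedBy R P, δ = b * α * β) ∧ ext δ v ∈ X} :=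
      ⟨b' * α * β', ⟨b', hb', β', mem_autInducedBy_iff.2 ⟨c', hc', hβ'⟩, rfl⟩, by
        rwa [ext_mul, ext_mul, hi _ hb' _ (ext_mem _ (ext_mem _ hv)), hβ' v hv]⟩
    have k1 : b' * α * β' = _ := e δ
    have k2 : α * (β' * (β δ)⁻¹) * α⁻¹ = b'⁻¹ * b δ := by
      calc _ = b'⁻¹ * (b' * α * β') * (β δ)⁻¹ * α⁻¹ := by group
        _ = _ := by rw [k1]; group
    have k3 : c' * (c δ)⁻¹ ∈ P := by_contra fun hn => hB (h.se α hα _ _ (hβ'.mul (hβ δ).inv) hn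
      (k2 ▸ mul_mem (inv_mem hb') (hb δ)))
    refine ⟨(δ, ⟨_, k3⟩), Prod.ext (Subtype.ext ?_) (Subtype.ext ?_)⟩
    · change b δ * (α * ρ ⟨_, k3⟩ * α⁻¹)⁻¹ = b'
      rw [(hρ ⟨_, k3⟩).eq (hβ'.mul (hβ δ).inv), k2]; group
    · exact inv_mul_cancel_right _ _

omit hG in
theorem tr (X : Set G) (R : Subgroup G) (hX : Iv B X) (h1 : P ≤ R) (h2 : R ≤ normalizer (P : Set G))
    (k : ∀ α ∈ A, α ∉ B → ∀ v ∈ P,
      p * Nat.card P ∣ {c | c ∈ R ∧ ext α (c * v * c⁻¹) ∈ X}.ncard) : Iv A X := by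
  have hR : autInducedBy R P ≤ B := fun β hβ =>
    (mem_autInducedBy_iff.1 hβ).elim fun c e => h.cj β c e.2
  have h3 : ∀ v ∈ P, p * Nat.card B ∣ {δ | δ ∈ A ∧ δ ∉ B ∧ ext δ v ∈ X}.ncard := fun v hv => by
    refine dvd_of_fib _ (DoubleCoset.mk B (autInducedBy R P)) _ fun α ⟨hα, hB, _⟩ => ?_
    have e : {δ | δ ∈ {δ | δ ∈ A ∧ δ ∉ B ∧ ext δ v ∈ X} ∧
        DoubleCoset.mk B (autInducedBy R P) δ = DoubleCoset.mk B (autInducedBy R P) α} =
        {δ | (∃ b ∈ B, ∃ β ∈ autInducedBy R P, δ = b * α * β) ∧ ext δ v ∈ X} := by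
      ext δ
      rw [Set.mem_ofPred_eq, eq_comm, DoubleCoset.eq]
      refine ⟨fun e => ⟨e.2, e.1.2.2⟩, fun e => ⟨⟨?_, fun hn => hB ?_, e.2⟩, e.1⟩⟩
      · obtain ⟨b, hb, β, hβ, rfl⟩ := e.1
        exact mul_mem (mul_mem (h.le hb) hα) (h.le (hR hβ))
      · obtain ⟨b, hb, β, hβ, rfl⟩ := e.1
        exact (mul_mem_cancel_left hb).1 ((mul_mem_cancel_right (hR hβ)).1 hn)
    rw [e]
    obtain ⟨m, hm⟩ := k α hα hB v hv
    have h4 := count h hX h1 h2 hα hB hv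
    rw [hm] at h4
    exact ⟨m, Nat.eq_of_mul_eq_mul_right (Nat.card_pos (α := P)) (by rw [h4]; ring)⟩
  intro γ hγ v hv hvX
  by_contra hn
  have h4 : {δ | δ ∈ A ∧ δ ∉ B ∧ ext δ (ext γ v) ∈ X}.ncard =
      Nat.card B + {δ | δ ∈ A ∧ δ ∉ B ∧ ext δ v ∈ X}.ncard := by
    rw [show Nat.card B = (B : Set (MulAut P)).ncard from Nat.card_coe_set_eq _, ← Set.ncard_union_eq
      (Set.disjoint_left.2 fun δ h1 h2 => h2.2.1 h1), ← Set.ncard_image_of_injective _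
      (mul_left_injective γ)]
    congr 1
    ext δ
    constructor
    · rintro ⟨δ, ⟨e1, -, e2⟩, rfl⟩
      by_cases e : δ * γ ∈ B
      · exact Or.inl e
      · exact Or.inr ⟨mul_mem e1 hγ, e, by rwa [ext_mul]⟩
    · intro e
      have e1 : δ ∈ A ∧ ext δ v ∈ X := e.elim (fun e => ⟨h.le e, hX δ e v hv hvX⟩) fun e => ⟨e.1, e.2.2⟩
      refine ⟨δ * γ⁻¹, ⟨mul_mem e1.1 (inv_mem hγ), fun e2 => hn ?_, by
        rw [ext_mul, ext_inv_ext]; exact e1.2⟩, inv_mul_cancel_right _ _⟩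
      have := hX _ (inv_mem e2) _ (ext_mem δ hv) e1.2
      rwa [← ext_mul, mul_inv_rev, inv_inv, inv_mul_cancel_right] at this
  have h5 := h3 _ (ext_mem γ hv)
  rw [h4] at h5
  have h6 := Nat.le_of_dvd Nat.card_pos ((Nat.dvd_add_left (h3 v hv)).1 h5)
  have h7 := (Fact.out : p.Prime).two_le
  have h8 : 0 < Nat.card B := Nat.card_pos
  nlinarith

omit hG h [Finite G] in
theorem cp : CpStmt.{u} := fun _ _ _ _ _ hG _ _ _ h =>
  { h with inn := inn hG h, chain := chain hG h, pair := pair hG h, sylT := sylT hG h, tr := tr h }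

end Cfsg.Agent.H98.D4Cp
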