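import Cfsg.Agent.H46.UDefs
import Cfsg.Agent.H87.Transfer
import Cfsg.Agent.H1.Card
import Cfsg.Agent.H83.Base

/-! An involution with centraliser `A₅ × 2 × O`: basic facts and the homocyclic case. -/

set_option autoImplicit false

namespace Cfsg.Agent.H98.S94

open Subgroup Cfsg.Agent.H8 Cfsg.Agent.H46.S94
open Cfsg.Agent.H83 (cj mem_cj card_cj isPGroup_cj isPGroup_sup conj_mem mem_sup_left_norm)

universe u

theorem a5_four : ∀ x : Equiv.Perm (Fin 5), Equiv.Perm.sign x = 1 → x ^ 4 = 1 → x * x = 1 := by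
  decide +kernel

theorem a5_six : ∀ x : Equiv.Perm (Fin 5), Equiv.Perm.sign x = 1 → x ^ 6 = 1 →
    x ^ 2 = 1 ∨ x ^ 3 = 1 := by
  decide +kernel

variable {X : Type u} [Group X] {t σ : X} {Λ O Z : Subgroup X}

theorem ord_t (h : A5C t σ Λ O Z) : orderOf t = 2 :=
  orderOf_eq_prime (by rw [pow_two, h.tt]) h.t1

theorem card_L (h : A5C t σ Λ O Z) : Nat.card Λ = 60 := by
  obtain ⟨e⟩ := h.iso
  have := two_mul_nat_card_alternatingGroup (α := Fin 5)
  rw [Nat.card_perm, Nat.card_fin] at this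
  rw [Nat.card_congr e.toEquiv]
  change _ = 120 at this
  omega

theorem Z_sq (h : A5C t σ Λ O Z) {z : X} (hz : z ∈ Z) : z * z = 1 := by
  obtain ⟨e⟩ := h.iso
  have h4 : (⟨z, h.ZL hz⟩ : Λ) ^ 4 = 1 :=
    Subtype.ext (orderOf_dvd_iff_pow_eq_one.1 (h.cZ ▸ Z.orderOf_dvd_natCard hz))
  have := a5_four (e ⟨z, h.ZL hz⟩) (e _).2 (by
    rw [← Subgroup.coe_pow, ← map_pow, h4, map_one, Subgroup.coe_one])
  have : e ⟨z, h.ZL hz⟩ * e ⟨z, h.ZL hz⟩ = 1 := Subtype.ext this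
  rw [← map_mul, map_eq_one_iff e e.injective] at this
  exact congrArg Subtype.val this

/-- `σ` is fixed point free on the involutions of `Λ` -/
theorem fpf (h : A5C t σ Λ O Z) {z : X} (hz : z ∈ Λ) (zz : z * z = 1) (c : z * σ = σ * z) :
    z = 1 := by
  obtain ⟨e⟩ := h.iso
  have s3 : σ ^ 3 = 1 := h.so ▸ pow_orderOf_eq_one σ
  have c' : Commute z σ := c
  have z2 : z ^ 2 = 1 := (pow_two z).trans zz
  have h6 : (⟨z * σ, mul_mem hz h.sL⟩ : Λ) ^ 6 = 1 := Subtype.ext (by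
    change (z * σ) ^ 6 = 1
    rw [c'.mul_pow, show z ^ 6 = (z ^ 2) ^ 3 by group, show σ ^ 6 = (σ ^ 3) ^ 2 by group, z2, s3]
    simp)
  have back : ∀ k : ℕ, (e ⟨z * σ, mul_mem hz h.sL⟩ : Equiv.Perm (Fin 5)) ^ k = 1 →
      z ^ k * σ ^ k = 1 := fun k hk => by
    have : e ⟨z * σ, mul_mem hz h.sL⟩ ^ k = 1 := Subtype.ext hk
    rw [← map_pow, map_eq_one_iff e e.injective] at this
    rw [← c'.mul_pow]
    exact congrArg Subtype.val this
  rcases a5_six (e ⟨z * σ, mul_mem hz h.sL⟩) (e _).2 (by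
    rw [← Subgroup.coe_pow, ← map_pow, h6, map_one, Subgroup.coe_one]) with h2 | h2
  · have := back 2 h2
    rw [z2, one_mul, ← orderOf_dvd_iff_pow_eq_one, h.so] at this
    omega
  · have := back 3 h2
    rwa [s3, mul_one, pow_succ, z2, one_mul] at this

variable [Finite X]

/-- the `2`-subgroups of `C(t)` have order at most eight -/
theorem card_two (h : A5C t σ Λ O Z) {R : Subgroup X} (hR : IsPGroup 2 R)
    (hc : R ≤ centralizer {t}) : Nat.card R ≤ 8 := by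
  have n1 : zpowers t ≤ normalizer (Λ : Set X) :=
    zpowers_le.2 (centralizer_le_normalizer _ fun l hl => h.Lt l hl)
  have n2 : O ≤ normalizer ((zpowers t ⊔ Λ : Subgroup X) : Set X) :=
    H83.le_norm_sup (fun o ho => centralizer_le_normalizer _ fun x hx => by
      obtain ⟨k, rfl⟩ := mem_zpowers_iff.1 hx
      exact ((show Commute o t from h.Ot o ho).zpow_right k).eq.symm)
      (h.OC.trans (centralizer_le_normalizer _))
  have le : R ≤ O ⊔ (zpowers t ⊔ Λ) := fun x hx => by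
    obtain ⟨l, hl, o, ho, rfl | rfl⟩ := h.cen x (mem_centralizer_singleton_iff.1 (hc hx))
    · exact mul_mem (mem_sup_right (mem_sup_right hl)) (mem_sup_left ho)
    · exact mul_mem (mem_sup_right (mul_mem (mem_sup_right hl) (mem_sup_left (mem_zpowers t))))
        (mem_sup_left ho)
  have d1 := H1.card_sup_dvd_of_le_normalizer n1
  rw [Nat.card_zpowers, ord_t h, card_L h] at d1
  have d2 := ((card_dvd_of_le le).trans (H1.card_sup_dvd_of_le_normalizer n2)).trans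
    (mul_dvd_mul_left _ d1)
  obtain ⟨k, hk⟩ := hR.exists_card_eq
  rw [hk] at d2 ⊢
  have d3 := (Nat.Coprime.pow_left k (Nat.coprime_two_left.2 h.odd)).dvd_of_dvd_mul_left d2
  by_contra hlt
  have : 4 ≤ k := by
    by_contra h4
    exact hlt (Nat.pow_le_pow_right (by norm_num) (show k ≤ 3 by omega))
  exact absurd ((pow_dvd_pow 2 this).trans d3) (by decide)

/-- a `2`-subgroup of `C(t)` over `Z⟨t⟩` is `Z⟨t⟩` -/
theorem eq_Zt (h : A5C t σ Λ O Z) (tZ : t ∉ Z) {R : Subgroup X} (hR : IsPGroup 2 R)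
    (hc : R ≤ centralizer {t}) (hZ : Z ≤ R) (ht : t ∈ R) : Z ⊔ zpowers t = R := by
  have le : Z ⊔ zpowers t ≤ R := sup_le hZ (zpowers_le.2 ht)
  refine eq_of_le_of_card_ge le ((card_two h hR hc).trans ?_)
  have h1 := card_eq_card_mul_relIndex (le_sup_left : Z ≤ Z ⊔ zpowers t)
  have h2 : Z.relIndex (Z ⊔ zpowers t) ≠ 1 := fun e =>
    tZ (relIndex_eq_one.1 e (mem_sup_right (mem_zpowers t)))
  have h3 : Z.relIndex (Z ⊔ zpowers t) ≠ 0 := index_ne_zero_of_finite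
  rw [h.cZ] at h1
  omega

omit [Finite X] in
theorem s_mem (h : A5C t σ Λ O Z) {X0 : Subgroup X} (i : X0.index = 2) : σ ∈ X0 := by
  have s3 : σ ^ 3 = 1 := h.so ▸ pow_orderOf_eq_one σ
  have : σ = σ ^ 2 * σ ^ 2 := by
    calc σ = σ ^ 3 * σ := by rw [s3, one_mul]
      _ = _ := by group
  exact this ▸ mul_self_mem_of_index_two i _

omit [Finite X] in
theorem L_le (h : A5C t σ Λ O Z) {X0 : Subgroup X} [X0.Normal] (i : X0.index = 2) : Λ ≤ X0 := by
  obtain ⟨e⟩ := h.iso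
  have : IsSimpleGroup Λ := e.isSimpleGroup
  refine subgroupOf_eq_top.1 (((inferInstance : (X0.subgroupOf Λ).Normal).eq_bot_or_eq_top).resolve_left
    fun e => ?_)
  have : (⟨σ, h.sL⟩ : Λ) ∈ X0.subgroupOf Λ := s_mem h i
  rw [e, mem_bot] at this
  have h3 := h.so
  rw [show σ = 1 from congrArg Subtype.val this, orderOf_one] at h3
  omega

omit [Finite X] in
theorem mem_Tt {T : Subgroup X} (tt : t * t = 1) (tN : t ∈ normalizer (T : Set X)) {s : X}
    (hs : s ∈ T ⊔ zpowers t) : s ∈ T ∨ s * t ∈ T := by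
  obtain ⟨x, hx, _, ⟨k, rfl⟩, rfl⟩ := (mem_sup_left_norm (zpowers_le.2 tN)).1 hs
  obtain ⟨i, rfl | rfl⟩ := Int.even_or_odd' k
  · left
    simpa only [zpow_mul, zpow_two, tt, one_zpow, mul_one] using hx
  · right
    simpa only [zpow_add_one, zpow_mul, zpow_two, tt, one_zpow, one_mul, mul_assoc, mul_one]
      using hx

omit [Finite X] in
theorem relIndex_Tt {T : Subgroup X} (tt : t * t = 1) (tN : t ∈ normalizer (T : Set X))
    (tT : t ∉ T) : T.relIndex (T ⊔ zpowers t) = 2 :=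
  index_eq_two_iff.2 ⟨⟨t, mem_sup_right (mem_zpowers t)⟩, fun x => by
    rcases mem_Tt tt tN x.2 with h | h
    · exact Or.inr ⟨h, fun h' => tT ((mul_mem_cancel_left h).1 h')⟩
    · exact Or.inl ⟨h, fun h' => tT ((mul_mem_cancel_left (x := (x : X)) h').1 h)⟩⟩

theorem two_sol {m : ℕ} [NeZero m] {a b : Multiplicative (ZMod m)} (ha : a * a = 1)
    (hb : b * b = 1) (h : a = 1 ↔ b = 1) : a = b := by
  have k : ∀ c : Multiplicative (ZMod m), c * c = 1 → c = 1 ∨ 2 * c.toAdd.val = m := fun c hc =>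
    (ZMod.neg_eq_self_iff c.toAdd).1 (neg_eq_of_add_eq_zero_left hc)
  by_cases h1 : a = 1
  · rw [h1, h.1 h1]
  · have h2 := (k a ha).resolve_left h1
    have h3 := (k b hb).resolve_left (h.not.1 h1)
    exact Multiplicative.toAdd.injective (ZMod.val_injective m (by omega))

omit [Finite X] in
theorem homC_ab {T : Subgroup X} {n : ℕ} (h : HomC T n) : Ab T := fun x hx y hy => by
  obtain ⟨e⟩ := h
  exact congrArg Subtype.val (e.injective (a₁ := ⟨x, hx⟩ * ⟨y, hy⟩) (a₂ := ⟨y, hy⟩ * ⟨x, hx⟩)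
    (by rw [map_mul, map_mul, mul_comm]))

omit [Finite X] in
theorem homC_card {T : Subgroup X} {n : ℕ} (h : HomC T n) : Nat.card T = 2 ^ n * 2 ^ n := by
  obtain ⟨e⟩ := h
  rw [Nat.card_congr e.toEquiv, Nat.card_prod]
  simp

omit [Finite X] in
theorem homC_four {T : Subgroup X} {n : ℕ} (h : HomC T n) (hn : 2 ≤ n) :
    ∃ x ∈ T, orderOf x = 4 := by
  obtain ⟨e⟩ := h
  have o : orderOf ((e.symm (Multiplicative.ofAdd 1, 1) : T) : X) = 2 ^ n := by
    rw [orderOf_coe, e.symm.orderOf_eq, Prod.orderOf_mk, orderOf_one, Nat.lcm_one_right,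
      orderOf_ofAdd_eq_addOrderOf, ZMod.addOrderOf_one]
  exact ⟨_, pow_mem (e.symm (Multiplicative.ofAdd 1, 1)).2 _,
    orderOf_pow_orderOf_div (n := 4) (by rw [o]; positivity)
      (by rw [o]; exact pow_dvd_pow 2 hn)⟩

theorem homC_omega {T Z : Subgroup X} {n : ℕ} (h : HomC T n) (hZ : Z ≤ T) (c : Nat.card Z = 4)
    (sq : ∀ z ∈ Z, z * z = 1) : ∀ x ∈ T, x * x = 1 → x ∈ Z := by
  classical
  have ab := homC_ab h
  obtain ⟨e⟩ := h
  let Ω : Subgroup X :=
    { carrier := {x | x ∈ T ∧ x * x = 1}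
      one_mem' := ⟨one_mem _, one_mul _⟩
      mul_mem' := fun {a b} ha hb => ⟨mul_mem ha.1 hb.1, by
        calc a * b * (a * b) = a * (b * a) * b := by group
          _ = a * a * (b * b) := by rw [← ab a ha.1 b hb.1]; group
          _ = 1 := by rw [ha.2, hb.2, one_mul]⟩
      inv_mem' := fun {a} ha => ⟨inv_mem ha.1, by rw [← mul_inv_rev, ha.2, inv_one]⟩ }
  have le : Z ≤ Ω := fun z hz => ⟨hZ hz, sq z hz⟩
  have k : ∀ x : Ω, e ⟨x, x.2.1⟩ * e ⟨x, x.2.1⟩ = 1 := fun x => by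
    rw [← map_mul, map_eq_one_iff e e.injective]
    exact Subtype.ext x.2.2
  have hc : Nat.card Ω ≤ Nat.card (Bool × Bool) :=
    Nat.card_le_card_of_injective
      (fun x => (decide ((e ⟨x, x.2.1⟩).1 = 1), decide ((e ⟨x, x.2.1⟩).2 = 1))) fun x y hxy => by
      simp only [Prod.mk.injEq, decide_eq_decide] at hxy
      exact Subtype.ext (Subtype.mk.inj (e.injective (Prod.ext
        (two_sol (congrArg Prod.fst (k x)) (congrArg Prod.fst (k y)) hxy.1)
        (two_sol (congrArg Prod.snd (k x)) (congrArg Prod.snd (k y)) hxy.2))))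
  have := eq_of_le_of_card_ge le (by rw [c]; simpa using hc)
  exact fun x hx xx => this.ge ⟨hx, xx⟩

theorem pa1 (hc : HCStmt.{u}) : PA1Stmt.{u} := by
  intro X _ _ t σ Λ O Z T n h iv hT hn
  by_contra hcon
  push Not at hcon
  have ab := homC_ab hT
  have om := homC_omega hT iv.ZP h.cZ fun _ => Z_sq h
  have tS : t ∈ T ⊔ zpowers t := mem_sup_right (mem_zpowers t)
  have pS : IsPGroup 2 (T ⊔ zpowers t : Subgroup X) := by
    rw [sup_comm]
    exact isPGroup_sup (IsPGroup.of_card (n := 1) (by rw [Nat.card_zpowers, ord_t h, pow_one]))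
      iv.two (zpowers_le.2 iv.tN)
  have syl : IsSylowIn 2 (T ⊔ zpowers t) ⊤ := isSylowIn_of_maximal le_top pS fun P hP _ hle => by
    by_contra hn
    obtain ⟨g, ⟨gP, gN⟩, gS⟩ := SetLike.exists_of_lt (lt_inf_normalizer_of_lt hP ⟨hle, hn⟩)
    obtain ⟨x, hx, e⟩ := hcon g gN
    have e1 := eq_Zt h (fun m => iv.tP (iv.ZP m)) (R := P ⊓ centralizer {t}) hP.to_inf_left
      inf_le_right (fun z hz => ⟨hle (mem_sup_left (iv.ZP hz)),
        mem_centralizer_singleton_iff.2 (h.Lt z (h.ZL hz))⟩)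
      ⟨hle tS, mem_centralizer_singleton_iff.2 rfl⟩
    have m : x⁻¹ * g ∈ Z ⊔ zpowers t := e1.ge ⟨P.mul_mem (P.inv_mem (hle (mem_sup_left hx))) gP,
      mem_centralizer_singleton_iff.2 (by
        calc x⁻¹ * g * t = x⁻¹ * (g * t * g⁻¹) * g := by group
          _ = t * (x⁻¹ * g) := by rw [e]; group)⟩
    exact gS ((mul_mem_cancel_left (inv_mem (mem_sup_left hx))).1 (sup_le_sup_right iv.ZP _ m))
  obtain ⟨X0, n0, i0, t0⟩ := H87.thompson_transfer_involution
    (H87.odd_index_sylow syl.toSylowTop) (relIndex_Tt h.tt iv.tN iv.tP)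
    ((pow_two t).trans h.tt) fun g hg => by
      have h1 := card_two h (isPGroup_cj iv.two g⁻¹) fun y hy => by
        have := ab _ (mem_cj.1 hy) _ hg
        rw [mem_centralizer_singleton_iff]
        calc y * t = g⁻¹ * (g⁻¹⁻¹ * y * g⁻¹ * (g * t * g⁻¹)) * g := by group
          _ = t * y := by rw [this]; group
      rw [card_cj, homC_card hT] at h1
      have : 2 ^ 2 ≤ 2 ^ n := Nat.pow_le_pow_right (by norm_num) hn
      nlinarith
  have s3 : σ ^ 3 = 1 := h.so ▸ pow_orderOf_eq_one σ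
  have fT : ∀ y ∈ T, y * σ = σ * y → y = 1 := fun y hy c => by
    by_contra y1
    obtain ⟨z, ⟨hz, zc⟩, z1, zz⟩ : ∃ z ∈ T ⊓ centralizer {σ}, z ≠ 1 ∧ z * z = 1 := by
      obtain ⟨k, hk⟩ := H83.isPGroup_iff.1 iv.two y hy
      have d : 2 ∣ orderOf y := by
        obtain ⟨j, -, hj⟩ := (Nat.dvd_prime_pow Nat.prime_two).1 (orderOf_dvd_of_pow_eq_one hk)
        rcases j with _ | j
        · exact absurd (orderOf_eq_one_iff.1 hj) y1
        · exact hj ▸ dvd_pow_self 2 (by omega)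
      have o := orderOf_pow_orderOf_div (orderOf_pos y).ne' d
      refine ⟨y ^ (orderOf y / 2), pow_mem (mem_inf.2 ⟨hy, mem_centralizer_singleton_iff.2 c⟩) _,
        fun e => ?_, (pow_two _).symm.trans (orderOf_dvd_iff_pow_eq_one.1 o.dvd)⟩
      rw [e, orderOf_one] at o
      omega
    exact z1 (fpf h (h.ZL (om z hz zz)) zz (mem_centralizer_singleton_iff.1 zc))
  have s0 := s_mem h i0
  have T0 : T ≤ X0 := fun x hx => by
    have m1 : σ * x * σ⁻¹ ∈ T := (mem_normalizer_iff.1 iv.sN x).1 hx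
    have m2 : σ * (σ * x * σ⁻¹) * σ⁻¹ ∈ T := (mem_normalizer_iff.1 iv.sN _).1 m1
    have e := fT _ (mul_mem (mul_mem hx m1) m2) (by
      calc x * (σ * x * σ⁻¹) * (σ * (σ * x * σ⁻¹) * σ⁻¹) * σ
          = σ * x * σ⁻¹ * (σ * (σ * x * σ⁻¹) * σ⁻¹) * x * σ := by
            rw [mul_assoc x, ab x hx _ (mul_mem m1 m2)]
        _ = σ * (x * (σ * x * σ⁻¹) * (σ * (σ * (σ ^ 3)⁻¹ * x * σ ^ 3 * σ⁻¹) * σ⁻¹)) := by group
        _ = _ := by rw [s3]; group)
    by_contra x0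
    have := e ▸ X0.one_mem
    simp only [mul_mem_iff_of_index_two i0, inv_mem_iff, s0, x0] at this
    tauto
  have L0 := L_le h i0
  have ST : (T ⊔ zpowers t) ⊓ X0 = T := le_antisymm (fun s hs => by
    refine (mem_Tt h.tt iv.tN hs.1).resolve_right fun m => t0 ?_
    exact (X0.mul_mem_cancel_left hs.2).1 (T0 m)) (le_inf le_sup_left T0)
  have syl0 := (syl.inf_of_le_normalizer (N := X0) (normalizer_eq_top X0).ge).subgroupOf
    (K := X0) inf_le_right
  rw [ST, top_inf_eq, subgroupOf_self] at syl0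
  obtain ⟨e⟩ := h.iso
  obtain ⟨x, hx, x4⟩ := homC_four hT hn
  have nrm : ∀ A : Subgroup X, σ ∈ normalizer (A : Set X) →
      (⟨σ, s0⟩ : X0) ∈ normalizer ((A.subgroupOf X0 : Subgroup X0) : Set X0) := fun A hA =>
    mem_normalizer_iff.2 fun y => mem_normalizer_iff.1 hA y
  exact hc X0 ⟨σ, s0⟩ (Λ.subgroupOf X0) (Z.subgroupOf X0) (T.subgroupOf X0)
    ⟨(subgroupOfEquivOfLe L0).trans e⟩ (fun _ hz => h.ZL hz)
    ((Nat.card_congr (subgroupOfEquivOfLe (h.ZL.trans L0)).toEquiv).trans h.cZ) h.sL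
    ((orderOf_mk σ s0).trans h.so) (nrm Z h.sZ) syl0
    (fun a ha b hb => Subtype.ext (ab a ha b hb)) (fun _ hz => iv.ZP hz) (nrm T iv.sN)
    (fun y hy yy => om y hy (congrArg Subtype.val yy))
    ⟨⟨x, T0 hx⟩, hx, (orderOf_mk x _).trans x4⟩

end Cfsg.Agent.H98.S94
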