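import Mathlib
import Cfsg.Agent.H46.UDefs

/-! A diagonal element of `PGL₃(4)` moves the subgroups `4 × 4` of a Sylow `2`-subgroup. -/

set_option autoImplicit false

namespace Cfsg.Agent.H98.S94L

open Subgroup Cfsg.Agent.H8 Cfsg.Agent.H46.S94
open scoped Pointwise

variable {F : Type} [Field F]

/-- the unitriangular matrices -/
def ut (a b c : F) : GL (Fin 3) F :=
  ⟨!![1, a, c; 0, 1, b; 0, 0, 1], !![1, -a, a * b - c; 0, 1, -b; 0, 0, 1],
    by
      ext i j
      fin_cases i <;> fin_cases j <;> simp [Matrix.mul_apply, Fin.sum_univ_three]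
      ring,
    by
      ext i j
      fin_cases i <;> fin_cases j <;> simp [Matrix.mul_apply, Fin.sum_univ_three]
      ring⟩

/-- a diagonal matrix -/
def dg (w : Fˣ) : GL (Fin 3) F :=
  ⟨!![w, 0, 0; 0, w, 0; 0, 0, 1], !![(w⁻¹ : Fˣ), 0, 0; 0, (w⁻¹ : Fˣ), 0; 0, 0, 1],
    by ext i j; fin_cases i <;> fin_cases j <;> simp [Matrix.mul_apply, Fin.sum_univ_three],
    by ext i j; fin_cases i <;> fin_cases j <;> simp [Matrix.mul_apply, Fin.sum_univ_three]⟩

theorem ut_mul (a b c a' b' c' : F) :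
    ut a b c * ut a' b' c' = ut (a + a') (b + b') (c + c' + a * b') := Units.ext (by
  ext i j
  fin_cases i <;> fin_cases j <;> simp [ut, Matrix.mul_apply, Fin.sum_univ_three] <;> ring)

theorem ut_zero : ut (0 : F) 0 0 = 1 := Units.ext (by
  ext i j
  fin_cases i <;> fin_cases j <;> simp [ut])

theorem ut_inv (a b c : F) : (ut a b c)⁻¹ = ut (-a) (-b) (a * b - c) := Units.ext rfl

theorem dg_ut (w : Fˣ) (a b c : F) : dg w * ut a b c * (dg w)⁻¹ = ut a (w * b) (w * c) :=
  mul_inv_eq_iff_eq_mul.2 (Units.ext (by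
    ext i j
    fin_cases i <;> fin_cases j <;> simp [ut, dg, Matrix.mul_apply, Fin.sum_univ_three, mul_comm]))

/-- the image in `PGL₃` -/
def pu (a b c : F) : PG3 F := QuotientGroup.mk (ut a b c)

theorem pu_mul (a b c a' b' c' : F) :
    pu a b c * pu a' b' c' = pu (a + a') (b + b') (c + c' + a * b') := by
  rw [pu, pu, ← QuotientGroup.mk_mul, ut_mul, pu]

theorem pu_zero : pu (0 : F) 0 0 = 1 := by rw [pu, ut_zero, QuotientGroup.mk_one]

theorem pu_inv (a b c : F) : (pu a b c)⁻¹ = pu (-a) (-b) (a * b - c) := by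
  rw [pu, ← QuotientGroup.mk_inv, ut_inv, pu]

theorem pu_inj {a b c a' b' c' : F} (h : pu a b c = pu a' b' c') : a = a' ∧ b = b' ∧ c = c' := by
  have := QuotientGroup.eq.1 h
  rw [ut_inv, ut_mul, Matrix.GeneralLinearGroup.mem_center_iff_val_mem_range_scalar] at this
  obtain ⟨s, hs⟩ := this
  have h1 := congrFun (congrFun hs 0) 1
  have h2 := congrFun (congrFun hs 1) 2
  have h3 := congrFun (congrFun hs 0) 2
  simp [ut] at h1 h2 h3
  refine ⟨by linear_combination h1, by linear_combination h2, by linear_combination h3 + a * h2⟩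

variable (F) in
/-- the unitriangular group -/
def UU : Subgroup (PG3 F) where
  carrier := {x | ∃ a b c, x = pu a b c}
  one_mem' := ⟨0, 0, 0, pu_zero.symm⟩
  mul_mem' := by
    rintro _ _ ⟨a, b, c, rfl⟩ ⟨a', b', c', rfl⟩
    exact ⟨_, _, _, pu_mul ..⟩
  inv_mem' := by
    rintro _ ⟨a, b, c, rfl⟩
    exact ⟨_, _, _, pu_inv ..⟩

theorem card_UU : Nat.card (UU F) = Nat.card F ^ 3 := by
  have : Nat.card (F × F × F) = Nat.card (UU F) :=
    Nat.card_eq_of_bijective (fun p => ⟨pu p.1 p.2.1 p.2.2, _, _, _, rfl⟩)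
      ⟨fun p q h => by
        obtain ⟨h1, h2, h3⟩ := pu_inj (congrArg Subtype.val h)
        exact Prod.ext h1 (Prod.ext h2 h3), by
        rintro ⟨_, a, b, c, rfl⟩
        exact ⟨(a, b, c), rfl⟩⟩
  rw [← this, Nat.card_prod, Nat.card_prod]
  ring

theorem syl_UU [Fintype F] (h : Fintype.card F = 4) : IsSylowIn 2 (UU F) ⊤ := by
  have c : Nat.card (UU F) = 64 := by rw [card_UU, Nat.card_eq_fintype_card, h]; rfl
  refine ⟨le_top, IsPGroup.of_card (n := 6) c, fun d => ?_⟩
  have h1 := card_quotient_dvd_card (center (GL (Fin 3) F))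
  rw [Matrix.card_GL_field, h, Fin.prod_univ_three, ← (UU F).card_mul_index, c] at h1
  rw [relIndex_top_right] at d
  exact absurd ((mul_dvd_mul_left 64 d).trans h1) (by decide)

theorem lq2 : LQ2Stmt := by
  intro F _ _ h D P cP DP ab _ ⟨d, hd, d4⟩
  have two : (2 : F) = 0 := by
    have := FiniteField.cast_card_eq_zero F
    rw [h] at this
    exact mul_self_eq_zero.1 (by linear_combination this)
  obtain ⟨w, hw⟩ : ∃ w : Fˣ, w ≠ 1 := by
    classical
    have : Nontrivial Fˣ := Fintype.one_lt_card_iff_nontrivial.1 (by rw [Fintype.card_units, h]; decide)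
    exact exists_ne 1
  obtain ⟨g, -, hg⟩ := (syl_UU h).exists_conj_le (IsPGroup.of_card (n := 6) cP) le_top
  have e : MulAut.conj g • P = UU F := eq_of_le_of_card_ge hg (by
    rw [card_conj_smul, cP, card_UU, Nat.card_eq_fintype_card, h]; rfl)
  have mem : ∀ x, x ∈ P ↔ g * x * g⁻¹ ∈ UU F := fun x => by rw [← e, conj_mem_conj_smul]
  let δ : PG3 F := QuotientGroup.mk (dg w)
  have hδ : ∀ a b c : F, δ * pu a b c * δ⁻¹ = pu a (w * b) (w * c) := fun a b c =>
    congrArg QuotientGroup.mk (dg_ut w a b c)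
  refine ⟨g⁻¹ * δ * g, mem_normalizer_fintype fun x hx => ?_, fun hn => ?_⟩
  · obtain ⟨a, b, c, e1⟩ := (mem x).1 hx
    refine (mem _).2 ⟨_, _, _, Eq.trans ?_ (hδ a b c)⟩
    rw [← e1]
    group
  · obtain ⟨a, b, c, e1⟩ := (mem d).1 (DP hd)
    have h1 := ab d hd _ ((mem_normalizer_iff.1 hn d).1 hd)
    have h2 : pu a b c * (δ * pu a b c * δ⁻¹) = δ * pu a b c * δ⁻¹ * pu a b c := by
      rw [← e1]
      calc _ = g * (d * (g⁻¹ * δ * g * d * (g⁻¹ * δ * g)⁻¹)) * g⁻¹ := by group
        _ = _ := by rw [h1]; group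
    rw [hδ, pu_mul, pu_mul] at h2
    have h3 : a * b = 0 := by
      have : ((w : F) - 1) * (a * b) = 0 := by linear_combination (pu_inj h2).2.2
      exact (mul_eq_zero.1 this).resolve_left fun e => hw (Units.ext (sub_eq_zero.1 e))
    have h4 : d ^ 2 = 1 := by
      have : pu a b c * pu a b c = 1 := by
        rw [pu_mul, ← pu_zero]
        congr 1
        · linear_combination a * two
        · linear_combination b * two
        · linear_combination c * two + h3
      rw [← e1] at this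
      calc d ^ 2 = g⁻¹ * (g * d * g⁻¹ * (g * d * g⁻¹)) * g := by rw [pow_two]; group
        _ = 1 := by rw [this]; group
    have := orderOf_dvd_of_pow_eq_one h4
    rw [d4] at this
    omega

end Cfsg.Agent.H98.S94L
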