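import Cfsg.Agent.H71.FSDefs
import Cfsg.Agent.H27.SympBasic
import Cfsg.Agent.H30.OrthMaxTS
import Cfsg.Agent.H21.Basic

/-!
# Project FS2: assembly
-/

set_option autoImplicit false

namespace Cfsg.Agent.H98.FS

open Cfsg Subgroup H23 H30 H71.FS2 QuadraticMap Module

universe u

section chars
variable {G S : Type*} [Group G] [Group S]

/-- the indicator -/
noncomputable def av (χ : G → ℂ) : ℂ := (Nat.card G : ℂ)⁻¹ * ∑ᶠ s : G, χ (s * s)

theorem av_comp [Finite G] (f : G →* S) (hf : Function.Surjective f) (χ : S → ℂ) :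
    av (fun g => χ (f g)) = av χ := by
  haveI := Finite.of_surjective f hf
  haveI := Fintype.ofFinite G
  haveI := Fintype.ofFinite S
  have h := H11.sum_comp_of_surjective f hf fun _ => 1
  have k : (Nat.card f.ker : ℂ) ≠ 0 := Nat.cast_ne_zero.2 Nat.card_pos.ne'
  simp only [Finset.sum_const, Finset.card_univ, nsmul_one, ← Nat.card_eq_fintype_card] at h
  simp only [av, finsum_eq_sum_of_fintype, map_mul]
  rw [H11.sum_comp_of_surjective f hf fun s => χ (s * s), h]
  field_simp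

/-- all indicators are `1` -/
def AllFS (G : Type*) [Group G] : Prop := ∀ χ : IrrCharacter G, av χ.1 = 1

/-- no indicator is `-1` -/
def NoNeg (G : Type*) [Group G] : Prop := ∀ χ : IrrCharacter G, av χ.1 ≠ -1

theorem AllFS.of_surj [Finite G] (h : AllFS G) (f : G →* S) (hf : Function.Surjective f) :
    AllFS S := fun χ =>
  (av_comp f hf χ.1).symm.trans (h ⟨_, H11.isIrrCharacter_comp_of_surjective χ.2 f hf⟩)

theorem NoNeg.of_surj [Finite G] (h : NoNeg G) (f : G →* S) (hf : Function.Surjective f) :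
    NoNeg S := fun χ e =>
  h ⟨_, H11.isIrrCharacter_comp_of_surjective χ.2 f hf⟩ ((av_comp f hf χ.1).trans e)

theorem NoNeg.all [Finite G] (h : NoNeg G) (r : ∀ g : G, ∃ γ, γ * g * γ⁻¹ = g⁻¹) : AllFS G := by
  intro χ
  haveI := Fintype.ofFinite G
  have := H19.fs_of_real χ.2 fun g => by
    obtain ⟨γ, e⟩ := r g
    have := H11.isClassFunction_of_irr χ.2 g γ
    rw [e, H12.IsCharacter_inv (H11.irr_isCharacter χ)] at this
    exact Complex.conj_eq_iff_im.1 this
  rw [H19.fs_eq_finsum] at this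
  exact this.resolve_right (h χ)

end chars

section graded
variable {Γ : Type u} [Group Γ] [Finite Γ] {K L : Subgroup (Γ × ℤˣ)} {H : Subgroup Γ}

theorem noNeg_of_nb (hK : ∀ k, k ∈ K ↔ k.1 ∈ H) (h : NB (MonoidHom.snd Γ ℤˣ) K) : NoNeg H := by
  intro χ e
  let f : ev (MonoidHom.snd Γ ℤˣ) K ≃* H :=
    { toFun := fun k => ⟨k.1.1, (hK _).1 k.2.1⟩
      invFun := fun g => ⟨(g, 1), (hK _).2 g.2, rfl⟩
      left_inv := fun k => Subtype.ext (Prod.ext rfl (mem_ev.1 k.2).2.symm)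
      right_inv := fun _ => rfl
      map_mul' := fun _ _ => rfl }
  let f' : H ≃ {γ : Γ × ℤˣ // γ ∈ K ∧ MonoidHom.snd Γ ℤˣ γ = -1} :=
    { toFun := fun g => ⟨(g, -1), (hK _).2 g.2, rfl⟩
      invFun := fun k => ⟨k.1.1, (hK _).1 k.2.1⟩
      left_inv := fun _ => rfl
      right_inv := fun k => Subtype.ext (Prod.ext rfl k.2.2.symm) }
  refine h ⟨_, H11.isIrrCharacter_comp_of_surjective χ.2 f.toMonoidHom f.surjective⟩ ?_
  rw [eps, ← finsum_comp_equiv f', Nat.card_congr f.toEquiv]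
  exact e

theorem nb_of_index (c1 : C1.{u}) (c2 : C2.{u}) (hK : ∀ k, k ∈ K) (d : Γ →* ℤˣ)
    (hL : ∀ k, k ∈ L ↔ d k.1 = 1) (r : ∀ g : Γ, ∃ γ, γ * g * γ⁻¹ = g⁻¹)
    (h : NB (MonoidHom.snd Γ ℤˣ) K) : NB (MonoidHom.snd Γ ℤˣ) L := by
  intro θ e
  have hle : L ≤ K := fun k _ => hK k
  obtain ⟨ho, hs⟩ := (c1 _ L θ).2.1 (by rw [e]; norm_num)
  obtain ⟨ψ, h0⟩ := exists_over (ev_mono (π := MonoidHom.snd Γ ℤˣ) hle) θ
  have hi : (ev (MonoidHom.snd Γ ℤˣ) L).relIndex (ev (MonoidHom.snd Γ ℤˣ) K) ≤ 2 := by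
    have : (ev (MonoidHom.snd Γ ℤˣ) L).subgroupOf (ev (MonoidHom.snd Γ ℤˣ) K) =
        ((d.comp (MonoidHom.fst _ _)).comp (Subgroup.subtype _)).ker := by
      ext k
      exact (and_iff_left k.2.2).trans (hL _)
    rw [relIndex, this, index_ker]
    exact (card_le_card_group _).trans (by simp)
  have h1 := mult_mul_deg_le (ev_mono hle) ψ θ
  have h2 := mult_mul_deg_le' (ev_mono hle) ψ θ
  have h3 := H21.deg_pos θ
  have h4 : mult (ev_mono hle) ψ θ = 1 := by
    by_contra h5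
    have : 2 ≤ mult (ev_mono hle) ψ θ := by omega
    nlinarith
  refine h ψ ((c2 _ hle ψ θ ho (fun γ _ _ g g' e => ?_) hs (h4 ▸ odd_one)).trans e)
  obtain ⟨δ, hδ⟩ := r g.1.1
  rw [← H11.isClassFunction_of_irr ψ.2 g' ⟨(δ * γ.1⁻¹, 1), hK _, rfl⟩]
  refine congrArg _ (Subtype.ext (Prod.ext ?_ ?_))
  · simp [e, ← hδ, mul_assoc]
  · have k : ∀ x : ev (MonoidHom.snd Γ ℤˣ) K, x.1.2 = 1 := fun x => x.2.2
    exact (k _).trans (k _).symm

end graded

section geo
variable {F V : Type u} [Field F] [Finite F] [CharP F 2] [AddCommGroup V] [Module F V]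
  [FiniteDimensional F V] {Q : QuadraticForm F V}

theorem nb_top (m : MAIN.{u}) (hQ : (polarBilin Q).Nondegenerate) :
    NB (pr Q) (Gam (⊥ : Subgroup (O Q)) ∅) :=
  m hQ ⊥ ∅ ⟨fun a ha b _ => by simp [mem_bot.1 ha], by simp, fun d hd _ => by
    have : d = 0 := by simpa [DD] using hd
    exact ⟨this ▸ zero_mem _, fun _ => this⟩⟩

omit [Finite F] [CharP F 2] [FiniteDimensional F V] in
theorem mem_Gam_bot {T : Set V} {k : O Q × ℤˣ} : k ∈ Gam ⊥ T ↔ ∀ t ∈ T, k.1.1 t = t :=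
  and_iff_right fun x hx => by simp [mem_bot.1 hx]

theorem allFS_O (m : MAIN.{u}) (re : RE.{u}) (hQ : (polarBilin Q).Nondegenerate) :
    AllFS (O Q) := by
  haveI : Finite (O Q) := finite_O
  exact ((noNeg_of_nb (H := ⊤) (fun k => by simp [mem_Gam_bot]) (nb_top m hQ)).of_surj
    (Subgroup.subtype _) fun g => ⟨⟨g, mem_top g⟩, rfl⟩).all fun g => (re hQ g).imp fun _ h => h.1

theorem allFS_Omega (c1 : C1.{u}) (c2 : C2.{u}) (m : MAIN.{u}) (re : RE.{u})
    (hQ : (polarBilin Q).Nondegenerate) {n : ℕ} (hn : 2 ≤ n) (hV : finrank F V = 4 * n) :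
    AllFS (commutator (O Q)) := by
  haveI : Finite (O Q) := finite_O
  have hc : ∀ g, g ∈ commutator (O Q) ↔ dickson hQ g = 1 := fun g => by
    rw [commutator_eq_kerDS hQ (not_isExc_of_finrank (by omega)),
      mem_kerDS_of_two_eq_zero hQ CharTwo.two_eq_zero]
  refine (noNeg_of_nb (K := (commutator (O Q)).comap (MonoidHom.fst _ _)) (fun _ => Iff.rfl)
    (nb_of_index c1 c2 (fun k => by simp [mem_Gam_bot]) (dickson hQ) (fun k => hc _)
      (fun g => (re hQ g).imp fun _ h => h.1) (nb_top m hQ))).all fun g => ?_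
  obtain ⟨γ, e, h⟩ := re hQ g.1
  rw [hV, show 4 * n / 2 = 2 * n by omega, pow_mul, neg_one_sq, one_pow] at h
  exact ⟨⟨γ, (hc _).2 h⟩, Subtype.ext e⟩

omit [FiniteDimensional F V] in
theorem exists_sqrt {σ : V →ₗ[F] V} (h : ∀ u v, polar Q (σ u) (σ v) = polar Q u v) :
    ∃ l : Dual F V, ∀ v, l v * l v = Q (σ v) + Q v := by
  choose l hl using fun v => isSquare_of_two_eq_zero (F := F) CharTwo.two_eq_zero (Q (σ v) + Q v)
  have h2 : (2 : F) = 0 := CharTwo.two_eq_zero
  refine ⟨⟨⟨l, fun u v => CharTwo.sq_inj.1 ?_⟩, fun c v => CharTwo.sq_inj.1 ?_⟩,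
    fun v => (hl v).symm⟩
  · have := hl (u + v)
    rw [map_add, Q_add, Q_add, h] at this
    linear_combination hl u + hl v - this + (polar Q u v - l u * l v) * h2
  · have := hl (c • v)
    rw [map_smul, Q_smul, Q_smul] at this
    simp only [RingHom.id_apply, smul_eq_mul]
    linear_combination c * c * hl v - this

theorem real_sp (re : RE.{u}) (hQ : (polarBilin Q).Nondegenerate)
    (g : H27.isomGroup (polarBilin Q)) : ∃ γ, γ * g * γ⁻¹ = g⁻¹ := by
  have h2 : (2 : F) = 0 := CharTwo.two_eq_zero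
  obtain ⟨l, hl⟩ := exists_sqrt (Q := Q) (σ := g.1) g.2
  obtain ⟨m, hm⟩ : l ∈ LinearMap.range (g.1.toLinearMap - LinearMap.id : V →ₗ[F] V).dualMap := by
    rw [LinearMap.range_dualMap_eq_dualAnnihilator_ker, Submodule.mem_dualAnnihilator]
    intro v hv
    have e : g.1 v = v := sub_eq_zero.1 hv
    have := hl v
    rw [LinearEquiv.coe_coe, e, CharTwo.add_self_eq_zero] at this
    exact mul_self_eq_zero.1 this
  let Q' : QuadraticForm F V := Q + linMulLin m m
  have hp : polarBilin Q' = polarBilin Q := LinearMap.ext₂ fun u v => by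
    simp only [Q', polarBilin_apply_apply, polar, _root_.add_apply, linMulLin_apply, map_add]
    linear_combination (m u * m v) * h2
  have hg : g.1 ∈ O Q' := fun v => by
    have e : m (g.1 v) - m v = l v := by rw [← hm]; simp
    have := hl v
    simp only [Q', _root_.add_apply, linMulLin_apply]
    rw [← e, LinearEquiv.coe_coe] at this
    linear_combination (m (g.1 v) * m (g.1 v) - m (g.1 v) * m v - Q v) * h2 - this
  obtain ⟨γ, e, -⟩ := re (hp ▸ hQ : (polarBilin Q').Nondegenerate) ⟨g.1, hg⟩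
  exact ⟨⟨γ.1, fun u v => hp ▸ O_polar γ u v⟩, Subtype.ext (congrArg (fun x : O Q' => x.1) e)⟩

theorem allFS_Sp (m : MAIN.{u}) (re : RE.{u}) (hQ : (polarBilin Q).Nondegenerate) :
    AllFS (H27.isomGroup (polarBilin Q)) := by
  have h2 : (2 : F) = 0 := CharTwo.two_eq_zero
  let a : V × F × F →ₗ[F] F := (LinearMap.fst F F F).comp (LinearMap.snd F V _)
  let b : V × F × F →ₗ[F] F := (LinearMap.snd F F F).comp (LinearMap.snd F V _)
  let R : QuadraticForm F (V × F × F) := Q.comp (LinearMap.fst F V _) + linMulLin a (a + b)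
  have hR : ∀ x, R x = Q x.1 + x.2.1 * (x.2.1 + x.2.2) := fun _ => rfl
  have hp : ∀ x y, polar R x y = polar Q x.1 y.1 + x.2.1 * y.2.2 + x.2.2 * y.2.1 := fun x y => by
    simp only [polar, hR, Prod.fst_add, Prod.snd_add]
    linear_combination (x.2.1 * y.2.1) * h2
  have nR : (polarBilin R).Nondegenerate := nondegenerate_of_forall fun x hx =>
    Prod.ext (eq_zero_of_polar hQ fun y => by simpa [hp] using hx (y, 0, 0))
      (Prod.ext (by simpa [hp] using hx (0, 0, 1)) (by simpa [hp] using hx (0, 1, 0)))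
  haveI : Finite (O R) := finite_O
  let w : V × F × F := (0, 1, 0)
  let H := MulAction.stabilizer (O R) w
  have nb : NoNeg H := noNeg_of_nb (K := Gam ⊥ {w}) (fun k => by simp [mem_Gam_bot, H, O_smul_def])
    (m nR ⊥ {w} ⟨fun a ha b _ => by simp [mem_bot.1 ha], by simp, fun d hd _ =>
      ⟨fun x hx => by rw [mem_bot.1 hx]; rfl, fun h => by
        obtain ⟨c, rfl⟩ : ∃ c : F, c • w = d := Submodule.mem_span_singleton.1
          (Submodule.span_mono (by rintro _ ⟨x, hx, t, rfl, rfl⟩; rw [mem_bot.1 hx]; rfl) hd)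
        have : c = 0 := by simpa [hR, w] using h
        rw [this, zero_smul]⟩⟩)
  have hw : ∀ g : H, g.1.1 w = w := fun g => g.2
  have h0 : ∀ (g : H) v, (g.1.1 (v, 0, 0)).2.2 = 0 := fun g v => by
    have := O_polar g.1 (v, 0, 0) w
    rw [hw] at this
    simpa [hp, w] using this
  let lin : H → V →ₗ[F] V := fun g =>
    (LinearMap.fst F V _).comp (g.1.1.toLinearMap.comp (LinearMap.inl F V (F × F)))
  have hl : ∀ g v, lin g v = (g.1.1 (v, 0, 0)).1 := fun _ _ => rfl
  have lm : ∀ g k v, lin (g * k) v = lin g (lin k v) := fun g k v => by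
    have : k.1.1 (v, 0, 0) = (lin k v, 0, 0) + (k.1.1 (v, 0, 0)).2.1 • w :=
      Prod.ext (by simp [w, hl]) (Prod.ext (by simp [w]) (by simp [w, h0]))
    rw [hl, hl g, Subgroup.coe_mul, O_mul_apply, this, map_add, map_smul, hw]
    simp [w]
  let f : H →* H27.isomGroup (polarBilin Q) := MonoidHom.mk' (fun g =>
    ⟨LinearEquiv.ofLinearMap (lin g) (lin g⁻¹)
      (LinearMap.ext fun v => by rw [LinearMap.comp_apply, ← lm, mul_inv_cancel]; rfl)
      (LinearMap.ext fun v => by rw [LinearMap.comp_apply, ← lm, inv_mul_cancel]; rfl),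
      fun u v => by simpa [hp, h0, hl] using O_polar g.1 (u, 0, 0) (v, 0, 0)⟩)
    fun g k => Subtype.ext (LinearEquiv.ext (lm g k))
  suffices hf : Function.Surjective f from
    haveI := Finite.of_surjective f hf
    (nb.of_surj f hf).all (real_sp re hQ)
  intro s
  obtain ⟨l, e⟩ := exists_sqrt (Q := Q) (σ := s.1) s.2
  let φ : V × F × F →ₗ[F] V × F × F := ((s.1 : V →ₗ[F] V).comp (LinearMap.fst F V _)).prod
    ((a + l.comp (LinearMap.fst F V _)).prod b)
  have hφ : ∀ x, φ x = (s.1 x.1, x.2.1 + l x.1, x.2.2) := fun _ => rfl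
  obtain ⟨g, -, hg⟩ := witt_total (Q := R) ⊤ (fun _ _ => mem_top _) (fun _ _ _ _ _ => mem_top _)
    (LinearMap.ker b) φ (fun x hx => by
      have hx : x.2.2 = 0 := hx
      have := e x.1
      rw [LinearEquiv.coe_coe] at this
      simp only [hφ, hR, hx]
      linear_combination this + (x.2.1 * l x.1 + Q (s.1 x.1)) * h2)
    (fun x _ hx => by simpa [ker_polarBilin_eq_bot nR] using hx)
    (fun x _ hx => by
      rw [ker_polarBilin_eq_bot nR, Submodule.mem_bot, hφ, Prod.mk_eq_zero, Prod.mk_eq_zero,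
        s.1.map_eq_zero_iff] at hx
      exact Prod.ext hx.1 (Prod.ext (by simpa [hx.1] using hx.2.1) hx.2.2))
  have gw : g.1 w = w := (hg w rfl).trans (by simp [hφ, w])
  refine ⟨⟨g, gw⟩, Subtype.ext (LinearEquiv.ext fun v => ?_)⟩
  exact congrArg Prod.fst (hg (v, 0, 0) rfl)

end geo

section final
variable (c1 : C1.{u}) (c2 : C2.{u}) (mn : MAIN.{u}) (re : RE.{u})
include mn re

theorem s4940 (F : Type u) [Field F] [Fintype F] [CharP F 2] (n : ℕ)
    (χ : IrrCharacter (Matrix.symplecticGroup (Fin n) F)) :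
    ∑ᶠ g : Matrix.symplecticGroup (Fin n) F, χ.1 (g * g) =
      (Nat.card (Matrix.symplecticGroup (Fin n) F) : ℂ) := by
  have e : polarBilin (qPlus F n) = H27.jBilin (Fin n) F := LinearMap.ext₂ fun u v => by
    rw [polarBilin_apply_apply, polar_qPlus, H27.jBilin_apply_sum]
    exact Finset.sum_congr rfl fun i _ => by rw [CharTwo.sub_eq_add, add_comm]
  have h := allFS_Sp mn re (qPlus_nondegenerate (F := F) n)
  rw [e] at h
  let i := (H27.spEquiv (Fin n) F).symm
  haveI : Finite (H27.isomGroup (H27.jBilin (Fin n) F)) := Finite.of_equiv _ i.symm.toEquiv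
  have := h.of_surj i.toMonoidHom i.surjective χ
  rwa [av, inv_mul_eq_one₀ (Nat.cast_ne_zero.2 Nat.card_pos.ne'), eq_comm] at this

variable {F : Type u} [Field F] [Fintype F] [CharP F 2] {ι : Type} [Fintype ι] [DecidableEq ι]
  {Q : QuadraticForm F (ι → F)}

theorem all_iso (hQ : (polarBilin Q).Nondegenerate) : AllFS (isometryGroup F ⇑Q) :=
  haveI : Finite (O Q) := finite_O
  (allFS_O mn re hQ).of_surj (isoEquiv Q).symm.toMonoidHom (isoEquiv Q).symm.surjective

theorem s4972 (n : ℕ) : AllFS (isometryGroup F (quadFormPlus n F)) ∧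
    ∀ a b : F, (∀ z₁ z₂ : F, z₁ ^ 2 + a * z₁ * z₂ + b * z₂ ^ 2 = 0 → z₁ = 0 ∧ z₂ = 0) →
      AllFS (isometryGroup F (quadFormMinus (n - 1) F a b)) :=
  ⟨all_iso mn re (qPlus_nondegenerate n), fun _ _ h => all_iso mn re (qMinus_nondegenerate _ h)⟩

include c1 c2

theorem all_omega (hQ : (polarBilin Q).Nondegenerate) {n : ℕ} (hn : 2 ≤ n)
    (h : Fintype.card ι = 4 * n) : AllFS (Omega F ⇑Q) :=
  haveI : Finite (O Q) := finite_O
  (allFS_Omega c1 c2 mn re hQ hn (finrank_pi'.trans h)).of_surj (omegaEquivO Q).symm.toMonoidHom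
    (omegaEquivO Q).symm.surjective

theorem s4973 (m : ℕ) (hm : 2 ≤ m) : AllFS (Omega F (quadFormPlus (2 * m) F)) ∧
    ∀ a b : F, (∀ z₁ z₂ : F, z₁ ^ 2 + a * z₁ * z₂ + b * z₂ ^ 2 = 0 → z₁ = 0 ∧ z₂ = 0) →
      AllFS (Omega F (quadFormMinus (2 * m - 1) F a b)) :=
  ⟨all_omega c1 c2 mn re (qPlus_nondegenerate _) hm (by simp; omega),
    fun _ _ h => all_omega c1 c2 mn re (qMinus_nondegenerate _ h) hm (by simp; omega)⟩

end final

end Cfsg.Agent.H98.FS
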