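import Cfsg.Agent.H46.SSz

/-!
# The automorphisms of the centraliser of a central involution of the Suzuki group
-/

set_option autoImplicit false
set_option maxRecDepth 200000
set_option linter.style.longLine false

namespace Cfsg.Agent.H98.SzHf

open Subgroup Cfsg.Agent.H44 Cfsg.Agent.H59 Cfsg.Agent.H59.Sz Cfsg.Agent.H46.S95
open Cfsg.Agent.H43 hiding allL allL_iff anyL anyL_iff
open Cfsg.Agent.H46.S95.Sz (sz CL HFS RZS)
open scoped commutatorElement

/-- The centraliser of the central involution. -/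
abbrev L : Type := ↥(Cz (β 1))

/-- The two descriptions of the centraliser. -/
noncomputable def e : L ≃* Hs :=
  (H42.centSubEquiv _ (β 1)).trans (MulEquiv.subgroupCongr (by rw [val 1]; rfl))

/-- The letters. -/
noncomputable def μ (x : ℕ) : L := e.symm (ν x)

theorem coe_μ (x : ℕ) : (μ x : Γ) = sz x := rfl

theorem okμ : D.Ok (Γ.subtype.comp (Cz (β 1)).subtype) μ :=
  ⟨ok.hn, ok.ok, ok.det, Γ.subtype_injective.comp (subtype_injective _), fun _ => rfl⟩

theorem μ1 : (μ 1 : Γ) = β 1 := Subtype.ext (nu1.trans (by rw [val 1]; rfl))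

theorem μ2 : (μ 2 : Γ) = β 3 := Subtype.ext (by
  change gp 1782 EH code 2 = _
  unfold gp letterG
  rw [if_pos (by decide +kernel), val 3]
  rfl)

theorem map_μ (S : List (List ℕ)) : (wgen ν S).map e.symm.toMonoidHom = wgen μ S := map_wgen _ ν S

/-- The extraspecial group. -/
noncomputable abbrev Q : Subgroup L := wgen μ SQ

theorem lx : H49.LX Q (μ 1) := by rw [Q, ← map_μ]; exact sh.toLX.map_equiv e.symm

theorem cardQ : Nat.card Q = 128 := by
  rw [Q, ← map_μ, card_map_of_injective e.symm.injective, card_Q]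

theorem gen {K : Subgroup L} (h : ∀ g ∈ [22, 24, 26, 28], μ g ∈ K) (l : L) : l ∈ K := by
  have : wgen μ [[22], [24], [26], [28]] = ⊤ := by
    rw [← map_μ, top, map_top_of_surjective _ e.symm.surjective]
  refine (wgen_le.2 ?_ : wgen μ _ ≤ K) (this ▸ mem_top l)
  simpa [ev_single] using h

theorem cz (l : L) : l * μ 1 = μ 1 * l := Subtype.ext (by rw [coe_mul, coe_mul, μ1]; exact mem_Cz.1 l.2)

instance : Q.Normal := ⟨fun _ hx g => lx.conj_mem (cz g) hx⟩

theorem eq (l r : List ℕ) (h : D.eqW l r = true := by decide +kernel) : ev μ l = ev μ r := okμ.eq h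

theorem ne (l r : List ℕ) (h : D.neW l r = true := by decide +kernel) : ev μ l ≠ ev μ r := okμ.ne h

/-- The elements of the extraspecial group, conjugating words and representatives. -/
def WR : List (List ℕ × List ℕ × List ℕ) := [([20, 4, 3, 2], [23, 26, 25], [2]), ([20, 3, 4, 2], [23, 25, 22], [2]), ([2, 5, 4], [23, 27, 24], [20]), ([21, 20, 4, 2], [24, 22, 26], [20]), ([20, 5, 3, 1], [23, 26], [20]), ([20, 21], [23, 29], [20]), ([20, 5, 4, 1], [27, 22, 24], [20]), ([5], [29, 27, 25], [2]), ([21, 20, 5, 4, 3], [29, 27], [2]), ([4, 2, 1], [25], [2]), ([], [], []), ([21, 20, 5, 3, 2], [23, 27], [2]), ([2, 5, 3], [23, 24, 23], [20]), ([5, 1], [22, 27, 25], [2]), ([20, 3, 1], [22, 27], [20]), ([20, 21, 5, 4, 3], [22, 27], [2]), ([20, 4], [24, 27], [20]), ([20, 3], [27, 22], [20]), ([20, 2, 5], [24, 22], [2]), ([5, 3, 4], [25, 26, 23], [20]), ([20, 5, 3, 4, 2], [25, 22, 26], [20]), ([5, 4, 2], [24, 29, 26], [20]),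 ([20, 21, 5, 3, 2], [28, 27], [2]), ([20, 2, 1], [23, 25, 27, 22], [20]), ([20, 5, 4], [22, 27, 24], [20]), ([21, 4, 3, 2], [29], [2]), ([21, 2], [25, 27, 24], [20]), ([20, 5, 3], [22, 24], [20]), ([21, 2, 1], [24, 23], [20]), ([21, 3, 4, 2], [22], [2]), ([21, 2, 5], [22, 25, 22], [2]), ([21, 5, 3, 4, 2], [26, 24, 23], [20]), ([21, 20, 3, 2], [24, 28], [20]), ([20, 21, 3, 2], [28, 24], [20]), ([1], [], [1]), ([21, 5, 4, 1], [25, 29], [20]), ([21, 5, 4], [25, 22], [20]), ([21, 4, 1], [23, 24, 22], [20]), ([20, 5, 4, 3, 2], [25, 26, 22], [20]), ([4, 2], [24, 26], [2]), ([20, 4, 1], [24, 22], [20]), ([3, 2, 1], [23, 25, 27, 25], [2]), ([21, 20], [26], [20]), ([21, 20, 4, 3], [23, 25, 26], [2]), ([21, 20, 5, 4, 2], [24, 28], [2]), ([20, 21, 5, 4, 2], [23, 24], [2]), ([5, 3, 2], [26, 24, 22], [20]), ([21, 5, 3, 1], [29], [20]), ([21, 20, 5], [29, 27], [20]), ([3, 2], [23, 25, 23, 27], [2]), ([21, 3, 1], [22, 25], [20]),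 ([4, 3], [24, 29], [20]), ([20, 21, 4, 3], [22, 24, 23], [2]), ([21, 5, 3], [22, 26], [20]), ([20, 2], [25, 26], [20]), ([3, 4], [22, 26, 24], [20]), ([5, 4, 3], [23, 25, 27], [20]), ([20, 21, 4, 2], [24], [20]), ([21, 5, 4, 3, 2], [23, 24], [20]), ([21, 3], [28, 22], [20]), ([20, 21, 5], [22], [20]), ([21, 5, 2], [22, 25, 27], [2]), ([20, 5, 2], [22, 26], [2]), ([21, 4], [26, 24], [20]), ([20, 5, 1], [26, 29], [20]), ([21, 3, 2], [23, 24, 27, 25], [20]), ([2, 5], [25, 23], [20]), ([21, 4, 2], [25], [20]), ([20, 3, 2], [23, 28, 25], [20]), ([20, 5], [23, 28], [20]), ([4, 1], [24], [2]), ([20, 5, 3, 4], [29, 25], [2]), ([2], [], [2]), ([21, 20, 4, 3, 2], [29, 25, 23], [2]), ([21, 2, 5, 4], [23, 25, 27], [2]), ([21, 1], [27], [20]), ([20, 3, 2, 1], [23, 25, 28], [20]), ([21, 3, 2, 1], [23, 27, 25, 26], [20]), ([21, 4, 2, 1], [25, 23, 29], [20]), ([21, 5, 1], [26, 28], [20]), ([20, 1], [23, 29, 27], [20]), ([5, 4],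 [23, 25, 23], [2]), ([20, 21, 3], [23, 27], [20]), ([5, 3, 4, 2], [22, 26, 24], [2]), ([21, 20, 4], [25, 27], [20]), ([5, 3], [26, 23, 24], [2]), ([20, 4, 3], [22, 26, 25], [2]), ([20, 2, 5, 3], [23, 25], [2]), ([5, 4, 1], [23, 27, 25], [2]), ([5, 3, 1], [23, 26, 24], [2]), ([21, 3, 4], [28], [2]), ([5, 2], [25, 28], [20]), ([5, 4, 3, 2], [22, 24, 22], [2]), ([20, 21, 5, 4, 3, 2], [27, 23, 25], [20]), ([20, 4, 2], [25, 27, 25], [20]), ([3, 1], [23, 26, 24, 26], [2]), ([20, 2, 5, 4], [23, 26], [2]), ([21, 4, 3], [23], [2]), ([20, 21, 5, 3], [22, 25, 23], [20]), ([20, 21, 2], [26, 24, 27], [20]), ([4, 3, 2], [25, 28, 27], [20]), ([20, 5, 4, 2], [26, 23], [2]), ([20, 3, 4], [23, 24, 22], [2]), ([21], [23, 27, 22], [20]), ([20, 5, 4, 3], [22, 25], [2]), ([21, 20, 5, 3], [28], [20]), ([21, 20, 2], [27, 25], [20]), ([21, 2, 5, 3], [23, 24, 23], [2]), ([3, 4, 2], [23, 25], [20]), ([20, 21, 4], [24, 23, 25], [20]), ([21,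 5], [23], [20]), ([2, 1], [23, 29], [2]), ([20, 21, 4, 3, 2], [23, 27, 24], [2]), ([20, 5, 3, 2], [28, 25], [2]), ([3], [23, 24, 23, 24], [2]), ([21, 20, 3], [27, 23], [20]), ([21, 5, 4, 3], [24, 29, 26], [2]), ([21, 20, 5, 2], [24, 29], [2]), ([4], [26], [2]), ([21, 5, 3, 4], [22, 24, 26], [2]), ([21, 5, 3, 2], [24, 28, 23], [2]), ([20], [], [20]), ([20, 4, 2, 1], [25, 27, 28], [20]), ([21, 20, 5, 4, 3, 2], [23, 27, 25], [20]), ([20, 21, 5, 2], [22, 24], [2]), ([21, 5, 4, 2], [28, 25, 27], [2]), ([21, 20, 5, 4], [23, 28, 25, 26], [20]), ([20, 21, 5, 4], [23, 24, 27], [20])]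

theorem cov : ∀ ξ ∈ Q, ∃ w ∈ WR.map Prod.fst, ξ = ev μ w :=
  okμ.cover (by decide +kernel) (by decide +kernel) (cardQ.le.trans (by decide +kernel))

theorem eqR : Eqs μ (WR.map fun p => (p.2.1 ++ p.1, p.2.2 ++ p.2.1)) := okμ.eqs (by decide +kernel)

theorem rep (ξ : L) (h : ξ ∈ Q) : ξ = 1 ∨ ξ = μ 1 ∨ IsConj ξ (μ 2) ∨ IsConj ξ (μ 20) := by
  obtain ⟨_, hw, rfl⟩ := cov ξ h
  obtain ⟨p, hp, rfl⟩ := List.mem_map.1 hw
  have h1 := eqR _ (List.mem_map_of_mem hp)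
  rw [ev_append, ev_append] at h1
  have h2 := isConj_iff.2 ⟨_, mul_inv_eq_of_eq_mul h1⟩
  have k : ∀ p ∈ WR, p.1 = [] ∨ p.1 = [1] ∨ p.2.2 = [2] ∨ p.2.2 = [20] := by decide +kernel
  rcases k p hp with h3 | h3 | h3 | h3
  · exact Or.inl (by rw [h3, ev_nil])
  · exact Or.inr (Or.inl (by rw [h3, ev_single]))
  · exact Or.inr (Or.inr (Or.inl (by rwa [h3, ev_single] at h2)))
  · exact Or.inr (Or.inr (Or.inr (by rwa [h3, ev_single] at h2)))

theorem mem_of_isConj {M : Subgroup L} [h : M.Normal] {a b : L} (k : IsConj a b) (ha : a ∈ M) : b ∈ M := by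
  obtain ⟨c, rfl⟩ := isConj_iff.1 k
  exact h.conj_mem a ha c

theorem cj {M : Subgroup L} [M.Normal] (g s t : List ℕ)
    (h : D.eqW (g ++ s) (t ++ g) = true := by decide +kernel) : ev μ s ∈ M ↔ ev μ t ∈ M := by
  have h1 := okμ.eq h
  rw [ev_append, ev_append] at h1
  have h2 := isConj_iff.2 ⟨_, mul_inv_eq_of_eq_mul h1⟩
  exact ⟨mem_of_isConj h2, mem_of_isConj h2.symm⟩

theorem mulW {M : Subgroup L} {s t : List ℕ} (u : List ℕ) (hs : ev μ s ∈ M) (ht : ev μ t ∈ M)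
    (h : D.eqW u (s ++ t) = true := by decide +kernel) : ev μ u ∈ M := by
  rw [okμ.eq h, ev_append]; exact mul_mem hs ht

theorem q_le {M : Subgroup L} [M.Normal] (h : ev μ [2] ∈ M) : Q ≤ M := by
  have h5 := (cj [29, 27, 25] [5] [2]).2 h
  have h1 := mulW [1] h ((cj [23, 29] [2, 1] [2]).2 h)
  have h6 := mulW [5, 2] h5 h
  refine wgen_le.2 ?_
  simp only [SQ, List.forall_mem_cons]
  exact ⟨h1, h, (cj [23, 24, 23, 24] [3] [2]).2 h, (cj [26] [4] [2]).2 h, h5,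
    mulW [20] ((cj [24, 22] [20, 2, 5] [2]).2 h) h6,
    mulW [21] ((cj [22, 25, 22] [21, 2, 5] [2]).2 h) h6, by simp⟩

/-- The normal subgroups. -/
theorem nrm (M : Subgroup L) [hM : M.Normal] : M ≤ zpowers (μ 1) ∨ Q ≤ M := by
  by_cases h : ∃ ξ ∈ M, ξ ∈ Q ∧ ξ ∉ zpowers (μ 1)
  · obtain ⟨ξ, h1, h2, h3⟩ := h
    refine Or.inr (q_le ?_)
    rcases rep ξ h2 with rfl | rfl | k | k
    · exact absurd (one_mem _) h3
    · exact absurd (mem_zpowers _) h3
    · exact ev_single μ 2 ▸ mem_of_isConj k h1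
    · have h4 : ev μ [20] ∈ M := ev_single μ 20 ▸ mem_of_isConj k h1
      exact (cj [29, 27, 25] [5] [2]).1 (mulW [5] ((cj [27] [21, 1] [20]).2 h4) ((cj [23] [21, 5] [20]).2 h4))
  · push Not at h
    refine Or.inl fun c hc => h c hc (lx.mem_of_commutator fun u hu => h _ ?_ ?_)
    · simpa only [mul_assoc] using mul_mem hc (hM.conj_mem _ (inv_mem hc) u)
    · exact mul_mem (lx.conj_mem (cz c) hu) (inv_mem hu)

theorem aut_z (θ : MulAut L) : θ (μ 1) = μ 1 := by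
  have h : θ (μ 1) ∈ centralizer (Q : Set L) := fun q _ => by
    rw [← θ.apply_symm_apply q, ← map_mul, ← map_mul, cz]
  rw [lx.centralizer_eq, lx.mem_Z] at h
  exact h.resolve_left fun k => lx.ne (by simpa using k)

theorem aut_Q (θ : MulAut L) {ξ : L} (h : ξ ∈ Q) : θ ξ ∈ Q := by
  have : (Q.comap θ.toMonoidHom).Normal := inferInstance
  refine ((nrm (Q.comap θ.toMonoidHom)).resolve_left fun k => ?_) h
  have h1 := card_le_of_le k
  rw [lx.card_Z, comap_equiv_eq_map_symm' θ, card_map_of_injective θ.symm.injective, cardQ] at h1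
  omega

theorem aut_y (θ : MulAut L) : IsConj (μ 2) (θ (μ 2)) := by
  rcases rep _ (aut_Q θ (ev_single μ 2 ▸ mem_wgen μ [2] (by decide))) with k | k | k | k
  · exact absurd (by simpa [ev] using k) (ne [2] [])
  · exact absurd (by simpa [ev] using θ.injective (k.trans (aut_z θ).symm)) (ne [2] [1])
  · exact k.symm
  · obtain ⟨c, hc⟩ := isConj_iff.1 k
    refine absurd ?_ (ne [20, 20] [])
    have h1 : μ 2 * μ 2 = 1 := by simpa [ev] using eq [2, 2] []
    simp only [ev_cons, ev_nil, mul_one, ← hc, conj_mul, ← map_mul, h1, map_one, mul_inv_cancel]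

/-- Adjusting an automorphism by an inner one. -/
theorem adj (θ : MulAut L) (S w : List ℕ) (hyps : List (List ℕ × List ℕ)) (A : List (List ℕ))
    (hS : ∀ x ∈ S, θ (μ x) = μ x) (hw : w.all (fun x => SQ.contains [x]) = true)
    (h1 : hyps.all (fun p => (p.1 ++ p.2).all fun x => x == 0 || S.contains x) = true)
    (h2 : D.eqsB (hyps.map fun p => (sub w p.1, sub w p.2)) = true)
    (h3 : D.allB (WR.map Prod.fst) hyps (A.map fun a => [(0 :: a, a ++ w)]) = true)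
    (h4 : A.all (fun a => !(a ++ w).contains 0) = true)
    (h5 : D.eqsB (A.flatMap fun a => S.map fun x => (x :: a, a ++ [x])) = true) :
    ∃ c : L, (∀ x ∈ S, (MulAut.conj c * θ : MulAut L) (μ x) = μ x) ∧
      (MulAut.conj c * θ : MulAut L) (ev μ w) = ev μ w := by
  have k1 : ∀ l : List ℕ, l.all (fun x => x == 0 || S.contains x) = true →
      ev (ux μ (θ (ev μ w))) l = θ (ev μ (sub w l)) := fun l hl => by
    rw [ev_sub]
    refine Eq.trans (ev_congr fun x hx => ?_) (map_ev θ.toMonoidHom _ l).symm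
    have := List.all_eq_true.1 hl x hx
    unfold ux
    split_ifs with h
    · rfl
    · exact (hS x (by simpa [h] using this)).symm
  have k2 : ∀ (ξ : L) (l : List ℕ), 0 ∉ l → ev (ux μ ξ) l = ev μ l := fun ξ l hl =>
    ev_congr fun x hx => if_neg fun h : x = 0 => hl (h ▸ hx)
  obtain ⟨_, hc, k⟩ := okμ.allE cov h3 _ (aut_Q θ (ev_mem_wgen μ hw)) fun p hp => by
    have := List.all_eq_true.1 h1 p hp
    rw [List.all_append, Bool.and_eq_true] at this
    rw [k1 _ this.1, k1 _ this.2, okμ.eqs h2 _ (List.mem_map_of_mem hp)]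
  obtain ⟨a, ha, rfl⟩ := List.mem_map.1 hc
  have k3 : 0 ∉ a ++ w := by simpa using List.all_eq_true.1 h4 a ha
  have k4 := k _ (List.mem_singleton_self _)
  rw [k2 _ _ k3, ev_cons, k2 _ _ fun h => k3 (List.mem_append_left _ h), ev_append] at k4
  refine ⟨(ev μ a)⁻¹, fun x hx => ?_, ?_⟩
  · have := okμ.eqs h5 (x :: a, a ++ [x]) (List.mem_flatMap.2 ⟨a, ha, List.mem_map_of_mem hx⟩)
    rw [ev_cons, ev_append, ev_single] at this
    rw [MulAut.mul_apply, hS x hx, MulAut.conj_apply, inv_inv, mul_assoc, this, inv_mul_cancel_left]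
  · rw [MulAut.mul_apply, MulAut.conj_apply, inv_inv, mul_assoc]
    exact (congrArg _ k4).trans (inv_mul_cancel_left _ _)

theorem cube (g : ℕ) (hg : g ∈ [22, 24, 26, 28]) : μ g ^ 3 = 1 := by
  have k : ∀ g ∈ [22, 24, 26, 28], D.eqW [g, g, g] [] = true := by decide +kernel
  simpa [ev, pow_succ, mul_assoc] using okμ.eq (k g hg)

theorem eq_one (θ : MulAut L) (h : ∀ q ∈ Q, θ q = q) : θ = 1 := by
  refine MulEquiv.ext (gen (K := θ.toMonoidHom.eqLocus (MonoidHom.id L)) fun g hg => ?_)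
  refine eq_of_pow_odd (n := 3) (by decide) lx.zz (cz _) (by rw [← map_pow, cube g hg, map_one])
    (cube g hg) (lx.mem_Z.1 (lx.centralizer_eq ▸ fun q hq => ?_))
  have h1 := h _ (lx.conj_mem (cz (μ g)) hq)
  rw [map_mul, map_mul, map_inv, h q hq] at h1
  change q * ((μ g)⁻¹ * θ (μ g)) = (μ g)⁻¹ * θ (μ g) * q
  calc _ = (μ g)⁻¹ * (μ g * q * (μ g)⁻¹) * θ (μ g) := by group
    _ = _ := by rw [← h1]; group

theorem inn_of {θ : MulAut L} {c d : L} (h : MulAut.conj c * θ = MulAut.conj d) :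
    ∃ a, θ = MulAut.conj a := ⟨c⁻¹ * d, by rw [map_mul, map_inv, ← h, inv_mul_cancel_left]⟩

theorem step3 (θ : MulAut L) (h : ∀ x ∈ [1, 2, 16, 5], θ (μ x) = μ x)
    (k : θ (ev μ [3, 1]) = ev μ [3, 1]) : θ = 1 := by
  have h3 : θ (μ 3) = μ 3 := by simpa [ev, h 1] using k
  have h17 : θ (μ 17) = μ 17 := by
    have : μ 17 = (μ 16)⁻¹ := eq_inv_of_mul_eq_one_right (by simpa [ev] using eq [16, 17] [])
    rw [this, map_inv, h 16 (by simp)]
  have m : ∀ l : List ℕ, l.all (fun x => [1, 2, 16, 5, 3, 17].contains x) = true →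
      ev μ l ∈ θ.toMonoidHom.eqLocus (MonoidHom.id L) := fun l hl => ev_mem fun x hx => by
    have := List.all_eq_true.1 hl x hx
    simp only [List.contains_eq_mem, List.mem_cons, List.not_mem_nil, or_false, decide_eq_true_eq] at this
    rcases this with rfl | rfl | rfl | rfl | rfl | rfl
    exacts [h 1 (by simp), h 2 (by simp), h 16 (by simp), h 5 (by simp), h3, h17]
  refine eq_one θ fun q hq => (wgen_le.2 ?_ : Q ≤ θ.toMonoidHom.eqLocus (MonoidHom.id L)) hq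
  simp only [SQ, List.forall_mem_cons]
  exact ⟨m _ rfl, m _ rfl, m _ rfl, eq [4] [17, 17, 3, 16, 16] ▸ m _ rfl, m _ rfl,
    eq [20] [16, 16, 3, 16, 16, 3, 16] ▸ m _ rfl, eq [21] [17, 3, 16, 16, 3, 17] ▸ m _ rfl, by simp⟩

theorem step2 (θ : MulAut L) (h : ∀ x ∈ [1, 2, 16, 5], θ (μ x) = μ x) : ∃ a, θ = MulAut.conj a := by
  obtain ⟨c, h1, h2⟩ := adj θ _ [3, 1] [([0, 2], [2, 0]), ([0, 5], [5, 0]), ([0, 0], []),
    ([0, 16, 0, 16, 16, 16, 16], [1, 16, 0, 16, 16, 16, 16, 0]), ([0, 16, 0, 16, 0, 16, 0, 16, 0, 16], [])]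
    [[], [16], [16, 16], [17, 17], [17]] h (by decide) (by decide) (by decide +kernel)
    (by decide +kernel) (by decide) (by decide +kernel)
  exact inn_of ((step3 _ h1 h2).trans (map_one _).symm)

theorem step1 (θ : MulAut L) (h2 : θ (μ 2) = μ 2) (h16 : θ (μ 16) = μ 16) : ∃ a, θ = MulAut.conj a := by
  obtain ⟨c, k1, k2⟩ := adj θ [1, 2, 16] [5] [([0, 16], [16, 0]), ([0, 0], []), ([0, 2], [2, 0, 1])]
    [[], [2]] (by simp [aut_z, h2, h16]) (by decide) (by decide) (by decide +kernel)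
    (by decide +kernel) (by decide) (by decide +kernel)
  obtain ⟨a, ha⟩ := step2 (MulAut.conj c * θ) fun x hx => by
    rcases List.mem_append.1 (show x ∈ [1, 2, 16] ++ [5] from hx) with hx | hx
    · exact k1 x hx
    · rw [List.mem_singleton.1 hx, ← ev_single μ 5, k2]
  exact inn_of ha

theorem inn (θ : MulAut L) (h : θ (μ 2) = μ 2) (k : CI (μ 2) (μ 16) (θ (μ 16))) :
    ∃ a, θ = MulAut.conj a := by
  obtain ⟨p, h1, h2⟩ := k
  obtain ⟨a, ha⟩ := step1 (MulAut.conj p⁻¹ * θ)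
    (by rw [MulAut.mul_apply, h, MulAut.conj_apply, inv_inv, mul_assoc, ← h1, inv_mul_cancel_left])
    (by rw [MulAut.mul_apply, ← h2, MulAut.conj_apply]; group)
  exact inn_of ha

theorem invs (g : ℕ) (hg : g ∈ [22, 24, 26, 28]) :
    ∃ a b c : L, a * a = 1 ∧ b * b = 1 ∧ c * c = 1 ∧ μ g = a * b * c := by
  have k : ∀ g ∈ [22, 24, 26, 28], ∃ p ∈ [([19], [24, 32, 31, 32, 25]), ([18], [28, 6, 18, 7, 29]),
      ([19], [17, 32, 18, 32, 16]), ([18], [11, 28, 18, 29, 11])], D.eqW (p.1 ++ p.1) [] = true ∧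
      D.eqW (p.2 ++ p.2) [] = true ∧ D.eqW ((p.2 ++ p.1 ++ [g]) ++ (p.2 ++ p.1 ++ [g])) [] = true := by
    decide +kernel
  obtain ⟨p, -, h1, h2, h3⟩ := k g hg
  have e1 := okμ.eq h1
  have e2 := okμ.eq h2
  have e3 := okμ.eq h3
  rw [ev_append, ev_nil] at e1 e2 e3
  refine ⟨_, _, _, e1, e2, e3, ?_⟩
  rw [ev_append, ev_append, ev_single, mul_assoc, ← mul_assoc (ev μ p.2), ← mul_assoc (ev μ p.2), e2,
    one_mul, ← mul_assoc, e1, one_mul]

theorem perf : ⁅Cz (β 1), Cz (β 1)⁆ = Cz (β 1) := by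
  have h : commutator L = ⊤ := eq_top_iff.2 fun l _ => gen (fun g hg => by
    obtain ⟨a, b, c, h1, h2, h3, h4⟩ := invs g hg
    have k1 : Abelianization.of (μ g) ^ 2 = 1 := by
      have k : ∀ a : L, a * a = 1 → Abelianization.of a ^ 2 = 1 := fun a ha => by
        rw [← map_pow, pow_two, ha, map_one]
      rw [h4, map_mul, map_mul, mul_pow, mul_pow, k a h1, k b h2, k c h3, mul_one, mul_one]
    have k2 : Abelianization.of (μ g) ^ 3 = 1 := by rw [← map_pow, cube g hg, map_one]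
    rw [pow_succ, k1, one_mul] at k2
    exact (QuotientGroup.eq_one_iff _).1 k2) l
  have := congrArg (map (Cz (β 1)).subtype) h
  rwa [_root_.commutator_def, map_commutator, ← MonoidHom.range_eq_map, range_subtype] at this

theorem geni : Cz (β 1) ≤ closure {l | l ∈ Cz (β 1) ∧ l * l = 1} := fun l hl =>
  gen (K := (closure {l | l ∈ Cz (β 1) ∧ l * l = 1}).comap (Cz (β 1)).subtype) (fun g hg => by
    obtain ⟨a, b, c, h1, h2, h3, h4⟩ := invs g hg
    have k : ∀ a : L, a * a = 1 →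
        a ∈ (closure {l | l ∈ Cz (β 1) ∧ l * l = 1}).comap (Cz (β 1)).subtype := fun a ha =>
      subset_closure ⟨a.2, congrArg Subtype.val ha⟩
    exact h4 ▸ mul_mem (mul_mem (k a h1) (k b h2)) (k c h3)) ⟨l, hl⟩

theorem ci_symm {G : Type} [Group G] {y u v : G} (h : CI y u v) : CI y v u := by
  obtain ⟨p, h1, rfl⟩ := h
  exact ⟨p⁻¹, (Commute.inv_left h1).eq, by group⟩

theorem ci_trans {G : Type} [Group G] {y u v w : G} (h : CI y u v) (k : CI y v w) : CI y u w := by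
  obtain ⟨p, h1, rfl⟩ := h
  obtain ⟨q, h2, rfl⟩ := k
  exact ⟨q * p, (Commute.mul_left h2 h1).eq, by group⟩

theorem xy : μ 16 * μ 2 = μ 2 * μ 16 := by simpa [ev] using eq [16, 2] [2, 16]

theorem five {u : L} (h : u * μ 2 = μ 2 * u) (ho : orderOf u = orderOf (μ 16)) :
    CI (μ 2) (μ 16) u ∨ CI (μ 2) (μ 16 ^ 2) u := by
  have : Fact (Nat.Prime 5) := ⟨by norm_num⟩
  have x5 : μ 16 ^ 5 = 1 := by simpa [ev, pow_succ, mul_assoc] using eq [16, 16, 16, 16, 16] []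
  have o5 : orderOf (μ 16) = 5 := orderOf_eq_prime x5 (by simpa [ev] using ne [16] [])
  obtain ⟨g, hg⟩ := exists_conj_mem_zpowers (G := centralizer {μ 2}) (p := 5) (fun k => by
      have := k.trans (card_subgroup_dvd_card _)
      rw [cent_a] at this
      omega)
    (x := ⟨μ 16, mem_centralizer_singleton_iff.2 xy⟩) (y := ⟨u, mem_centralizer_singleton_iff.2 h⟩)
    ((orderOf_coe _).symm.trans o5) ((orderOf_coe _).symm.trans (ho.trans o5))
  obtain ⟨n, hn⟩ := mem_powers_iff_mem_zpowers.2 hg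
  have h1 : μ 16 ^ (n % 5) = g * u * (g : L)⁻¹ := by
    rw [← pow_eq_pow_mod _ x5]; exact congrArg Subtype.val hn
  have h2 : CI (μ 2) (μ 16 ^ (n % 5)) u := ci_symm ⟨g, mem_centralizer_singleton_iff.1 g.2, h1.symm⟩
  have h3 : μ 19 * μ 2 = μ 2 * μ 19 := by simpa [ev] using eq [19, 2] [2, 19]
  have h4 : μ 19 * μ 16 * (μ 19)⁻¹ = μ 16 ^ 4 := mul_inv_eq_of_eq_mul (by
    simpa [ev, pow_succ, mul_assoc] using eq [19, 16] [16, 16, 16, 16, 19])
  have h5 : n % 5 = 0 ∨ n % 5 = 1 ∨ n % 5 = 2 ∨ n % 5 = 3 ∨ n % 5 = 4 := by omega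
  rcases h5 with k | k | k | k | k <;> rw [k] at h1 h2
  · have : u = 1 := by simpa using h1.symm
    rw [this, o5] at ho
    simp at ho
  · exact Or.inl (by rwa [pow_one] at h2)
  · exact Or.inr h2
  · refine Or.inr (ci_trans ⟨μ 19, h3, ?_⟩ h2)
    rw [← conj_pow, h4, ← pow_mul, pow_eq_pow_mod _ x5]
  · exact Or.inl (ci_trans ⟨μ 19, h3, h4⟩ h2)

theorem s3_conj {G : Type} [Group G] {z w c : G} (h : S3 z w) (hc : c * z * c⁻¹ = z) :
    S3 z (c * w * c⁻¹) := by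
  obtain ⟨h1, h2, h3, h4, ⟨σ, h5, h6⟩, q, h7, h8⟩ := h
  let φ := MulAut.conj c
  have e1 : φ z = z := hc
  change S3 z (φ w)
  refine ⟨by rw [← map_mul, h1, map_one], by simpa using h2, fun k => h3 (φ.injective (k.trans e1.symm)),
    ?_, ⟨φ σ, ?_, ?_⟩, φ q, ?_, ?_⟩
  · simpa only [map_mul, e1] using congrArg φ h4
  · simpa only [map_mul, map_inv, e1] using congrArg φ h5
  · simpa only [map_mul, map_inv, e1] using congrArg φ h6
  · simpa only [map_mul, map_inv, e1] using congrArg φ h7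
  · simpa only [map_mul, map_inv, e1] using congrArg φ h8

/-- An element centralising the third and moving the first generator. -/
def sg : List ℕ := [2, 3, 1, 2, 1, 2, 4, 3, 4, 2, 1, 2, 1, 3, 2]

theorem cjX (g s t : List ℕ) (h : DX.eqW (g ++ s) (t ++ g) = true := by decide +kernel) :
    ev β g * ev β s * (ev β g)⁻¹ = ev β t :=
  mul_inv_eq_of_eq_mul (by rw [← ev_append, ← ev_append, okX.eq h])

theorem s3 : S3 (β 1) (β 3) := by
  refine ⟨?_, ?_, ?_, ?_, ⟨ev β sg, ?_, ?_⟩, ev β [4, 3, 4], ?_, ?_⟩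
  · simpa [ev] using okX.eq (l := [3, 3]) (r := []) (by decide +kernel)
  · simpa [ev] using neX [3] []
  · simpa [ev] using neX [3] [1]
  · simpa [ev] using okX.eq (l := [3, 1]) (r := [1, 3]) (by decide +kernel)
  · simpa only [ev_cons, ev_nil, mul_one] using cjX sg [1] [1, 3]
  · simpa only [ev_cons, ev_nil, mul_one] using cjX sg [3] [3]
  · simpa only [ev_single] using cjX [4, 3, 4] [1] [1]
  · simpa only [ev_single, ev_cons β 3 [1]] using cjX [4, 3, 4] [3] [3, 1]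

theorem sup_top : Cz (β 1) ⊔ Cz (β 3) = ⊤ := by
  have c : ∀ (j : ℕ) (w : List ℕ), DX.eqW (w ++ [j]) ([j] ++ w) = true → ev β w ∈ Cz (β j) :=
    fun j w h => mem_Cz.2 (by simpa only [ev_append, ev_single] using okX.eq h)
  have c1 : ∀ w, DX.eqW (w ++ [1]) ([1] ++ w) = true → ev β w ∈ Cz (β 1) ⊔ Cz (β 3) :=
    fun w h => mem_sup_left (c 1 w h)
  have h1 : ev β (sg ++ [4]) ∈ Cz (β 1) ⊔ Cz (β 3) :=
    ev_append β _ _ ▸ mul_mem (mem_sup_right (c 3 sg (by decide +kernel))) (c1 _ (by decide +kernel))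
  have h2 : ev β (sg ++ [3]) ∈ Cz (β 1) ⊔ Cz (β 3) :=
    ev_append β _ _ ▸ mul_mem (mem_sup_right (c 3 sg (by decide +kernel))) (c1 _ (by decide +kernel))
  have h3 := c1 ((sg ++ [4]) ++ ((sg ++ [4]) ++ ((sg ++ [4]) ++ ((sg ++ [3]) ++ [2]))))
    (by decide +kernel)
  rw [ev_append, mul_mem_cancel_left h1, ev_append, mul_mem_cancel_left h1, ev_append,
    mul_mem_cancel_left h1, ev_append, mul_mem_cancel_left h2] at h3
  refine eq_top_iff.2 fun ξ _ => (wgen_le.2 ?_ : wgen β [[1], [2], [3], [4], [5], [6], [7]] ≤ _)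
    (okX.mem_wgen (grp_le_wgen' [1, 2, 3, 4, 5, 6, 7] rfl (by decide +kernel) ξ.2))
  simp only [List.forall_mem_cons]
  exact ⟨c1 _ (by decide +kernel), h3, c1 _ (by decide +kernel), c1 _ (by decide +kernel),
    c1 _ (by decide +kernel), c1 _ (by decide +kernel), c1 _ (by decide +kernel), by simp⟩

theorem aut_C {α : MulAut Γ} (h : α (β 1) = β 1) {x : Γ} (hx : x ∈ Cz (β 1)) : α x ∈ Cz (β 1) :=
  mem_Cz.2 (by rw [← h, ← map_mul, ← map_mul, mem_Cz.1 hx])

theorem res {α : MulAut Γ} (h : α (β 1) = β 1) : ∃ θ : MulAut L, ∀ l, (θ l : Γ) = α l :=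
  have h' : α⁻¹ (β 1) = β 1 := by rw [MulAut.inv_def, MulEquiv.symm_apply_eq, h]
  ⟨⟨⟨fun l => ⟨α l, aut_C h l.2⟩, fun l => ⟨α⁻¹ l, aut_C h' l.2⟩,
    fun l => Subtype.ext (α.symm_apply_apply l), fun l => Subtype.ext (α.apply_symm_apply l)⟩,
    fun a b => Subtype.ext (map_mul α a.1 b.1)⟩, fun _ => rfl⟩

theorem hfs (h : CL) : HFS := by
  refine ⟨μ 2, μ 16, rfl, rfl, μ1 ▸ congrArg Subtype.val lx.zz,
    fun k => lx.ne (Subtype.ext (μ1.trans k)), fun a h1 h2 h3 => ?_, perf, geni, xy, fun θ => ?_,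
    fun u v h1 h2 h3 h4 => ?_, inn, h, fun α hα => ?_⟩
  · refine (cls2 a (H49.orderOf_two_iff.2 ⟨h2, h1⟩)).resolve_right fun k => ?_
    obtain ⟨c, rfl⟩ := isConj_iff.1 k
    rw [Cz, Cz, ← H49.cj_centralizer_singleton, H49.card_cj, cent_a, cent_e] at h3
    omega
  · obtain ⟨c, hc⟩ := isConj_iff.1 (aut_y θ)
    rw [← hc, coe_mul, coe_mul, coe_inv, μ2]
    exact s3_conj s3 (mul_inv_eq_of_eq_mul (mem_Cz.1 c.2))
  · rcases five h1 h3 with k | k
    · exact Or.inl k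
    · exact Or.inr ((five h2 h4).imp_right fun k' => ci_trans (ci_symm k) k')
  · have k : ∀ l : L, l * μ 2 = μ 2 * l → α l = l := fun l hl => hα l l.2 (congrArg Subtype.val hl)
    obtain ⟨θ, hθ⟩ := res (α := α) (μ1 ▸ k (μ 1) (cz _).symm)
    obtain ⟨a, ha⟩ := step1 θ (Subtype.ext ((hθ _).trans (k _ rfl))) (Subtype.ext ((hθ _).trans (k _ xy)))
    obtain ⟨c, -, hc⟩ := h (MulAut.conj (a : Γ)⁻¹ * α) fun l hl => by
      rw [MulAut.mul_apply, ← hθ ⟨l, hl⟩, ha]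
      simp [mul_assoc]
    exact ⟨a * c, by rw [map_mul, ← hc, map_inv, mul_inv_cancel_left]⟩

theorem rzs (h : CL) : RZS := by
  refine ⟨perf, geni, mem_zpowers _, zpowers_le.2 fun x hx => mem_Cz.1 hx, fun α hα x hx => aut_C hα hx,
    fun α _ hα => h α hα, fun M h1 h2 => ?_⟩
  have : (M.subgroupOf (Cz (β 1))).Normal := (normal_subgroupOf_iff_le_normalizer h1).2 h2
  refine (nrm (M.subgroupOf (Cz (β 1)))).imp (fun k x hx => ?_) fun k => ⟨β 3, ?_, s3.1, s3.2.1, Or.inl sup_top⟩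
  · rcases lx.mem_Z.1 (k (x := ⟨x, h1 hx⟩) hx) with e | e
    · rw [show x = 1 from congrArg Subtype.val e]; exact one_mem _
    · rw [show x = β 1 from (congrArg Subtype.val e).trans μ1]; exact mem_zpowers _
  · exact μ2 ▸ k (ev_single μ 2 ▸ mem_wgen μ [2] (by decide))

end Cfsg.Agent.H98.SzHf
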