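import Cfsg.Agent.H98.AltSimple

/-!
Abelian subgroups of largest order of symmetric and alternating groups.
-/

set_option autoImplicit false

namespace Cfsg.Agent.H98.AbS

open Equiv Equiv.Perm Finset

theorem cube_le (m : ℕ) : m ^ 3 ≤ 3 ^ m ∧ (m ≠ 2 → m ≠ 3 → m ≠ 4 → 243 * m ^ 3 ≤ 125 * 3 ^ m) := by
  by_cases h : m < 5
  · interval_cases m <;> simp
  obtain ⟨j, rfl⟩ := Nat.exists_eq_add_of_le (not_lt.1 h)
  have : 243 * (5 + j) ^ 3 ≤ 125 * 3 ^ (5 + j) := by
    clear h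
    induction j with
    | zero => norm_num
    | succ j ih =>
      calc 243 * (5 + (j + 1)) ^ 3 ≤ 3 * (243 * (5 + j) ^ 3) := by ring_nf; omega
        _ ≤ _ := by rw [← add_assoc, pow_succ 3]; omega
  omega

theorem num {ι : Type} [Fintype ι] (m : ι → ℕ) : 243 * (∏ i, m i) ^ 3 ≤ 125 * 3 ^ ∑ i, m i ∨
    (∀ i, m i = 2 ∨ m i = 3 ∨ m i = 4) ∧
    ∏ i, m i = 2 ^ (#{i | m i = 2} + 2 * #{i | m i = 4}) * 3 ^ #{i | m i = 3} ∧
    ∑ i, m i = 2 * (#{i | m i = 2} + 2 * #{i | m i = 4}) + 3 * #{i | m i = 3} := by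
  classical
  by_cases h : ∀ i, m i = 2 ∨ m i = 3 ∨ m i = 4
  · refine Or.inr ⟨h, ?_, ?_⟩
    · simp only [card_filter, mul_sum, ← sum_add_distrib, ← prod_pow_eq_pow_sum, ← prod_mul_distrib]
      exact prod_congr rfl fun i _ => by rcases h i with h | h | h <;> simp [h]
    · simp only [card_filter, mul_sum, ← sum_add_distrib]
      exact sum_congr rfl fun i _ => by rcases h i with h | h | h <;> simp [h]
  · push Not at h
    obtain ⟨i, h1, h2, h3⟩ := h
    rw [← prod_pow, ← prod_pow_eq_pow_sum, ← mul_prod_erase _ _ (mem_univ i),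
      ← mul_prod_erase _ _ (mem_univ i), ← mul_assoc, ← mul_assoc]
    exact Or.inl (Nat.mul_le_mul ((cube_le _).2 h1 h2 h3) (prod_le_prod' fun j _ => (cube_le _).1))

theorem num_lt {P v c : ℕ} (hv : v ≤ 4) (h : 243 * P ^ 3 ≤ 125 * 3 ^ (2 * v + 3 * c)) :
    P < 2 ^ v * 3 ^ c := by
  refine lt_of_pow_lt_pow_left₀ 3 (Nat.zero_le _) (lt_of_mul_lt_mul_left (a := 243) (h.trans_lt ?_)
    (Nat.zero_le _))
  rw [pow_add, mul_pow, ← pow_mul, ← pow_mul, mul_comm c, ← mul_assoc, ← mul_assoc]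
  gcongr ?_ * _
  interval_cases v <;> norm_num

theorem num_le {t c v d : ℕ} (h : 2 * t + 3 * c = 2 * v + 3 * d) (hv : v ≤ t) :
    2 ^ t * 3 ^ c ≤ 2 ^ v * 3 ^ d ∧ (2 ^ t * 3 ^ c = 2 ^ v * 3 ^ d → t = v) := by
  obtain ⟨u, rfl, rfl⟩ : ∃ u, t = v + 3 * u ∧ d = c + 2 * u := ⟨(t - v) / 3, by omega⟩
  rw [show 2 ^ (v + 3 * u) * 3 ^ c = 2 ^ v * 3 ^ c * 8 ^ u by rw [pow_add, pow_mul]; ring,
    show 2 ^ v * 3 ^ (c + 2 * u) = 2 ^ v * 3 ^ c * 9 ^ u by rw [pow_add, pow_mul]; ring]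
  refine ⟨by gcongr; norm_num, fun e => by_contra fun h1 => ?_⟩
  exact (Nat.pow_lt_pow_left (show 8 < 9 by norm_num) (by omega)).ne
    (Nat.eq_of_mul_eq_mul_left (by positivity) e)

variable {Ω ι : Type} [Fintype Ω] [DecidableEq Ω] [Fintype ι] [DecidableEq ι]

theorem eq_one_of_support {g : Perm Ω} (hg : g ∈ alternatingGroup Ω) (h : #g.support ≤ 2) : g = 1 := by
  by_contra h1
  have := (card_support_eq_two.1 (le_antisymm h (two_le_card_support_of_ne_one h1))).sign_eq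
  rw [mem_alternatingGroup.1 hg] at this
  exact absurd this (by decide)

theorem sq_eq_one_of_support {g : Perm Ω} (hg : g ∈ alternatingGroup Ω) (h : #g.support = 4) :
    g ^ 2 = 1 := by
  have h1 := sign_of_cycleType g
  rw [← sum_cycleType] at h
  rw [mem_alternatingGroup.1 hg, h, eq_comm, neg_one_pow_eq_one_iff_even (by decide)] at h1
  have h2 := Multiset.card_nsmul_le_sum (s := g.cycleType) fun x hx => two_le_of_mem_cycleType hx
  have h3 : g.cycleType.card ≠ 0 := fun e => by simp [Multiset.card_eq_zero.1 e] at h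
  obtain ⟨k, hk⟩ := h1
  obtain ⟨a, b, h4⟩ := Multiset.card_eq_two.1 (show g.cycleType.card = 2 by
    rw [smul_eq_mul] at h2; omega)
  have h5 := fun x hx => two_le_of_mem_cycleType (σ := g) (n := x) hx
  rw [pow_prime_eq_one_iff]
  simp only [h4, Multiset.insert_eq_cons, Multiset.mem_cons, Multiset.mem_singleton,
    forall_eq_or_imp, forall_eq, Multiset.sum_cons, Multiset.sum_singleton] at h h5 ⊢
  omega

/-- the size of a block -/
def sz (c : Ω → ι) (i : ι) : ℕ := #{x | c x = i}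

/-- `c` describes the orbits of the abelian group `A`, with representatives `r` -/
structure Orb (A : Subgroup (Perm Ω)) (c : Ω → ι) (r : ι → Ω) : Prop where
  comm : ∀ a ∈ A, ∀ b ∈ A, a * b = b * a
  iff : ∀ x y, c x = c y ↔ ∃ a ∈ A, a x = y
  rep : ∀ i, c (r i) = i

/-- semiregular on the blocks, of exponent two on the blocks of size four -/
structure KK (c : Ω → ι) (g : Perm Ω) : Prop where
  pres : ∀ x, c (g x) = c x
  semi : ∀ x y, c x = c y → g x = x → g y = y
  four : ∀ x, sz c (c x) = 4 → g (g x) = x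

omit [DecidableEq Ω] in
theorem exists_orb {A : Subgroup (Perm Ω)} (hA : IsMulCommutative A) :
    ∃ (k : ℕ) (c : Ω → Fin k) (r : Fin k → Ω), Orb A c r := by
  let e := Finite.equivFin (MulAction.orbitRel.Quotient A Ω)
  refine ⟨_, fun x => e (Quotient.mk'' x), fun i => (e.symm i).out,
    fun a ha b hb => congrArg Subtype.val (hA.is_comm.comm ⟨a, ha⟩ ⟨b, hb⟩), fun x y => ?_, by simp⟩
  rw [e.apply_eq_iff_eq, eq_comm, Quotient.eq'', MulAction.orbitRel_apply]
  exact ⟨fun ⟨a, h⟩ => ⟨a, a.2, h⟩, fun ⟨a, ha, h⟩ => ⟨⟨a, ha⟩, h⟩⟩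

omit [Fintype ι] in
theorem le_sz {c : Ω → ι} {i : ι} (s : Finset Ω) (h : ∀ x ∈ s, c x = i) : #s ≤ sz c i :=
  card_le_card fun x hx => by simpa using h x hx

omit [DecidableEq Ω] in
theorem sum_sz (c : Ω → ι) : ∑ i, sz c i = Fintype.card Ω :=
  (card_eq_sum_card_fiberwise fun _ _ => mem_univ _).symm

omit [Fintype ι] in
theorem KK.agree {c : Ω → ι} {g a : Perm Ω} (hg : KK c g) (ha : KK c a) {x z : Ω}
    (h : sz c (c x) = 3 ∨ sz c (c x) = 4) (e : g x = a x) (hz : c z = c x) : g z = a z := by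
  by_cases h0 : g x = x
  · rw [hg.semi x z hz.symm h0, ha.semi x z hz.symm (e ▸ h0)]
  by_contra h1
  have g1 : ∀ w, c w = c x → g w ≠ w := fun w hw e => h0 (hg.semi w x hw e)
  have a1 : ∀ w, c w = c x → a w ≠ w := fun w hw e' => h0 (e ▸ ha.semi w x hw e')
  have g2 : ∀ u v, g u = g v → u = v := fun _ _ h => g.injective h
  have a2 : ∀ u v, a u = a v → u = v := fun _ _ h => a.injective h
  have g3 := hg.pres
  have a3 := ha.pres
  have k4 : ∀ u v w y, c u = c x → c v = c x → c w = c x → c y = c x → u ≠ v → u ≠ w → u ≠ y →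
      v ≠ w → v ≠ y → w ≠ y → 4 ≤ sz c (c x) := fun u v w y _ _ _ _ _ _ _ _ _ _ =>
    (le_sz {u, v, w, y} (by simp [*])).trans' (by simp [*])
  rcases h with h | h
  · have k1 := k4 (g x) z (g z) (a z)
    have k2 := k4 x z (a z) (g (a z))
    have k3 := k4 x z (g z) (a (g z))
    have k5 := k4 x z (g z) (a z)
    clear k4
    by_cases z = g x <;> by_cases g z = x <;> by_cases a z = x <;> grind
  · clear k4
    have g4 := hg.four x h
    have a4 := ha.four x h
    have g5 := hg.four z (hz ▸ h)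
    have a5 := ha.four z (hz ▸ h)
    have := le_sz (c := c) (i := c x) {x, g x, z, g z, a z} (by simp [*])
    rw [card_insert_of_notMem, card_insert_of_notMem, card_insert_of_notMem, card_pair h1] at this
    · omega
    all_goals grind

namespace Orb

variable {A : Subgroup (Perm Ω)} {c : Ω → ι} {r : ι → Ω} (h : Orb A c r)
include h

omit [Fintype Ω] [DecidableEq Ω] [Fintype ι] [DecidableEq ι] in
theorem pres {a : Perm Ω} (ha : a ∈ A) (x : Ω) : c (a x) = c x := ((h.iff _ _).2 ⟨a, ha, rfl⟩).symm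

omit [Fintype Ω] [DecidableEq Ω] [Fintype ι] [DecidableEq ι] in
theorem agree {a b : Perm Ω} (ha : a ∈ A) (hb : b ∈ A) {x y : Ω} (hc : c x = c y) (e : a x = b x) :
    a y = b y := by
  obtain ⟨g, hg, rfl⟩ := (h.iff _ _).1 hc
  rw [← Perm.mul_apply, h.comm a ha g hg, Perm.mul_apply, e, ← Perm.mul_apply, h.comm g hg b hb,
    Perm.mul_apply]

/-- the images of the representatives -/
def ev (a : A) (i : ι) : {x // c x = i} := ⟨a.1 (r i), (h.pres a.2 _).trans (h.rep i)⟩

omit [Fintype Ω] [DecidableEq Ω] [Fintype ι] [DecidableEq ι] in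
theorem ev_inj : Function.Injective h.ev := fun a b e => Subtype.ext (Equiv.ext fun x =>
  h.agree a.2 b.2 (h.rep (c x)) (congrArg Subtype.val (congrFun e (c x))))

omit [DecidableEq Ω] h in
theorem card_pi : Nat.card (∀ i, {x // c x = i}) = ∏ i, sz c i := by
  simp [Fintype.card_subtype, sz]

omit [DecidableEq Ω] in
theorem card_le : Nat.card A ≤ ∏ i, sz c i :=
  (Nat.card_le_card_of_injective _ h.ev_inj).trans card_pi.le

omit [DecidableEq Ω] in
theorem exists_ev (e : Nat.card A = ∏ i, sz c i) (f : ι → Ω) (hf : ∀ i, c (f i) = i) :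
    ∃ a ∈ A, ∀ i, a (r i) = f i := by
  obtain ⟨a, ha⟩ := ((Nat.bijective_iff_injective_and_card _).2 ⟨h.ev_inj, e.trans card_pi.symm⟩).2
    fun i => ⟨f i, hf i⟩
  exact ⟨a, a.2, fun i => congrArg Subtype.val (congrFun ha i)⟩

theorem exists_supp (e : Nat.card A = ∏ i, sz c i) (y : Ω) :
    ∃ a ∈ A, a (r (c y)) = y ∧ a.support ⊆ univ.filter (c · = c y) := by
  obtain ⟨a, ha, h1⟩ := h.exists_ev e (Function.update r (c y) y) fun i => by
    by_cases hi : i = c y
    · simp [hi]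
    · simp [hi, h.rep]
  refine ⟨a, ha, by simp [h1], fun x hx => by_contra fun h2 => mem_support.1 hx ?_⟩
  exact h.agree ha A.one_mem (h.rep (c x)) (by rw [h1, Function.update_of_ne (by simpa using h2)]; rfl)

omit [DecidableEq Ω] [Fintype ι] in
theorem pow_sz {a : Perm Ω} (ha : a ∈ A) (x : Ω) : (a ^ sz c (c x)) x = x := by
  haveI : (MulAction.stabilizer A x).Normal := ⟨fun b hb g => by
    rwa [show g * b = b * g from Subtype.ext (h.comm _ g.2 _ b.2), mul_inv_cancel_right]⟩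
  have h1 := (MulAction.stabilizer A x).pow_index_mem ⟨a, ha⟩
  rwa [MulAction.index_stabilizer, show MulAction.orbit A x = (univ.filter (c · = c x) : Finset Ω) by
    ext y
    rw [mem_coe, mem_filter, and_iff_right (mem_univ _), eq_comm, h.iff]
    exact ⟨fun ⟨a, h⟩ => ⟨a, a.2, h⟩, fun ⟨a, ha, h⟩ => ⟨⟨a, ha⟩, h⟩⟩, Set.ncard_coe_finset] at h1

omit [Fintype ι] h in
theorem exists_ne {i : ι} (hi : 2 ≤ sz c i) (x : Ω) : ∃ y, c y = i ∧ y ≠ x := by
  simpa using exists_mem_ne hi x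

theorem ne_one (hv : A ≤ alternatingGroup Ω) (h2 : ∀ i, sz c i = 2 ∨ sz c i = 3 ∨ sz c i = 4) :
    #{i | sz c i = 2} + 2 * #{i | sz c i = 4} ≠ 1 := fun h5 => by
  obtain ⟨i, hi⟩ := card_eq_one.1 (show #{i | sz c i = 2} = 1 by omega)
  have h6 : ∀ j, sz c j = 2 ↔ j = i := by simpa [Finset.ext_iff] using hi
  have h7 : ∀ j, sz c j ≠ 4 := by simpa using card_eq_zero.1 (show #{i | sz c i = 4} = 0 by omega)
  obtain ⟨y, hy, h8⟩ := exists_ne ((h6 i).2 rfl).ge (r i)
  obtain ⟨a, ha, rfl⟩ := (h.iff _ _).1 ((h.rep i).trans hy.symm)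
  have h9 := eq_one_of_support (hv (A.pow_mem ha 3)) ((le_sz _ fun x hx => by_contra fun h9 =>
    mem_support.1 hx (by
      rw [← ((h2 (c x)).resolve_left (mt (h6 _).1 h9)).resolve_right (h7 _)]
      exact h.pow_sz ha x)).trans ((h6 i).2 rfl).le)
  have h10 := h.pow_sz ha (r i)
  rw [h.rep, (h6 i).2 rfl] at h10
  exact h8 (by rw [← h10, ← Perm.mul_apply, ← pow_succ', h9, h10, Perm.one_apply])

theorem five (hn : Fintype.card Ω = 5) (hv : A ≤ alternatingGroup Ω) : Nat.card A ≤ 5 := by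
  have h1 := h.card_le
  rcases num (sz c) with h2 | ⟨h2, -, h4⟩
  · rw [sum_sz, hn] at h2
    exact h1.trans ((Nat.pow_le_pow_iff_left three_ne_zero).1 (by omega))
  · rw [sum_sz, hn] at h4
    have := h.ne_one hv h2
    omega

theorem bound {v d : ℕ} (hn : Fintype.card Ω = 2 * v + 3 * d)
    (hv : v ≤ 2 ∨ v = 4 ∧ A ≤ alternatingGroup Ω) : Nat.card A ≤ 2 ^ v * 3 ^ d ∧
    (Nat.card A = 2 ^ v * 3 ^ d → Nat.card A = ∏ i, sz c i ∧
      (∀ i, sz c i = 2 ∨ sz c i = 3 ∨ sz c i = 4) ∧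
      #{i | sz c i = 2} + 2 * #{i | sz c i = 4} = v ∧ #{i | sz c i = 3} = d) := by
  have h1 := h.card_le
  rcases num (sz c) with h2 | ⟨h2, h3, h4⟩
  · rw [sum_sz, hn] at h2
    have := num_lt (by omega) h2
    omega
  rw [sum_sz, hn] at h4
  have h5 := num_le h4.symm (by
    rcases hv with hv | ⟨rfl, hv⟩
    · omega
    have := h.ne_one hv h2
    omega)
  exact ⟨by omega, fun e => ⟨by omega, h2, by omega⟩⟩

theorem ne_two (e : Nat.card A = ∏ i, sz c i) (ha : A ≤ alternatingGroup Ω) (i : ι) :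
    sz c i ≠ 2 := fun hi => by
  obtain ⟨y, hy, h1⟩ := exists_ne hi.ge (r i)
  subst hy
  obtain ⟨a, h2, h3, h4⟩ := h.exists_supp e y
  rw [eq_one_of_support (ha h2) ((card_le_card h4).trans hi.le)] at h3
  exact h1 h3.symm

theorem kk (e : Nat.card A = ∏ i, sz c i) (hA : A ≤ alternatingGroup Ω) {a : Perm Ω} (ha : a ∈ A) :
    KK c a := by
  refine ⟨h.pres ha, fun x y hc e => h.agree ha A.one_mem hc e, fun x hx => ?_⟩
  obtain ⟨b, hb, h1, h2⟩ := h.exists_supp e (a (r (c x)))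
  rw [h.pres ha, h.rep] at h1 h2
  have h3 : ∀ y, c y = c x → a y = b y := fun y hy =>
    h.agree ha hb ((h.rep _).trans hy.symm) h1.symm
  rw [h3 x rfl, h3 _ (h.pres hb x)]
  by_cases h4 : b x = x
  · rw [h4, h4]
  · exact congrArg (· x) ((sq b).symm.trans (sq_eq_one_of_support (hA hb) (le_antisymm
      ((card_le_card h2).trans hx.le) (hx.ge.trans (card_le_card fun y hy => mem_support.2 fun h5 =>
        h4 (h.agree hb A.one_mem (mem_filter.1 hy).2 h5))))))

theorem mem_of_kk (e : Nat.card A = ∏ i, sz c i) (hA : A ≤ alternatingGroup Ω)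
    (hs : ∀ i, sz c i = 3 ∨ sz c i = 4) {g : Perm Ω} (hg : KK c g) : g ∈ A := by
  obtain ⟨a, ha, h1⟩ := h.exists_ev e (fun i => g (r i)) fun i => (hg.pres _).trans (h.rep i)
  rwa [show g = a from Equiv.ext fun x => hg.agree (h.kk e hA ha) (hs _) (h1 (c x)).symm
    (h.rep _).symm]

end Orb

theorem card_le {A : Subgroup (Perm Ω)} (hA : IsMulCommutative A) {v d : ℕ}
    (hn : Fintype.card Ω = 2 * v + 3 * d) (hv : v ≤ 2 ∨ v = 4 ∧ A ≤ alternatingGroup Ω) :
    Nat.card A ≤ 2 ^ v * 3 ^ d :=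
  let ⟨_, _, _, h⟩ := exists_orb hA
  (h.bound hn hv).1

theorem exists_conj {A B : Subgroup (Perm Ω)} (hA : IsMulCommutative A) (hB : IsMulCommutative B)
    (ha : A ≤ alternatingGroup Ω) (hb : B ≤ alternatingGroup Ω) {v d : ℕ}
    (hn : Fintype.card Ω = 2 * v + 3 * d) (hv : v ≤ 2 ∨ v = 4) (kA : Nat.card A = 2 ^ v * 3 ^ d)
    (kB : Nat.card B = 2 ^ v * 3 ^ d) :
    ∃ g ∈ alternatingGroup Ω, B = A.map (MulAut.conj g).toMonoidHom := by
  obtain ⟨k, c, r, h⟩ := exists_orb hA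
  obtain ⟨k', c', r', h'⟩ := exists_orb hB
  obtain ⟨a1, a2, a3, a4⟩ := (h.bound hn (hv.imp_right fun e => ⟨e, ha⟩)).2 kA
  obtain ⟨b1, b2, b3, b4⟩ := (h'.bound hn (hv.imp_right fun e => ⟨e, hb⟩)).2 kB
  have a5 := h.ne_two a1 ha
  have b5 := h'.ne_two b1 hb
  rw [filter_false_of_mem fun i _ => a5 i, card_empty] at a3
  rw [filter_false_of_mem fun i _ => b5 i, card_empty] at b3
  have hσ : ∀ n, Fintype.card {i // sz c i = n} = Fintype.card {i // sz c' i = n} := fun n => by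
    rw [Fintype.card_subtype, Fintype.card_subtype]
    by_cases h3 : n = 3
    · rw [h3, a4, b4]
    by_cases h4 : n = 4
    · rw [h4]; omega
    rw [filter_false_of_mem fun i _ => by have := a2 i; have := a5 i; omega,
      filter_false_of_mem fun i _ => by have := b2 i; have := b5 i; omega]
    rfl
  let σ := Equiv.ofFiberEquiv fun n => Fintype.equivOfCardEq (hσ n)
  have h1 : ∀ i, sz c' (σ i) = sz c i := Equiv.ofFiberEquiv_map _
  obtain ⟨g, hg, h2⟩ : ∃ g ∈ alternatingGroup Ω, ∀ x, c' (g x) = σ (c x) := by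
    have h2 := Equiv.ofFiberEquiv_map (f := fun x => σ (c x)) (g := c') fun i =>
      Fintype.equivOfCardEq (by
        rw [Fintype.card_subtype, Fintype.card_subtype, ← σ.apply_symm_apply i]
        simpa only [σ.apply_eq_iff_eq, sz] using (h1 _).symm)
    set e := Equiv.ofFiberEquiv _
    rcases Int.units_eq_one_or (sign e) with h3 | h3
    · exact ⟨e, h3, h2⟩
    obtain ⟨x⟩ : Nonempty Ω := by
      by_contra h4
      rw [not_nonempty_iff] at h4
      rw [Subsingleton.elim e 1, map_one] at h3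
      exact absurd h3 (by decide)
    obtain ⟨y, h4, h5⟩ := Orb.exists_ne (c := c) (i := c x) (by have := a2 (c x); omega) x
    refine ⟨e * swap x y, by simp [h3, h5.symm], fun z => ?_⟩
    rw [Perm.mul_apply, h2, swap_apply_def]
    split_ifs <;> simp [*]
  refine ⟨g, hg, (Subgroup.eq_of_le_of_card_ge (map_conj_le_iff.2 fun a haA => ?_)
    (by rw [card_map_conj, kA, kB])).symm⟩
  have h3 := h.kk a1 ha haA
  have h4 : ∀ x, c' x = σ (c (g⁻¹ x)) := fun x => by rw [← h2]; simp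
  refine h'.mem_of_kk b1 hb (fun i => (b2 i).resolve_left (b5 i)) ⟨fun x => ?_, fun x y e e' => ?_,
    fun x e => ?_⟩
  · rw [Perm.mul_apply, Perm.mul_apply, h2, h3.pres, h4]
  · rw [h4, h4, σ.apply_eq_iff_eq] at e
    rw [Perm.mul_apply, Perm.mul_apply, ← Perm.eq_inv_iff_eq] at e' ⊢
    exact h3.semi _ _ e e'
  · rw [h4, h1] at e
    have := h3.four _ e
    simp only [Perm.mul_apply, Perm.coe_inv, symm_apply_apply] at this ⊢
    rw [this, apply_symm_apply]

/-- there is an abelian subgroup of order `k` of `S_n` (of `A_n` if `ev`) -/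
def Ex (ev : Prop) (n k : ℕ) : Prop := ∃ A : Subgroup (Perm (Fin n)), IsMulCommutative A ∧
  Nat.card A = k ∧ (ev → A ≤ alternatingGroup _)

theorem Ex.add {ev : Prop} {n k m l : ℕ} (h : Ex ev n k) (h' : Ex ev m l) : Ex ev (n + m) (k * l) := by
  obtain ⟨A, h1, h2, h3⟩ := h
  obtain ⟨B, h4, h5, h6⟩ := h'
  let φ := finSumFinEquiv.permCongrHom.toMonoidHom.comp (sumCongrHom (Fin n) (Fin m))
  have hφ : Function.Injective φ := finSumFinEquiv.permCongrHom.injective.comp sumCongrHom_injective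
  haveI : IsMulCommutative (A.prod B) := ⟨⟨fun x y => Subtype.ext (Prod.ext
    (congrArg Subtype.val (h1.is_comm.comm ⟨_, x.2.1⟩ ⟨_, y.2.1⟩))
    (congrArg Subtype.val (h4.is_comm.comm ⟨_, x.2.2⟩ ⟨_, y.2.2⟩)))⟩⟩
  refine ⟨(A.prod B).map φ, inferInstance, by
    rw [Subgroup.card_map_of_injective hφ, Nat.card_congr (A.prodEquiv B).toEquiv, Nat.card_prod,
      h2, h5], fun e => ?_⟩
  rintro _ ⟨x, hx, rfl⟩
  simp [φ, mem_alternatingGroup.1 (h3 e hx.1), mem_alternatingGroup.1 (h6 e hx.2)]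

theorem ex_zpowers {ev : Prop} {n k : ℕ} (g : Perm (Fin n)) (hk : orderOf g = k)
    (h : ev → sign g = 1) : Ex ev n k :=
  ⟨Subgroup.zpowers g, inferInstance, (Nat.card_zpowers g).trans hk,
    fun e => Subgroup.zpowers_le.2 (h e)⟩

theorem ex_three (ev : Prop) (k : ℕ) : Ex ev (3 * k) (3 ^ k) := by
  induction k with
  | zero => exact ex_zpowers 1 orderOf_one fun _ => map_one _
  | succ k ih =>
    haveI := Nat.fact_prime_three
    exact ih.add (ex_zpowers (finRotate 3) (orderOf_eq_prime (by decide) (by decide))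
      fun _ => by decide)

theorem ex_two : Ex False 2 2 :=
  ex_zpowers (finRotate 2) (orderOf_eq_prime (by decide) (by decide)) False.elim

theorem ex_five : Ex True 5 5 :=
  haveI : Fact (Nat.Prime 5) := ⟨by decide⟩
  ex_zpowers (finRotate 5) (orderOf_eq_prime (by decide) (by decide)) fun _ => by decide

theorem ex_four (ev : Prop) : Ex ev 4 4 := by
  have h := alternatingGroup.kleinFour_isKleinFour (α := Fin 4) (by simp)
  haveI := h.isMulCommutative
  exact ⟨(alternatingGroup.kleinFour (Fin 4)).map (Subgroup.subtype _), inferInstance, by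
    rw [Subgroup.card_subtype, h.card_four], fun _ => Subgroup.map_subtype_le _⟩

theorem ex_alt {n v d : ℕ} (hn : n = 2 * v + 3 * d) (hv : v = 0 ∨ v = 2 ∨ v = 4) :
    Ex True n (2 ^ v * 3 ^ d) := by
  rcases hv with rfl | rfl | rfl
  · simpa [hn] using ex_three True d
  · exact hn ▸ (ex_four True).add (ex_three True d)
  · exact hn ▸ ((ex_four True).add (ex_four True)).add (ex_three True d)

theorem Ex.alt {n k : ℕ} (h : Ex True n k) :
    ∃ A : Subgroup (alternatingGroup (Fin n)), IsMulCommutative A ∧ Nat.card A = k :=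
  let ⟨A, _, h2, h3⟩ := h
  ⟨A.subgroupOf _, inferInstance, h2 ▸ Nat.card_congr (Subgroup.subgroupOfEquivOfLe (h3 trivial)).toEquiv⟩

theorem isGreatest_alt {n v d : ℕ} (hn : n = 2 * v + 3 * d) (hv : v = 0 ∨ v = 2 ∨ v = 4) :
    IsGreatest {c : ℕ | ∃ A : Subgroup (alternatingGroup (Fin n)), IsMulCommutative A ∧
      Nat.card A = c} (2 ^ v * 3 ^ d) := by
  refine ⟨(ex_alt hn hv).alt, ?_⟩
  rintro _ ⟨A, hA, rfl⟩
  rw [← Subgroup.card_subtype]
  exact card_le inferInstance (by simpa using hn) (by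
    rcases hv with rfl | rfl | rfl
    exacts [Or.inl (by omega), Or.inl le_rfl, Or.inr ⟨rfl, Subgroup.map_subtype_le _⟩])

theorem isGreatest_sym {n v d : ℕ} (hn : n = 2 * v + 3 * d) (hv : v ≤ 2) :
    IsGreatest {c : ℕ | ∃ A : Subgroup (Perm (Fin n)), IsMulCommutative A ∧
      Nat.card A = c} (2 ^ v * 3 ^ d) := by
  refine ⟨?_, ?_⟩
  · obtain ⟨A, h1, h2, -⟩ : Ex False n (2 ^ v * 3 ^ d) := by
      interval_cases v
      · simpa [hn] using ex_three False d
      · exact hn ▸ ex_two.add (ex_three False d)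
      · exact hn ▸ (ex_four False).add (ex_three False d)
    exact ⟨A, h1, h2⟩
  · rintro _ ⟨A, hA, rfl⟩
    exact card_le hA (by simpa using hn) (Or.inl hv)

end Cfsg.Agent.H98.AbS
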