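import Cfsg.Agent.H98.AltSimple
import Cfsg.Prelude.Def_TwoFusion

/-!
Direct decompositions of Sylow `2`-subgroups of alternating groups.
-/

set_option autoImplicit false

namespace Cfsg.Agent.H98.AltD

open Cfsg Equiv Equiv.Perm Sum AltS

section
variable {G G' : Type*} [Group G] [Group G'] {A B T : Subgroup G}

/-- `T` is directly decomposable -/
def Dec (T : Subgroup G) : Prop := ∃ A B : Subgroup G, A ≠ ⊥ ∧ B ≠ ⊥ ∧ IsInternalDirectProduct A B T

theorem dp_symm (h : IsInternalDirectProduct A B T) : IsInternalDirectProduct B A T :=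
  ⟨h.2.1, h.1, fun b hb a ha => (h.2.2.1 a ha b hb).symm, inf_comm A B ▸ h.2.2.2.1,
    sup_comm A B ▸ h.2.2.2.2⟩

theorem dp_eq_one (h : IsInternalDirectProduct A B T) {x : G} (hA : x ∈ A) (hB : x ∈ B) : x = 1 :=
  Subgroup.mem_bot.1 (h.2.2.2.1 ▸ Subgroup.mem_inf.2 ⟨hA, hB⟩)

theorem dp_split (h : IsInternalDirectProduct A B T) {x : G} (hx : x ∈ T) :
    ∃ a ∈ A, ∃ b ∈ B, x = a * b := by
  rw [← h.2.2.2.2, Subgroup.sup_eq_closure] at hx
  induction hx using Subgroup.closure_induction with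
  | mem x hx =>
    exact hx.elim (fun hx => ⟨x, hx, 1, B.one_mem, (mul_one x).symm⟩)
      fun hx => ⟨1, A.one_mem, x, hx, (one_mul x).symm⟩
  | one => exact ⟨1, A.one_mem, 1, B.one_mem, (one_mul 1).symm⟩
  | mul _ _ _ _ h1 h2 =>
    obtain ⟨a, ha, b, hb, rfl⟩ := h1
    obtain ⟨a', ha', b', hb', rfl⟩ := h2
    exact ⟨_, A.mul_mem ha ha', _, B.mul_mem hb hb', by
      rw [mul_assoc, ← mul_assoc b, ← h.2.2.1 a' ha' b hb]; group⟩
  | inv _ _ h1 =>
    obtain ⟨a, ha, b, hb, rfl⟩ := h1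
    exact ⟨_, A.inv_mem ha, _, B.inv_mem hb, by rw [h.2.2.1 a ha b hb, mul_inv_rev]⟩

theorem dp_comm_mem (h : IsInternalDirectProduct A B T) {a x : G} (ha : a ∈ A) (hx : x ∈ T) :
    a * x * a⁻¹ * x⁻¹ ∈ A := by
  obtain ⟨a', ha', b', hb', rfl⟩ := dp_split h hx
  rw [mul_assoc a, mul_assoc a', ← h.2.2.1 _ (A.inv_mem ha) _ hb']
  simpa [mul_assoc] using A.mul_mem ha (A.mul_mem ha' (A.mul_mem (A.inv_mem ha) (A.inv_mem ha')))

theorem dp_comm_left (h : IsInternalDirectProduct A B T) {a b x : G} (ha : a ∈ A) (hb : b ∈ B)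
    (hx : x ∈ T) (hc : a * b * x = x * (a * b)) : a * x = x * a := by
  obtain ⟨a', ha', b', hb', rfl⟩ := dp_split h hx
  have h1 : a * a' * (b * b') = a' * a * (b' * b) := by
    rw [mul_assoc, ← mul_assoc a', h.2.2.1 a' ha' b hb, mul_assoc, ← mul_assoc, hc, mul_assoc,
      ← mul_assoc b', ← h.2.2.1 a ha b' hb']
    group
  have h2 : (a' * a)⁻¹ * (a * a') = b' * b * (b * b')⁻¹ := by
    rw [inv_mul_eq_iff_eq_mul, ← mul_assoc, ← h1, mul_inv_cancel_right]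
  have h3 := dp_eq_one h (A.mul_mem (A.inv_mem (A.mul_mem ha' ha)) (A.mul_mem ha ha'))
    (h2 ▸ B.mul_mem (B.mul_mem hb' hb) (B.inv_mem (B.mul_mem hb hb')))
  rw [← mul_assoc, ← inv_mul_eq_one.1 h3, mul_assoc, h.2.2.1 a ha b' hb', mul_assoc]

theorem exists_central [Finite G] {p : ℕ} [Fact p.Prime] (h : IsInternalDirectProduct A B T)
    (hT : IsPGroup p T) (h0 : A ≠ ⊥) : ∃ z ∈ A, z ≠ 1 ∧ ∀ x ∈ T, z * x = x * z := by
  haveI := (Subgroup.nontrivial_iff_ne_bot A).2 h0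
  haveI := (hT.to_le h.1).center_nontrivial
  obtain ⟨⟨⟨z, hz⟩, h1⟩, h2⟩ := exists_ne (1 : Subgroup.center A)
  refine ⟨z, hz, fun e => h2 (Subtype.ext (Subtype.ext e)), fun x hx => ?_⟩
  obtain ⟨a, ha, b, hb, rfl⟩ := dp_split h hx
  have h3 : a * z = z * a := congrArg Subtype.val (Subgroup.mem_center_iff.1 h1 ⟨a, ha⟩)
  rw [← mul_assoc, ← h3, mul_assoc, h.2.2.1 z hz b hb, mul_assoc]

theorem dec_map_iff {f : G →* G'} (hf : Function.Injective f) : Dec (T.map f) ↔ Dec T := by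
  constructor
  · rintro ⟨A, B, h1, h2, h⟩
    obtain ⟨A, rfl⟩ : ∃ A' : Subgroup G, A'.map f = A :=
      ⟨_, Subgroup.map_comap_eq_self (h.1.trans (T.map_le_range f))⟩
    obtain ⟨B, rfl⟩ : ∃ A' : Subgroup G, A'.map f = B :=
      ⟨_, Subgroup.map_comap_eq_self (h.2.1.trans (T.map_le_range f))⟩
    refine ⟨A, B, fun e => h1 (by simp [e]), fun e => h2 (by simp [e]),
      (Subgroup.map_le_map_iff_of_injective hf).1 h.1,
      (Subgroup.map_le_map_iff_of_injective hf).1 h.2.1, fun a ha b hb => hf ?_,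
      Subgroup.map_injective hf ?_, Subgroup.map_injective hf ?_⟩
    · simpa using h.2.2.1 _ ⟨a, ha, rfl⟩ _ ⟨b, hb, rfl⟩
    · rw [Subgroup.map_inf _ _ _ hf, h.2.2.2.1, Subgroup.map_bot]
    · rw [Subgroup.map_sup, h.2.2.2.2]
  · rintro ⟨A, B, h1, h2, h⟩
    refine ⟨A.map f, B.map f, mt (Subgroup.map_eq_bot_iff_of_injective _ hf).1 h1,
      mt (Subgroup.map_eq_bot_iff_of_injective _ hf).1 h2, Subgroup.map_mono h.1,
      Subgroup.map_mono h.2.1, ?_, ?_, ?_⟩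
    · rintro _ ⟨a, ha, rfl⟩ _ ⟨b, hb, rfl⟩
      rw [← map_mul, h.2.2.1 a ha b hb, map_mul]
    · rw [← Subgroup.map_inf _ _ _ hf, h.2.2.2.1, Subgroup.map_bot]
    · rw [← Subgroup.map_sup, h.2.2.2.2]

end

variable {ι β : Type} [Fintype ι] [DecidableEq ι] [Fintype β] [DecidableEq β]
  {R : Subgroup (Perm ι)} {A B : Subgroup (Perm (ι × ZMod 2 ⊕ β))}

theorem ee_single (i : ι) : ee β (Pi.single i (1 : ZMod 2)) = swap (inl (i, 0)) (inl (i, 1)) := by
  ext1 x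
  rcases x with ⟨j, m⟩ | y
  · by_cases h : j = i
    · subst h
      rcases eq_or_ne m 0 with rfl | h
      · simp [ee_inl]
      · rw [h01 m h]; simp [ee_inl, CharTwo.add_self_eq_zero]
    · simp [ee_inl, swap_apply_of_ne_of_ne, h]
  · simp [ee, ww_inr, swap_apply_of_ne_of_ne]

theorem sign_ee (b : ι → ZMod 2) : sign (ee β b) = if ∑ i, b i = 0 then 1 else -1 := by
  induction b using Pi.single_induction with
  | zero => simp [ee_zero]
  | add a b h1 h2 =>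
    have : ∀ x y : ZMod 2, (if x = 0 then 1 else -1 : ℤˣ) * (if y = 0 then 1 else -1) =
      if x + y = 0 then 1 else -1 := by decide
    simp only [ee_add, map_mul, h1, h2, this, Pi.add_apply, Finset.sum_add_distrib]
  | single i c =>
    rcases eq_or_ne c 0 with rfl | h
    · simp [ee_zero]
    · rw [h01 c h, ee_single, sign_swap (by simp)]; simp

theorem mem_T {π : Perm ι} {b : ι → ZMod 2} (hπ : π ∈ R) :
    ff 2 β π * ee β b ∈ SS 2 β R ⊓ alternatingGroup _ ↔ ∑ i, b i = 0 := by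
  rw [Subgroup.mem_inf, mem_alternatingGroup, map_mul, sign_ff, Int.units_sq, one_mul, sign_ee]
  exact ⟨fun h => by_contra fun h' => by simp [h'] at h, fun h => ⟨⟨π, hπ, b, rfl⟩, if_pos h⟩⟩

theorem ee_mem_T {b : ι → ZMod 2} :
    ee β b ∈ SS 2 β R ⊓ alternatingGroup _ ↔ ∑ i, b i = 0 := by
  simpa using mem_T (β := β) (b := b) R.one_mem

theorem ff_mem_T {π : Perm ι} (hπ : π ∈ R) : ff 2 β π ∈ SS 2 β R ⊓ alternatingGroup _ := by
  simpa [ee_zero] using (mem_T (β := β) (b := 0) hπ).2 (by simp)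

omit [Fintype ι] [DecidableEq ι] [Fintype β] [DecidableEq β] in
theorem apply_of_comm {π : Perm ι} {b w : ι → ZMod 2}
    (h : ff 2 β π * ee β b * ee β w = ee β w * (ff 2 β π * ee β b)) (i : ι) : w (π i) = w i := by
  rw [← mul_inv_eq_iff_eq_mul, ← ww_eq_mul, conj_ee] at h
  simpa using (congrFun (ee_inj h) (π i)).symm

theorem central [Subsingleton β] (h3 : 3 ≤ Fintype.card ι) {z : Perm (ι × ZMod 2 ⊕ β)}
    (h0 : z ∈ SS 2 β R ⊓ alternatingGroup _)
    (h : ∀ x ∈ SS 2 β R ⊓ alternatingGroup _, z * x = x * z) :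
    ∃ w, z = ee β w ∧ ∑ i, w i = 0 ∧ ∀ π ∈ R, ∀ i, w (π i) = w i := by
  obtain ⟨w, rfl⟩ := mem_EE_of_comm h3 fun i j => h _ ⟨EE_le_SS R (ee_mem _), ee_sub_mem i j 1⟩
  exact ⟨w, rfl, ee_mem_T.1 h0, fun π hπ => apply_of_comm (b := 0) (by
    rw [ee_zero, mul_one, h _ (ff_mem_T hπ)])⟩

theorem not_dec_of_pow [Subsingleton β] (h3 : 3 ≤ Fintype.card ι) (hR : SylIn 2 R ⊤) {s : ℕ}
    (h1 : 2 ^ (s + 1) ≤ Fintype.card ι) (h2 : Fintype.card ι ≤ 2 ^ (s + 1) + 1) :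
    ¬ Dec (SS 2 β R ⊓ alternatingGroup _) := by
  obtain ⟨c, hc, h4⟩ : ∃ c ∈ R, c.cycleType = {2 ^ (s + 1)} := by
    obtain ⟨c, hc⟩ := (exists_with_cycleType_iff ι (m := {2 ^ (s + 1)})).2
      ⟨by simpa using h1, by simpa using Nat.le_self_pow s.succ_ne_zero 2⟩
    obtain ⟨g, -, hg⟩ := hR.exists_conj_le (U := Subgroup.zpowers c) le_top
      (IsPGroup.of_card (n := s + 1) (by rw [Nat.card_zpowers, ← lcm_cycleType, hc]; simp))
    exact ⟨_, hg (conj_mem_map_conj (Subgroup.mem_zpowers c)), by rw [cycleType_conj, hc]⟩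
  have h5 : c.IsCycle := card_cycleType_eq_one.1 (by simp [h4])
  have h6 : c.support.card = 2 ^ (s + 1) := by rw [← sum_cycleType, h4]; simp
  have key : ∀ w : ι → ZMod 2, ∑ i, w i = 0 → (∀ π ∈ R, ∀ i, w (π i) = w i) → w ≠ 0 →
      w = fun i => if i ∈ c.support then 1 else 0 := fun w h7 h8 h9 => by
    obtain ⟨x, hx, h10⟩ := h5
    have h11 : ∀ i ∈ c.support, w i = w x := fun i hi => by
      obtain ⟨k, rfl⟩ := h10 (mem_support.1 hi)
      exact h8 _ (R.zpow_mem hc k) x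
    have h12 : ∀ i ∉ c.support, w i = 0 := fun i hi => by
      rw [← Finset.sum_add_sum_compl c.support, Finset.sum_congr rfl h11, Finset.sum_const, h6,
        pow_succ, mul_nsmul', two_nsmul, CharTwo.add_self_eq_zero, nsmul_zero, zero_add,
        Finset.sum_eq_single_of_mem i (by simpa using hi) fun j hj hji => absurd
          (Finset.card_le_one.1 (by rw [Finset.card_compl]; omega) _ hj _ (by simpa using hi)) hji]
        at h7
      exact h7
    ext i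
    split_ifs with hi
    · rw [h11 i hi]
      refine h01 _ fun e => h9 (funext fun j => ?_)
      by_cases hj : j ∈ c.support
      · exact (h11 j hj).trans e
      · exact h12 j hj
    · exact h12 i hi
  rintro ⟨A, B, hA, hB, h⟩
  have hT := (sylIn_alt (β := β) (Nat.lt_succ_of_le
    (Fintype.card_le_one_iff_subsingleton.2 inferInstance)) hR).isPGroup
  obtain ⟨z, hz, h7, h8⟩ := exists_central h hT hA
  obtain ⟨z', hz', h7', h8'⟩ := exists_central (dp_symm h) hT hB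
  obtain ⟨w, rfl, h9, h10⟩ := central h3 (h.1 hz) h8
  obtain ⟨w', rfl, h9', h10'⟩ := central h3 (h.2.1 hz') h8'
  rw [key w' h9' h10' fun e => h7' (e ▸ ee_zero), ← key w h9 h10 fun e => h7 (e ▸ ee_zero)] at hz'
  exact h7 (dp_eq_one h hz hz')

theorem pair_mem (i j : ι) :
    ee β (Pi.single i 1 + Pi.single j 1) ∈ SS 2 β R ⊓ alternatingGroup _ :=
  ee_mem_T.2 (by simp [Finset.sum_add_distrib, CharTwo.add_self_eq_zero])

theorem exists_out {s : Finset ι} (h : s.card < Fintype.card ι) : ∃ u, u ∉ s :=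
  (Finset.exists_mem_notMem_of_card_lt_card (t := Finset.univ) h).imp fun _ h => h.2

theorem swap_col (h5 : 5 ≤ Fintype.card ι) {i j : ι} (hij : swap i j ∈ R)
    (h : IsInternalDirectProduct A B (SS 2 β R ⊓ alternatingGroup _)) :
    (∃ c, ff 2 β (swap i j) * ee β c ∈ A) ∨ ∃ c, ff 2 β (swap i j) * ee β c ∈ B := by
  obtain ⟨a, ha, b, hb, e⟩ := dp_split h (ff_mem_T hij)
  obtain ⟨α, -, c, rfl⟩ := (h.1 ha).1
  obtain ⟨γ, -, d, rfl⟩ := (h.2.1 hb).1
  have h1 : swap i j = α * γ := by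
    rw [← ww_eq_mul, ← ww_eq_mul, ww_mul] at e
    exact (ww_inj e).1
  have h2 : ∀ u v, u ≠ v → u ∉ ({i, j} : Finset ι) → v ∉ ({i, j} : Finset ι) →
      α u = u ∨ α u = v := fun u v huv hu hv => by
    simp only [Finset.mem_insert, Finset.mem_singleton, not_or] at hu hv
    have h3 := apply_of_comm (dp_comm_left h ha hb (pair_mem u v) (by
      rw [← e, ← mul_inv_eq_iff_eq_mul, ff_apply, conj_ee]
      congr 1
      ext l
      simp [Pi.single_apply, swap_apply_eq_iff, swap_apply_of_ne_of_ne, hu, hv])) u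
    by_contra h4
    rw [not_or] at h4
    simp [h4, huv] at h3
  have h3 : ∀ u, u ∉ ({i, j} : Finset ι) → α u = u := fun u hu => by
    obtain ⟨v, hv⟩ := exists_out (s := {u, i, j}) (Finset.card_le_three.trans_lt (by omega))
    obtain ⟨w, hw⟩ := exists_out (s := {v, u, i, j}) (Finset.card_le_four.trans_lt h5)
    rw [Finset.mem_insert, not_or] at hv hw
    rw [Finset.mem_insert, not_or] at hw
    exact (h2 u v (Ne.symm hv.1) hu hv.2).elim id fun e =>
      (h2 u w (Ne.symm hw.2.1) hu hw.2.2).elim id fun e' => absurd (e'.symm.trans e) hw.1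
  by_cases h4 : α = 1
  · exact Or.inr ⟨d, by rwa [h1, h4, one_mul]⟩
  refine Or.inl ⟨c, ?_⟩
  have h6 : α.support ⊆ {i, j} := fun u hu => by_contra fun h => mem_support.1 hu (h3 u h)
  have h7 := Finset.eq_of_subset_of_card_le h6
    (Finset.card_le_two.trans (two_le_card_support_of_ne_one h4))
  obtain ⟨x, y, h8, rfl⟩ := card_support_eq_two.1 (le_antisymm (h7 ▸ Finset.card_le_two)
    (two_le_card_support_of_ne_one h4))
  rw [support_swap h8] at h7
  have h9 : x = i ∧ y = j ∨ x = j ∧ y = i := by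
    have h1 : x ∈ ({i, j} : Finset ι) := h7 ▸ by simp
    have h2 : y ∈ ({i, j} : Finset ι) := h7 ▸ by simp
    simp only [Finset.mem_insert, Finset.mem_singleton] at h1 h2
    grind
  rcases h9 with ⟨rfl, rfl⟩ | ⟨rfl, rfl⟩
  · exact ha
  · rwa [swap_comm]

theorem pair_mem_of_col (h3 : 3 ≤ Fintype.card ι) {i j : ι} {c : ι → ZMod 2}
    (h : IsInternalDirectProduct A B (SS 2 β R ⊓ alternatingGroup _))
    (hc : ff 2 β (swap i j) * ee β c ∈ A) : ee β (Pi.single i 1 + Pi.single j 1) ∈ A := by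
  obtain ⟨u, hu⟩ := exists_out (s := {i, j}) (Finset.card_le_two.trans_lt h3)
  simp only [Finset.mem_insert, Finset.mem_singleton, not_or] at hu
  have h1 := dp_comm_mem h hc (pair_mem i u)
  rw [← ww_eq_mul, conj_ee, ← ee_neg, ← ee_add] at h1
  convert h1 using 2
  ext l
  simp only [swap_inv, Pi.one_apply, Units.val_one, Pi.add_apply, Pi.neg_apply, one_mul,
    Pi.single_apply, swap_apply_eq_iff, swap_apply_left, swap_apply_of_ne_of_ne hu.1 hu.2]
  have : (2 : ZMod 2) = 0 := rfl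
  linear_combination (if l = i then 1 else 0) * this

theorem not_dec_of_even [Subsingleton β] (h5 : 5 ≤ Fintype.card ι) (hR : SylIn 2 R ⊤) {τ : ι → ι}
    (h1 : ∀ i, τ i ≠ i) (h2 : ∀ i, τ (τ i) = i) (h3 : ∀ i, swap i (τ i) ∈ R) :
    ¬ Dec (SS 2 β R ⊓ alternatingGroup _) := by
  have hT := (sylIn_alt (β := β) (Nat.lt_succ_of_le
    (Fintype.card_le_one_iff_subsingleton.2 inferInstance)) hR).isPGroup
  have k1 : ∀ {A B}, IsInternalDirectProduct A B (SS 2 β R ⊓ alternatingGroup _) → B ≠ ⊥ →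
      ¬ ∀ i, ∃ c, ff 2 β (swap i (τ i)) * ee β c ∈ A := fun {A B} h hB hA => by
    obtain ⟨z, hz, h7, h8⟩ := exists_central (dp_symm h) hT hB
    obtain ⟨w, rfl, -, h10⟩ := central (by omega) (h.2.1 hz) h8
    refine h7 (dp_eq_one h ((QuotientAddGroup.eq_zero_iff (N := trans A) w).1 ?_) hz)
    rw [← Finset.univ_sum_single w, ← QuotientAddGroup.mk'_apply, map_sum]
    refine Finset.sum_involution (fun i _ => τ i) (fun i _ => ?_) (fun i _ _ => h1 i)
      (fun _ _ => Finset.mem_univ _) fun i _ => h2 i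
    rw [← map_add, QuotientAddGroup.mk'_apply, QuotientAddGroup.eq_zero_iff,
      show w (τ i) = w i by simpa using h10 _ (h3 i) i]
    rcases eq_or_ne (w i) 0 with e | e
    · simp [e]
    · rw [h01 _ e]; exact pair_mem_of_col (by omega) h (hA i).choose_spec
  rintro ⟨A, B, hA, hB, h⟩
  have k2 : ∀ i, (∃ c, ff 2 β (swap i (τ i)) * ee β c ∈ A) →
      (∃ c, ff 2 β (swap i (τ i)) * ee β c ∈ B) → False := fun i ⟨c, hc⟩ ⟨d, hd⟩ => by
    simpa [(h1 i).symm] using congrFun (ee_inj ((dp_eq_one h (pair_mem_of_col (by omega) h hc)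
      (pair_mem_of_col (by omega) (dp_symm h) hd)).trans ee_zero.symm)) i
  obtain ⟨j, hj⟩ := not_forall.1 (k1 h hB)
  obtain ⟨i, hi⟩ := not_forall.1 (k1 (dp_symm h) hA)
  obtain ⟨a, ha, b, hb, e⟩ := dp_split h (pair_mem i j)
  obtain ⟨w, rfl⟩ := mem_EE_of_comm (by omega) fun u v => dp_comm_left h ha hb
    ⟨EE_le_SS R (ee_mem _), ee_sub_mem u v 1⟩ (e ▸ ee_comm _ _)
  rw [← inv_mul_eq_iff_eq_mul, ← ee_neg, ← ee_add] at e
  subst e
  have h4 := ee_mem_T.1 (h.1 ha)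
  have h6 : ∑ l, (w l + Pi.single (M := fun _ => ZMod 2) i 1 l) = 0 := by
    refine Finset.sum_involution (fun i _ => τ i) (fun l _ => ?_) (fun i _ _ => h1 i)
      (fun _ _ => Finset.mem_univ _) fun i _ => h2 i
    rcases swap_col h5 (h3 l) h with ⟨c, hc⟩ | ⟨c, hc⟩
    · have h7 := apply_of_comm (h.2.2.1 _ hc _ hb) l
      have h8 : l ≠ j := fun e => hj ⟨c, e ▸ hc⟩
      have h9 : τ l ≠ j := fun e => hj ⟨c, by rwa [← e, h2, swap_comm]⟩
      simp only [swap_apply_left, Pi.add_apply, Pi.neg_apply, CharTwo.neg_eq,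
        Pi.single_eq_of_ne h8, Pi.single_eq_of_ne h9, add_zero] at h7
      rw [h7, CharTwo.add_self_eq_zero]
    · have h7 := apply_of_comm (h.2.2.1 _ ha _ hc).symm l
      have h8 : l ≠ i := fun e => hi ⟨c, e ▸ hc⟩
      have h9 : τ l ≠ i := fun e => hi ⟨c, by rwa [← e, h2, swap_comm]⟩
      rw [swap_apply_left] at h7
      rw [h7, Pi.single_eq_of_ne h8, Pi.single_eq_of_ne h9, CharTwo.add_self_eq_zero]
  simp [Finset.sum_add_distrib, h4] at h6

/-- the permutations agreeing on `O` with an element of `R` -/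
def agree (R : Subgroup (Perm ι)) (O : ι → Prop) (h : ∀ π ∈ R, ∀ i, O i → O (π i)) :
    Subgroup (Perm ι) where
  carrier := {σ | ∃ ρ ∈ R, ∀ i, O i → σ i = ρ i}
  one_mem' := ⟨1, R.one_mem, fun _ _ => rfl⟩
  mul_mem' := by
    rintro σ σ' ⟨ρ, h1, h2⟩ ⟨ρ', h3, h4⟩
    exact ⟨_, R.mul_mem h1 h3, fun i hi => by
      rw [Perm.mul_apply, h4 i hi, h2 _ (h _ h3 i hi), Perm.mul_apply]⟩
  inv_mem' := by
    rintro σ ⟨ρ, h1, h2⟩
    exact ⟨_, R.inv_mem h1, fun i hi => by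
      rw [Perm.inv_eq_iff_eq, h2 _ (h _ (R.inv_mem h1) i hi)]; simp⟩

omit [Fintype ι] [DecidableEq ι] in
theorem agree_pow {O : ι → Prop} {h : ∀ π ∈ R, ∀ i, O i → O (π i)} {σ : Perm ι}
    (hσ : σ ∈ agree R O h) {i : ι} (hi : O i) : (σ ^ Nat.card R) i = i := by
  obtain ⟨ρ, h1, h2⟩ := hσ
  have h3 : ∀ n : ℕ, (σ ^ n) i = (ρ ^ n) i := fun n => by
    induction n with
    | zero => rfl
    | succ n ih =>
      rw [pow_succ', Perm.mul_apply, ih, h2 _ (h _ (R.pow_mem h1 n) i hi), pow_succ', Perm.mul_apply]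
  rw [h3, show ρ ^ Nat.card R = 1 from congrArg Subtype.val (pow_card_eq_one' (x := (⟨ρ, h1⟩ : R)))]
  rfl

theorem exists_restrict {p : ℕ} [Fact p.Prime] (hR : SylIn p R ⊤) {O : ι → Prop}
    (h : ∀ π ∈ R, ∀ i, O (π i) ↔ O i) {π : Perm ι} (hπ : π ∈ R) :
    ∃ ρ ∈ R, (∀ i, O i → ρ i = π i) ∧ ∀ i, ¬ O i → ρ i = i := by
  classical
  have h1 := hR.eq_of_le (U := agree R O (fun π hπ i => (h π hπ i).2) ⊓
    agree R (fun i => ¬ O i) fun π hπ i => mt (h π hπ i).1) le_top (fun σ => ?_)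
    fun σ hσ => ⟨⟨σ, hσ, fun _ _ => rfl⟩, σ, hσ, fun _ _ => rfl⟩
  · have h2 := fun i hi => ofSubtype_subtypePerm_of_mem (h π hπ) (a := i) hi
    have h3 := fun i hi => ofSubtype_subtypePerm_of_not_mem (h π hπ) (a := i) hi
    exact ⟨_, h1.le ⟨⟨π, hπ, h2⟩, 1, R.one_mem, h3⟩, h2, h3⟩
  · obtain ⟨k, hk⟩ := IsPGroup.iff_card.1 hR.isPGroup
    refine ⟨k, Subtype.ext (Equiv.ext fun i => ?_)⟩
    rw [← hk]
    by_cases hi : O i
    · exact agree_pow σ.2.1 hi
    · exact agree_pow σ.2.2 hi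

variable (β R) in
/-- the elements fixing the blocks in `O` pointwise -/
def fx (O : ι → Prop) : Subgroup (Perm (ι × ZMod 2 ⊕ β)) where
  carrier := {x | x ∈ SS 2 β R ⊓ alternatingGroup _ ∧ ∀ i m, O i → x (inl (i, m)) = inl (i, m)}
  one_mem' := ⟨Subgroup.one_mem _, fun _ _ _ => rfl⟩
  mul_mem' := fun h h' => ⟨Subgroup.mul_mem _ h.1 h'.1, fun i m hi => by
    rw [Perm.mul_apply, h'.2 i m hi, h.2 i m hi]⟩
  inv_mem' := fun h => ⟨Subgroup.inv_mem _ h.1, fun i m hi => by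
    rw [Perm.inv_eq_iff_eq, h.2 i m hi]⟩

theorem mem_fx {O : ι → Prop} {π : Perm ι} {b : ι → ZMod 2} (hπ : π ∈ R) :
    ff 2 β π * ee β b ∈ fx β R O ↔ ∑ i, b i = 0 ∧ ∀ i, O i → π i = i ∧ b i = 0 := by
  refine and_congr (mem_T hπ) (forall_congr' fun i => ⟨fun h hi => ?_, fun h m hi => ?_⟩)
  · simpa [← ww_eq_mul, ww_inl] using h 0 hi
  · simp [← ww_eq_mul, ww_inl, h hi]

theorem dec_of_odd (hR : SylIn 2 R ⊤) (h1 : ¬ 2 ∣ Fintype.card ι) (h3 : 3 ≤ Fintype.card ι)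
    (h2 : ∀ s, Fintype.card ι ≠ 2 ^ s + 1) : Dec (SS 2 β R ⊓ alternatingGroup _) := by
  classical
  obtain ⟨o, ho⟩ := hR.isPGroup.nonempty_fixed_point_of_prime_not_dvd_card ι (by simpa using h1)
  replace ho : ∀ π ∈ R, π o = o := fun π hπ => ho ⟨π, hπ⟩
  obtain ⟨j, hj⟩ := Fintype.exists_ne_of_one_lt_card (by omega) o
  set O := MulAction.orbit R j
  have hO : ∀ π ∈ R, ∀ i, π i ∈ O ↔ i ∈ O := fun π hπ i =>
    ⟨fun h => inv_smul_smul (⟨π, hπ⟩ : R) i ▸ MulAction.mapsTo_smul_orbit (⟨π, hπ⟩ : R)⁻¹ j h,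
      fun h => MulAction.mapsTo_smul_orbit (⟨π, hπ⟩ : R) j h⟩
  have hoO : o ∉ O := fun ⟨π, h⟩ => hj (π.1.injective (h.trans (ho _ π.2).symm))
  obtain ⟨s, hs⟩ := hR.isPGroup.card_orbit j
  obtain ⟨j', hj'⟩ := exists_out (s := insert o O.toFinset) (lt_of_le_of_ne (Finset.card_le_univ _)
    (by rw [Finset.card_insert_of_notMem (by simpa using hoO), Set.toFinset_card,
      ← Nat.card_eq_fintype_card, hs]; exact (h2 s).symm))
  simp only [Finset.mem_insert, Set.mem_toFinset, not_or] at hj'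
  have hjO : j ∈ O := MulAction.mem_orbit_self j
  have hne : ∀ (P : ι → Prop) (u : ι), u ≠ o → (∀ i, P i → i ≠ u ∧ i ≠ o) → fx β R P ≠ ⊥ :=
    fun P u hu hP e => by
      have h4 := (mem_fx (β := β) (O := P) (b := Pi.single u 1 + Pi.single o 1) R.one_mem).2
        ⟨ee_mem_T.1 (pair_mem (β := β) (R := R) u o), fun i hi => by simp [hP i hi]⟩
      rw [e, map_one, one_mul] at h4
      simpa [hu] using congrFun (ee_inj ((Subgroup.mem_bot.1 h4).trans ee_zero.symm)) u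
  refine ⟨fx β R fun i => i ∉ O ∧ i ≠ o, fx β R (· ∈ O),
    hne _ j hj fun i hi => ⟨fun e => hi.1 (e ▸ hjO), hi.2⟩,
    hne _ j' hj'.1 fun i hi => ⟨fun e => hj'.2 (e ▸ hi), fun e => hoO (e ▸ hi)⟩,
    fun _ h => h.1, fun _ h => h.1, fun x hx y hy => ?_, eq_bot_iff.2 fun x hx => ?_,
    le_antisymm (sup_le (fun _ h => h.1) fun _ h => h.1) fun x hx => ?_⟩
  · obtain ⟨π, hπ, b, rfl⟩ := hx.1.1
    obtain ⟨π', hπ', b', rfl⟩ := hy.1.1
    rw [mem_fx hπ] at hx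
    rw [mem_fx hπ'] at hy
    have h4 : ∀ i, π (π' i) = π' (π i) ∧ b' i + b (π' i) = b i + b' (π i) := fun i => by
      by_cases hi : i ∈ O
      · simp [hy.2 i hi, hy.2 _ ((hO π hπ i).2 hi)]
      by_cases hi' : i = o
      · simp [hi', ho π hπ, ho π' hπ', add_comm]
      · simp [hx.2 i ⟨hi, hi'⟩, hx.2 (π' i) ⟨mt (hO π' hπ' i).1 hi, fun e =>
          hi' (π'.injective (e.trans (ho π' hπ').symm))⟩]
    simp only [← ww_eq_mul, ww_mul]
    congr 1
    · exact Equiv.ext fun i => (h4 i).1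
    · ext1 i; simpa using (h4 i).2
  · obtain ⟨π, hπ, b, rfl⟩ := hx.1.1.1
    obtain ⟨hx, hy⟩ := Subgroup.mem_inf.1 hx
    rw [mem_fx hπ] at hx hy
    have h4 : ∀ i, i ≠ o → π i = i ∧ b i = 0 := fun i hi =>
      (em (i ∈ O)).elim (hy.2 i) fun h => hx.2 i ⟨h, hi⟩
    have h5 := hx.1
    rw [Finset.sum_eq_single o (fun i _ hi => (h4 i hi).2) (by simp)] at h5
    rw [show π = 1 from Equiv.ext fun i => (em (i = o)).elim (fun e => e ▸ ho π hπ)
      fun h => (h4 i h).1, show b = 0 from funext fun i => (em (i = o)).elim (fun e => e ▸ h5)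
      fun h => (h4 i h).2, map_one, ee_zero, one_mul]
    exact Subgroup.one_mem _
  · obtain ⟨π, hπ, b, rfl⟩ := hx.1
    obtain ⟨ρ, h4, h5, h6⟩ := exists_restrict hR hO hπ
    set c : ι → ZMod 2 := fun i => if i ∈ O then b i else 0
    have h7 := (mem_fx (β := β) (O := fun i => i ∉ O ∧ i ≠ o) (b := c + Pi.single o (∑ i, c i)) h4).2
      ⟨by simp [Finset.sum_add_distrib, CharTwo.add_self_eq_zero], fun i hi => by
        simp [c, hi, h6 i hi.1]⟩
    rw [← mul_inv_cancel_left (ff 2 β ρ * ee β (c + Pi.single o (∑ i, c i))) (ff 2 β π * ee β b)]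
    refine Subgroup.mul_mem_sup h7 ⟨Subgroup.mul_mem _ (Subgroup.inv_mem _ h7.1) hx, fun i m hi => ?_⟩
    rw [Perm.mul_apply, Perm.inv_eq_iff_eq]
    simp [← ww_eq_mul, ww_inl, h5 i hi, c, hi, show i ≠ o from fun e => hoO (e ▸ hi)]

theorem dec_iff {α : Type} [Fintype α] [DecidableEq α] (hβ : Fintype.card β < 2) (hR : SylIn 2 R ⊤)
    (hc : Fintype.card α = Fintype.card ι * 2 + Fintype.card β) (P : Sylow 2 (alternatingGroup α)) :
    Dec (P : Subgroup (alternatingGroup α)) ↔ Dec (SS 2 β R ⊓ alternatingGroup _) := by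
  obtain ⟨e⟩ := Fintype.card_eq.1 (show Fintype.card α = Fintype.card (ι × ZMod 2 ⊕ β) by simp [hc])
  have h1 := (sylIn_top P).map ((alternatingGroup _).subtype.comp e.altCongrHom.toMonoidHom)
  rw [← Subgroup.map_map, ← Subgroup.map_map, ← MonoidHom.range_eq_map,
    MonoidHom.range_eq_top.2 e.altCongrHom.surjective, ← MonoidHom.range_eq_map,
    Subgroup.range_subtype] at h1
  obtain ⟨g, -, hg⟩ := h1.exists_conj (sylIn_alt hβ hR)
  rw [← hg, dec_map_iff (MulAut.conj g).injective, dec_map_iff Subtype.val_injective,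
    dec_map_iff e.altCongrHom.injective]

theorem dec_two : Dec (SS 2 β (⊤ : Subgroup (Perm (Fin 2))) ⊓ alternatingGroup _) := by
  have h2 : ∀ b : Fin 2 → ZMod 2, ∑ i, b i = 0 → b = 0 ∨ b = 1 := by decide
  have h3 : ∀ x ∈ EE 2 (Fin 2) β ⊓ alternatingGroup _, x = 1 ∨ x = ee β 1 := by
    rintro _ ⟨⟨b, rfl⟩, hb⟩
    exact (h2 b (ee_mem_T.1 ⟨EE_le_SS ⊤ (ee_mem b), hb⟩)).imp
      (fun e => (congrArg _ e).trans ee_zero) (congrArg _)
  refine ⟨EE 2 _ β ⊓ alternatingGroup _, (ff 2 β).range, fun e => ?_, fun e => ?_,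
    inf_le_inf_right _ (EE_le_SS _), ?_, fun x hx y hy => ?_, eq_bot_iff.2 ?_,
    le_antisymm (sup_le (inf_le_inf_right _ (EE_le_SS _)) ?_) ?_⟩
  · have h4 : ee β (1 : Fin 2 → ZMod 2) ∈ (⊥ : Subgroup _) :=
      e ▸ Subgroup.mem_inf.2 ⟨ee_mem _, ((ee_mem_T (R := ⊤)).2 (by decide)).2⟩
    exact absurd (ee_inj ((Subgroup.mem_bot.1 h4).trans ee_zero.symm)) (by decide)
  · have h4 : ff 2 β (swap (0 : Fin 2) 1) ∈ (⊥ : Subgroup _) := e ▸ MonoidHom.mem_range.2 ⟨_, rfl⟩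
    exact absurd (ww_inj ((Subgroup.mem_bot.1 h4).trans ww_one.symm)).1 (by decide)
  · rintro _ ⟨π, rfl⟩; exact ff_mem_T trivial
  · obtain ⟨π, rfl⟩ := hy
    rcases h3 x hx with rfl | rfl
    · rw [one_mul, mul_one]
    · rw [eq_comm, ← mul_inv_eq_iff_eq_mul, ff_apply, conj_ee]; simp [Pi.one_def]
  · rintro _ ⟨⟨⟨b, rfl⟩, -⟩, π, e⟩
    rw [show b = 0 from (ww_inj e).2.2.symm, ee_zero]; exact Subgroup.one_mem _
  · rintro _ ⟨π, rfl⟩; exact ff_mem_T trivial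
  · rintro _ h
    obtain ⟨π, hπ, b, rfl⟩ := h.1
    rw [sup_comm]
    exact Subgroup.mul_mem_sup ⟨π, rfl⟩ ⟨ee_mem b, ((ee_mem_T (R := ⊤)).2 ((mem_T hπ).1 h)).2⟩

end Cfsg.Agent.H98.AltD
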