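import Cfsg.Agent.H98.HallSym3
import Cfsg.Agent.H98.WeakSyl
import Cfsg.Agent.S0713

/-! Derangements of prime order in primitive actions of alternating and symmetric groups. -/

set_option autoImplicit false

namespace Cfsg.Agent.H98.AltDer

open Equiv Equiv.Perm Subgroup Cfsg.Agent.H78 Cfsg.Agent.H98.HallS MulAction
open scoped Pointwise

variable {Ω : Type*} [Fintype Ω] [DecidableEq Ω]

theorem exists_replicate {r c : ℕ} (hr : r.Prime) (hc : 1 ≤ c) (hle : r * c ≤ Fintype.card Ω) :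
    ∃ g : Perm Ω, orderOf g = r ∧ g.support.card = r * c ∧ sign g = (-1) ^ ((r + 1) * c) := by
  obtain ⟨g, hg⟩ := (exists_with_cycleType_iff Ω (m := Multiset.replicate c r)).2
    ⟨by simpa [mul_comm] using hle, fun a ha => (Multiset.eq_of_mem_replicate ha) ▸ hr.two_le⟩
  refine ⟨g, ?_, ?_, ?_⟩
  · rw [← lcm_cycleType, hg]
    obtain ⟨c, rfl⟩ : ∃ d, c = d + 1 := ⟨c - 1, by omega⟩
    refine Nat.dvd_antisymm (Multiset.lcm_dvd.2 fun a ha => by
      rw [Multiset.eq_of_mem_replicate ha]) (Multiset.dvd_lcm (by simp))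
  · rw [← sum_cycleType, hg]; simp [mul_comm]
  · rw [sign_of_cycleType, hg]
    congr 1
    simp; ring

theorem card_modEq {r : ℕ} (hr : r.Prime) {g : Perm Ω} (hg : g ^ r = 1) {B : Finset Ω}
    (hB : g ∈ setStab B) : ∃ f, f ≤ Fintype.card Ω - g.support.card ∧ f ≡ B.card [MOD r] := by
  haveI : Fact r.Prime := ⟨hr⟩
  have h1 := card_compl_support_modEq (p := r) (n := 1) (σ := g.subtypePerm (mem_setStab.1 hB))
    (by rw [pow_one, subtypePerm_pow]; ext x; simp [hg])
  rw [Fintype.card_coe] at h1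
  refine ⟨_, ?_, h1⟩
  rw [← Finset.card_compl]
  refine Finset.card_le_card_of_injOn (fun x => x.1) (fun x hx => ?_) Subtype.val_injective.injOn
  simp only [Finset.coe_compl, Set.mem_compl_iff, Finset.mem_coe, mem_support, not_not] at hx ⊢
  exact congrArg Subtype.val hx

theorem prim_of_cycle {H : Subgroup (Perm Ω)} (htr : IsPretransitive H Ω) {d : Perm Ω}
    (hd : d ∈ H) (hc : d.IsCycle) (hp : d.support.card.Prime)
    (hn : Fintype.card Ω < 2 * d.support.card) : IsPreprimitive H Ω := by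
  refine { isTrivialBlock_of_isBlock := fun {B} hB => ?_ }
  by_cases hs : B.Subsingleton
  · exact Or.inl hs
  right
  obtain ⟨x, hx, y, hy, hxy⟩ := Set.not_subsingleton_iff.1 hs
  obtain ⟨w, hw⟩ := hc.nonempty_support
  obtain ⟨h, hh⟩ := htr.exists_smul_eq w x
  have hxe : x ∈ (h.1 * d * h.1⁻¹).support := by rw [← hh]; exact mem_support_conj.2 hw
  have heH : h.1 * d * h.1⁻¹ ∈ H := H.mul_mem (H.mul_mem h.2 hd) (H.inv_mem h.2)
  have hec : (h.1 * d * h.1⁻¹).IsCycle := hc.conj
  have hes : (h.1 * d * h.1⁻¹).support.card = d.support.card := card_support_conj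
  generalize h.1 * d * h.1⁻¹ = e at hxe heH hec hes
  obtain ⟨c, hcH, hcc, hcs, z, hz, hz'⟩ : ∃ c ∈ H, c.IsCycle ∧ c.support = e.support ∧
      ∃ z ∈ B, c z ∈ B := by
    by_cases hye : y ∈ e.support
    · obtain ⟨i, hi⟩ := hec.exists_pow_eq (mem_support.1 hxe) (mem_support.1 hye)
      have hnd : ¬ orderOf e ∣ i := by
        rw [orderOf_dvd_iff_pow_eq_one]
        intro h0
        rw [h0] at hi
        exact hxy hi
      refine ⟨e ^ i, H.pow_mem heH i, hec.pow_iff.2 ?_, hec.support_pow_eq_iff.2 hnd, x, hx,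
        by rwa [hi]⟩
      rw [hec.orderOf, hes] at hnd ⊢
      exact ((Nat.Prime.coprime_iff_not_dvd hp).2 hnd).symm
    · exact ⟨e, heH, hec, rfl, y, hy, by rwa [notMem_support.1 hye]⟩
  have h1 := hB.smul_eq_of_mem (g := ⟨c, hcH⟩) hz hz'
  have h2 := supp_sub_of_closed hcc (P := fun u => u ∈ B) (hcs ▸ hxe) hx fun u _ hu => by
    rw [← h1]; exact Set.smul_mem_smul_set (a := (⟨c, hcH⟩ : H)) hu
  refine hB.eq_univ_of_card_lt ?_
  have h3 : (c.support : Set Ω).ncard ≤ B.ncard := Set.ncard_le_ncard h2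
  rw [Set.ncard_coe_finset, hcs, hes] at h3
  rw [Nat.card_eq_fintype_card]
  omega

theorem relIndex_eq_index {K : Subgroup (Perm Ω)} {a b : Ω} (hab : a ≠ b)
    (hK : swap a b ∈ K) : K.relIndex (alternatingGroup Ω) = K.index := by
  haveI : Nontrivial Ω := ⟨a, b, hab⟩
  have h1 := relIndex_mul_index (H := K ⊓ alternatingGroup Ω) (K := K) inf_le_left
  have h2 := relIndex_mul_index (H := K ⊓ alternatingGroup Ω) (K := alternatingGroup Ω) inf_le_right
  rw [inf_relIndex_left] at h1
  rw [inf_relIndex_right, alternatingGroup.index_eq_two] at h2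
  have h3 : (alternatingGroup Ω).relIndex K ∣ 2 :=
    alternatingGroup.index_eq_two (α := Ω) ▸ relIndex_dvd_index_of_normal _ _
  have h4 : (alternatingGroup Ω).relIndex K ≠ 1 := by
    rw [ne_eq, relIndex_eq_one]
    intro h
    have := mem_alternatingGroup.1 (h hK)
    rw [sign_swap hab] at this
    exact absurd this (by decide)
  rcases (Nat.dvd_prime Nat.prime_two).1 h3 with h5 | h5
  · exact absurd h5 h4
  · rw [h5] at h1
    omega

theorem of_not_dvd_card {H : Subgroup (Perm Ω)} {r : ℕ} (hr : r.Prime)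
    (hrd : r ∣ H.relIndex (alternatingGroup Ω)) (h : ¬ r ∣ Nat.card H) :
    ∃ g ∈ alternatingGroup Ω, orderOf g = r ∧ ∀ x : Perm Ω, x * g * x⁻¹ ∉ H := by
  haveI : Fact r.Prime := ⟨hr⟩
  obtain ⟨g, hg⟩ := exists_prime_orderOf_dvd_card' r (hrd.trans (relIndex_dvd_card _ _))
  rw [← orderOf_coe] at hg
  refine ⟨g, g.2, hg, fun x hx => h ?_⟩
  have := orderOf_dvd_natCard H hx
  rwa [← MulAut.conj_apply, MulEquiv.orderOf_eq, hg] at this

theorem sq_dvd {H : Subgroup (Perm Ω)} {r : ℕ} (hr : r.Prime) (hr2 : r ≠ 2)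
    (hrd : r ∣ H.relIndex (alternatingGroup Ω)) (h : r ∣ Nat.card H) :
    2 * r ≤ Fintype.card Ω := by
  have h1 : r ∣ Nat.card (H.subgroupOf (alternatingGroup Ω)) := by
    rw [← card_map_of_injective (subtype_injective _), subgroupOf_map_subtype, inf_comm,
      ← subgroupOf_map_subtype, card_map_of_injective (subtype_injective _)]
    rw [← ((alternatingGroup Ω).subgroupOf H).index_mul_card] at h
    refine (hr.dvd_mul.1 h).resolve_left fun h2 => hr2 ?_
    have h3 : (alternatingGroup Ω).index ∣ 2 := by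
      rw [alternatingGroup, index_ker]
      exact (card_subgroup_dvd_card _).trans (by simp)
    exact (Nat.prime_dvd_prime_iff_eq hr Nat.prime_two).1
      (h2.trans ((relIndex_dvd_index_of_normal _ _).trans h3))
  have h2 : r ^ 2 ∣ (Fintype.card Ω).factorial := by
    refine dvd_trans ?_ card_alt_dvd
    rw [← (H.subgroupOf (alternatingGroup Ω)).index_mul_card, pow_two]
    exact Nat.mul_dvd_mul hrd h1
  by_contra hlt
  have h3 := hr.two_le
  rcases Nat.eq_zero_or_pos (Fintype.card Ω) with h0 | h0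
  · rw [h0, Nat.factorial_zero, Nat.dvd_one] at h2
    nlinarith
  rw [hr.pow_dvd_factorial_iff (b := 2) (Nat.log_lt_of_lt_pow h0.ne' (by nlinarith))] at h2
  simp only [Nat.Ico_succ_singleton, Finset.sum_singleton, pow_one] at h2
  rw [Nat.le_div_iff_mul_le hr.pos] at h2
  omega

theorem core (hn : 5 ≤ Fintype.card Ω) {H L : Subgroup (Perm Ω)} (hAL : alternatingGroup Ω ≤ L)
    (hHL : H ≤ L) (hmax : ∀ K, H ≤ K → K ≤ L → K = H ∨ K = L) (hHA : ¬ alternatingGroup Ω ≤ H)
    {r : ℕ} (hr : r.Prime) (hrd : r ∣ H.relIndex (alternatingGroup Ω))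
    (hmx : ∀ s : ℕ, s.Prime → s ∣ H.relIndex (alternatingGroup Ω) → s ≤ r) :
    ∃ g ∈ alternatingGroup Ω, orderOf g = r ∧ ∀ x : Perm Ω, x * g * x⁻¹ ∉ H := by
  classical
  by_cases hrH : r ∣ Nat.card H
  swap
  · exact of_not_dvd_card hr hrd hrH
  have hrn := le_of_prime_dvd_card hr hrH
  by_cases htr : IsPretransitive H Ω
  swap
  · obtain ⟨B, hB1, hB2, hHB⟩ : ∃ B : Finset Ω, 1 ≤ B.card ∧ 2 * B.card ≤ Fintype.card Ω ∧
        H ≤ setStab B := by
      obtain ⟨a, b, hab⟩ : ∃ a b, ∀ h ∈ H, h a ≠ b := by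
        by_contra hc
        push Not at hc
        exact htr ⟨fun a b => by obtain ⟨h, hh, e⟩ := hc a b; exact ⟨⟨h, hh⟩, e⟩⟩
      set B : Finset Ω := Finset.univ.filter fun y => ∃ h ∈ H, h a = y with hB
      have h1 : H ≤ setStab B := le_setStab fun g hg y hy => by
        simp only [hB, Finset.mem_filter, Finset.mem_univ, true_and] at hy ⊢
        obtain ⟨h, hh, rfl⟩ := hy
        exact ⟨g * h, H.mul_mem hg hh, rfl⟩
      by_cases h2 : 2 * B.card ≤ Fintype.card Ω
      · exact ⟨B, Finset.card_pos.2 ⟨a, Finset.mem_filter.2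
          ⟨Finset.mem_univ _, 1, H.one_mem, rfl⟩⟩, h2, h1⟩
      · refine ⟨Bᶜ, Finset.card_pos.2 ⟨b, by simpa [hB] using hab⟩,
          by rw [Finset.card_compl]; omega, fun g hg y => ?_⟩
        rw [Finset.mem_compl, Finset.mem_compl, h1 hg y]
    obtain ⟨x, hx⟩ := Finset.card_pos.1 hB1
    obtain ⟨y, hy, z, hz, hyz⟩ := Finset.one_lt_card.1
      (show 1 < Bᶜ.card by rw [Finset.card_compl]; omega)
    have hsw : swap y z ∈ setStab B := fun u => by
      have := swap_mem_setStab hy hz u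
      rw [Finset.mem_compl, Finset.mem_compl] at this
      exact not_iff_not.1 this
    rw [Finset.mem_compl] at hy hz
    have hH : setStab B ⊓ L = H := by
      refine (hmax _ (le_inf hHB hHL) inf_le_right).resolve_right fun h => ?_
      have hxy : x ≠ y := fun e => hy (e ▸ hx)
      have hxz : x ≠ z := fun e => hz (e ▸ hx)
      have := (h.ge (hAL (mem_alternatingGroup.2 (sign_c3 hxy hyz)))).1 x
      rw [c3_apply_fst hxy hxz] at this
      exact hy (this.2 hx)
    have hN : H.relIndex (alternatingGroup Ω) = (Fintype.card Ω).choose B.card := by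
      rw [← index_setStab, ← relIndex_eq_index hyz hsw, ← hH, ← inf_relIndex_right, inf_assoc,
        inf_eq_right.2 hAL, inf_relIndex_right]
    rw [hN] at hrd hmx
    have h1 := WeakSyl.mod_lt_mod hB2 hr hrd hmx
    obtain ⟨g, hg1, hg2, hg3⟩ := exists_replicate (Ω := Ω) (c := Fintype.card Ω / r) hr
      ((Nat.le_div_iff_mul_le hr.pos).2 (by omega)) (Nat.mul_div_le _ _)
    refine ⟨g, ?_, hg1, fun x hx => ?_⟩
    · rw [mem_alternatingGroup, hg3]
      refine Even.neg_one_pow ?_
      rcases hr.eq_two_or_odd' with rfl | h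
      · obtain ⟨m, hm⟩ := WeakSyl.four_dvd hn hB2 hrd hmx
        exact Even.mul_left ⟨m, by omega⟩ _
      · exact h.add_one.mul_right _
    · obtain ⟨f, hf1, hf2⟩ := card_modEq hr (g := x * g * x⁻¹)
        (by rw [conj_pow, ← hg1, pow_orderOf_eq_one]; simp) (hHB hx)
      rw [card_support_conj, hg2] at hf1
      have h2 := Nat.div_add_mod (Fintype.card Ω) r
      have h3 := Nat.mod_lt B.card hr.pos
      rw [Nat.ModEq, Nat.mod_eq_of_lt (by omega)] at hf2
      omega
  by_cases hprim : IsPreprimitive H Ω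
  swap
  · exfalso
    have key : ∀ p : ℕ, p.Prime → Fintype.card Ω < 2 * p → ¬ p ∣ Nat.card H := by
      intro p hp hlt hd
      haveI : Fact p.Prime := ⟨hp⟩
      obtain ⟨g, hg⟩ := exists_prime_orderOf_dvd_card' p hd
      rw [← orderOf_coe] at hg
      have h1 : (g : Perm Ω).IsCycle := isCycle_of_prime_order' (hg ▸ hp) (by omega)
      have h2 := h1.orderOf
      exact hprim (prim_of_cycle htr g.2 h1 (by rwa [← h2, hg]) (by omega))
    obtain ⟨p, hp, h1, h2⟩ := Nat.exists_prime_lt_and_le_two_mul (Fintype.card Ω / 2) (by omega)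
    have h3 := prime_dvd_card_alt (Ω := Ω) (by omega) hp (by omega)
    rw [← (H.subgroupOf (alternatingGroup Ω)).index_mul_card] at h3
    have h4 := hmx p hp ((hp.dvd_mul.1 h3).resolve_right fun h => key p hp (by omega) (h.trans (by
      rw [← card_map_of_injective (subtype_injective _), subgroupOf_map_subtype]
      exact card_dvd_of_le inf_le_left)))
    exact key r hr (by omega) hrH
  by_cases hr2 : r = 2
  · exfalso
    obtain ⟨d, hd, -, -, hcard⟩ := exists_cycle_mem (H := H) (S := Finset.univ)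
      (le_setStab fun _ _ _ _ => Finset.mem_univ _) (k := 1) Nat.prime_three (by norm_num) le_rfl
      (fun h => by have := hmx 3 Nat.prime_three h; omega) (by rw [Finset.card_univ]; omega)
    exact hHA (alternatingGroup_le_of_isPreprimitive_of_isThreeCycle_mem hprim
      (card_support_eq_three_iff.1 hcard) hd)
  have h1 := sq_dvd hr hr2 hrd hrH
  have h2 := hr.two_le
  obtain ⟨T, -, hT⟩ := Finset.exists_subset_card_eq (s := Finset.univ (α := Ω)) (n := r)
    (by rwa [Finset.card_univ])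
  obtain ⟨c, hc, hs⟩ := exists_cycle_supp T (by omega)
  refine ⟨c, ?_, by rw [hc.orderOf, hs, hT], fun x hx => hHA ?_⟩
  · rw [mem_alternatingGroup, hc.sign, hs, hT, (hr.odd_of_ne_two hr2).neg_one_pow, neg_neg]
  · exact S0713.result H hprim hr hn (by omega) hc.conj (by rw [card_support_conj, hs, hT]) hx

theorem core_six (hn : Fintype.card Ω = 6) {H : Subgroup (Perm Ω)} (hHA : ¬ alternatingGroup Ω ≤ H)
    {r : ℕ} (hr : r.Prime) (hrd : r ∣ H.relIndex (alternatingGroup Ω))
    (hmx : ∀ s : ℕ, s.Prime → s ∣ H.relIndex (alternatingGroup Ω) → s ≤ r) :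
    ∃ g ∈ alternatingGroup Ω, orderOf g = r ∧ ∀ x : Perm Ω, x * g * x⁻¹ ∉ H := by
  by_cases hrH : r ∣ Nat.card H
  swap
  · exact of_not_dvd_card hr hrd hrH
  have hr3 : r ≤ 3 := by
    by_cases hr2 : r = 2
    · omega
    · have := sq_dvd hr hr2 hrd hrH
      omega
  obtain ⟨d, hd, hdc, -, hcard⟩ := exists_cycle_mem (H := H) (S := Finset.univ)
    (le_setStab fun _ _ _ _ => Finset.mem_univ _) (p := 5) (k := 1) (by norm_num) (by norm_num)
    le_rfl (fun h => by have := hmx 5 (by norm_num) h; omega) (by rw [Finset.card_univ]; omega)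
  rw [pow_one] at hcard
  obtain ⟨a, ha1, ha2, ha3⟩ := exists_replicate (Ω := Ω) (c := 1) Nat.prime_three le_rfl (by omega)
  obtain ⟨b, hb1, hb2, hb3⟩ := exists_replicate (Ω := Ω) (c := 2) Nat.prime_three (by omega)
    (by omega)
  have haA : a ∈ alternatingGroup Ω := mem_alternatingGroup.2 (by rw [ha3]; decide)
  have hbA : b ∈ alternatingGroup Ω := mem_alternatingGroup.2 (by rw [hb3]; decide)
  have key : ∀ x y : Perm Ω, x * a * x⁻¹ ∈ H → y * b * y⁻¹ ∈ H → False := by
    intro x y hx hy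
    have h1 : (y * b * y⁻¹).support = Finset.univ :=
      Finset.eq_univ_of_card _ (by rw [card_support_conj, hb2, hn])
    generalize y * b * y⁻¹ = e at hy h1
    obtain ⟨w, hw⟩ := hdc.nonempty_support
    have h2 : ∀ u, ∃ h : H, h • w = u := by
      have h3 : ∀ u ∈ d.support, ∃ h : H, h • w = u := fun u hu => by
        obtain ⟨i, hi⟩ := hdc.exists_pow_eq (mem_support.1 hw) (mem_support.1 hu)
        exact ⟨⟨d ^ i, H.pow_mem hd i⟩, hi⟩
      intro u
      by_cases hu : u ∈ d.support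
      · exact h3 u hu
      · have h4 : e u ∈ d.support := by
          by_contra h4
          have h5 : d.supportᶜ.card ≤ 1 := by rw [Finset.card_compl]; omega
          exact mem_support.1 (h1 ▸ Finset.mem_univ u) (Finset.card_le_one.1 h5 _
            (Finset.mem_compl.2 h4) _ (Finset.mem_compl.2 hu))
        obtain ⟨h, hh⟩ := h3 _ h4
        exact ⟨(⟨e, hy⟩ : H)⁻¹ * h, by rw [mul_smul, hh, inv_smul_eq_iff]; rfl⟩
    have htr : IsPretransitive H Ω := ⟨fun u v => by
      obtain ⟨h, rfl⟩ := h2 u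
      obtain ⟨k, rfl⟩ := h2 v
      exact ⟨k * h⁻¹, by rw [mul_smul, inv_smul_smul]⟩⟩
    exact hHA (alternatingGroup_le_of_isPreprimitive_of_isThreeCycle_mem
      (prim_of_cycle htr hd hdc (by rw [hcard]; norm_num) (by omega))
      (card_support_eq_three_iff.1 (by rw [card_support_conj, ha2])) hx)
  by_cases h3 : 3 ∣ H.relIndex (alternatingGroup Ω)
  · obtain rfl : r = 3 := le_antisymm hr3 (hmx 3 Nat.prime_three h3)
    by_cases h : ∃ x : Perm Ω, x * a * x⁻¹ ∈ H
    · obtain ⟨x, hx⟩ := h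
      exact ⟨b, hbA, hb1, fun y hy => key x y hx hy⟩
    · push Not at h
      exact ⟨a, haA, ha1, h⟩
  · obtain ⟨x, -, hx⟩ := conj_into_elt (k := 1) Nat.prime_three h3 haA (by rw [ha1, pow_one])
    obtain ⟨y, -, hy⟩ := conj_into_elt (k := 1) Nat.prime_three h3 hbA (by rw [hb1, pow_one])
    exact (key x y hx hy).elim

end Cfsg.Agent.H98.AltDer
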