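import Cfsg.Agent.H78.AltOn
import Cfsg.Agent.H98.SylIn
import Cfsg.Agent.H52.Quasisimple

/-!
The subgroups `Alt(s)` of an alternating group.
-/

set_option autoImplicit false

namespace Cfsg.Agent.H98.AltI

open Cfsg Equiv Equiv.Perm H78
open scoped Pointwise

variable {α : Type*} [Fintype α] [DecidableEq α] {s t : Finset α}

/-- the even permutations supported in `s` -/
abbrev AA (s : Finset α) : Subgroup (alternatingGroup α) := (alternatingGroup.ofSubtype s).range

theorem mem_AA {k : alternatingGroup α} : k ∈ AA s ↔ ∀ x ∉ s, k.1 x = x := by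
  rw [alternatingGroup.mem_range_ofSubtype_iff]
  exact forall_congr' fun x => by rw [mem_support, not_imp_comm]

theorem map_conj_AA (s : Finset α) (g : alternatingGroup α) :
    (AA s).map (MulAut.conj g).toMonoidHom = AA (g • s) :=
  alternatingGroup.conj_smul_range_ofSubtype s g

theorem c3_mem_AA {a b c : α} (ha : a ∈ s) (hb : b ∈ s) (hc : c ∈ s) (hab : a ≠ b) (hbc : b ≠ c) :
    (⟨c3 a b c, sign_c3 hab hbc⟩ : alternatingGroup α) ∈ AA s :=
  mem_AA.2 (c3_mem_altOn ha hb hc hab hbc).1

theorem exists_mem_notMem {s u : Finset α} (h : u.card < s.card) : ∃ x ∈ s, x ∉ u :=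
  Finset.exists_mem_notMem_of_card_lt_card h

theorem subset_of_AA_le (h3 : 3 ≤ s.card) (h : AA s ≤ AA t) : s ⊆ t := fun a ha => by
  obtain ⟨b, hb, h1⟩ := exists_mem_notMem (s := s) (u := {a}) (by simp; omega)
  obtain ⟨c, hc, h2⟩ := exists_mem_notMem (s := s) (u := {a, b}) (Finset.card_le_two.trans_lt h3)
  simp only [Finset.mem_insert, Finset.mem_singleton, not_or] at h1 h2
  by_contra h4
  exact h1 ((c3_apply_fst (Ne.symm h1) (Ne.symm h2.1)).symm.trans
    (mem_AA.1 (h (c3_mem_AA ha hb hc (Ne.symm h1) (Ne.symm h2.2))) a h4))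

theorem AA_mono (h : s ⊆ t) : AA s ≤ AA t := fun _ hk => mem_AA.2 fun x hx => mem_AA.1 hk x (mt (@h x) hx)

theorem AA_inf (s t : Finset α) : AA s ⊓ AA t = AA (s ∩ t) := by
  ext k
  simp only [Subgroup.mem_inf, mem_AA, Finset.mem_inter, not_and_or, or_imp, forall_and]

theorem mem_normalizer_AA (h3 : 3 ≤ s.card) {g : alternatingGroup α} :
    g ∈ Subgroup.normalizer (AA s : Set (alternatingGroup α)) ↔ g • s = s := by
  rw [← map_conj_eq_iff_mem_normalizer, map_conj_AA]
  exact ⟨fun h => (Finset.eq_of_subset_of_card_le (subset_of_AA_le h3 h.ge)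
    (Finset.card_smul_finset g s).le).symm, congrArg _⟩

theorem centralizer_AA (h4 : 4 ≤ s.card) :
    Subgroup.centralizer (AA s : Set (alternatingGroup α)) = AA sᶜ := by
  ext g
  rw [mem_AA, Subgroup.mem_centralizer_iff]
  refine ⟨fun h a ha => ?_, fun h k hk => Subtype.ext (commute_of_mem_symOn disjoint_compl_right
    (mem_AA.1 hk) h).eq⟩
  rw [Finset.mem_compl, not_not] at ha
  have h1 : ∀ b ∈ s, ∀ c ∈ s, a ≠ b → a ≠ c → b ≠ c → g.1 a = a ∨ g.1 a = b ∨ g.1 a = c :=
    fun b hb c hc h1 h2 h3 => by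
      by_contra h5
      simp only [not_or] at h5
      have h6 := Equiv.congr_fun (congrArg Subtype.val (h _ (c3_mem_AA ha hb hc h1 h3))) a
      simp only [Subgroup.coe_mul, Perm.mul_apply, c3_apply_fst h1 h2,
        c3_apply_of_ne h5.1 h5.2.1 h5.2.2] at h6
      exact h1 (g.1.injective h6)
  obtain ⟨b, hb, h2⟩ := exists_mem_notMem (s := s) (u := {a}) (by simp; omega)
  obtain ⟨c, hc, h3⟩ := exists_mem_notMem (s := s) (u := {a, b})
    (Finset.card_le_two.trans_lt (by omega))
  obtain ⟨d, hd, h5⟩ := exists_mem_notMem (s := s) (u := {a, b, c}) (Finset.card_le_three.trans_lt h4)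
  simp only [Finset.mem_insert, Finset.mem_singleton, not_or] at h2 h3 h5
  have := h1 b hb c hc
  have := h1 b hb d hd
  have := h1 c hc d hd
  grind

theorem card_AA (s : Finset α) : Nat.card (AA s) = Nat.card (alternatingGroup s) :=
  (Nat.card_congr (MonoidHom.ofInjective alternatingGroup.ofSubtype_injective).toEquiv).symm

theorem two_mul_card_AA (h : 2 ≤ s.card) : 2 * Nat.card (AA s) = s.card.factorial := by
  haveI : Nontrivial s := Fintype.one_lt_card_iff_nontrivial.1 (by simp; omega)
  rw [card_AA, two_mul_nat_card_alternatingGroup, Nat.card_perm]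
  simp

theorem odd_card_AA (h : s.card ≤ 3) : Odd (Nat.card (AA s)) := by
  by_cases h1 : 2 ≤ s.card
  · have h2 := two_mul_card_AA h1
    have h3 : s.card = 2 ∨ s.card = 3 := by omega
    rw [Nat.odd_iff]
    generalize Nat.card (AA s) = m at h2
    rcases h3 with h3 | h3 <;> rw [h3] at h2 <;> simp [Nat.factorial] at h2 <;> omega
  · haveI : Subsingleton s := Fintype.card_le_one_iff_subsingleton.1 (by simp; omega)
    rw [card_AA, Nat.card_unique]; exact odd_one

theorem isQuasisimple_AA (h : 5 ≤ s.card) : IsQuasisimple (AA s) := by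
  haveI := alternatingGroup.isSimpleGroup (α := s) (by simpa using h)
  exact H52.IsQuasisimple.of_mulEquiv (H52.isQuasisimple_of_isSimpleGroup (by
    rw [alternatingGroup.isMulCommutative_iff_card_le_three]; simp; omega))
    (MonoidHom.ofInjective alternatingGroup.ofSubtype_injective)

theorem isStandard_AA (h4 : s.card = 4) (h5 : 5 ≤ sᶜ.card) : IsStandardSubgroup (AA sᶜ) := by
  have h1 : Subgroup.centralizer (AA sᶜ : Set (alternatingGroup α)) = AA s := by
    rw [centralizer_AA (by omega), compl_compl]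
  refine ⟨isQuasisimple_AA h5, h1 ▸ ⟨?_, fun g hg => ?_⟩, fun g _ h => ?_, ?_⟩
  · have := two_mul_card_AA (s := s) (by omega)
    rw [h4] at this
    rw [show Nat.card (AA s) = 12 by simp only [Nat.factorial] at this; omega]
    decide
  · rw [map_conj_AA, AA_inf]
    rw [mem_normalizer_AA (by omega)] at hg
    refine odd_card_AA (Nat.le_of_lt_succ (lt_of_lt_of_eq (Finset.card_lt_card ⟨Finset.inter_subset_left,
      fun h => hg ?_⟩) h4))
    exact (Finset.eq_of_subset_of_card_le (h.trans Finset.inter_subset_right)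
      (Finset.card_smul_finset g s).le).symm
  · rw [Subgroup.commutator_comm, Subgroup.commutator_eq_bot_iff_le_centralizer, h1, map_conj_AA] at h
    have h2 := Finset.card_smul_finset g sᶜ
    have := Finset.card_le_card (subset_of_AA_le (by omega) h)
    omega
  · ext g
    rw [h1, mem_normalizer_AA (by omega), mem_normalizer_AA (by omega), ← compl_inj_iff (x := g • s),
      show g • sᶜ = (g • s)ᶜ by ext; simp [← Finset.inv_smul_mem_iff]]

end Cfsg.Agent.H98.AltI
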