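import Cfsg.Agent.H97.BcDefs
import Cfsg.Agent.H95.SatCrit

/-!
# A saturated fusion system with one essential class
-/

set_option autoImplicit false

namespace Cfsg.Agent.H98.Bc

open Cfsg Cfsg.FusionSystem H97 Subgroup

universe u

variable {G : Type*} [Group G] {Q P : Subgroup G} {Γ : Subgroup (MulAut Q)} {f : G → G}

/-- the maps generated by conjugations and a group of automorphisms of `Q` -/
inductive Gen (Q : Subgroup G) (Γ : Subgroup (MulAut Q)) : Subgroup G → (G → G) → Prop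
  | conj (P : Subgroup G) (g : G) : Gen Q Γ P fun x => g * x * g⁻¹
  | aut {β : MulAut Q} : β ∈ Γ → Gen Q Γ Q (ext β)
  | comp {P R : Subgroup G} {f g : G → G} : Gen Q Γ P f → Gen Q Γ R g → (∀ x ∈ P, f x ∈ R) →
      Gen Q Γ P fun x => g (f x)
  | congr {P : Subgroup G} {f g : G → G} : Gen Q Γ P f → (∀ x ∈ P, f x = g x) → Gen Q Γ P g

theorem Gen.homOn (h : Gen Q Γ P f) : HomOn P f := by
  induction h with
  | conj P g => exact homOn_conj P g
  | aut _ => exact homOn_ext _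
  | comp _ _ h a b => exact a.comp b h
  | congr _ h a => exact a.congr h

theorem Gen.injOn (h : Gen Q Γ P f) : Set.InjOn f P := by
  induction h with
  | conj P g => exact fun x _ y _ e => by simpa using e
  | aut _ => exact (ext_injective _).injOn
  | comp _ _ h a b => exact fun x hx y hy e => a hx hy (b (h x hx) (h y hy) e)
  | congr _ h a => exact fun x hx y hy e => a hx hy (by rw [h x hx, h y hy, e])

theorem Gen.inv (h : Gen Q Γ P f) : ∃ g, Gen Q Γ (img P f) g ∧ ∀ x ∈ P, g (f x) = x := by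
  induction h with
  | conj P g => exact ⟨_, .conj _ g⁻¹, fun x _ => by group⟩
  | @aut β hβ => exact ⟨_, (img_ext β).symm ▸ .aut (inv_mem hβ), fun x _ => ext_inv_ext _ x⟩
  | @comp P R f g hf hg h a b =>
    obtain ⟨f', hf', e⟩ := a
    obtain ⟨g', hg', e'⟩ := b
    have m := fun y => (hf.comp hg h).homOn.mem_img (y := y)
    refine ⟨_, (((Gen.conj (img P fun x => g (f x)) 1).comp hg' fun y hy => ?_).comp hf'
      fun y hy => ?_), fun x hx => by simp [e' _ (h x hx), e x hx]⟩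
    · obtain ⟨x, hx, rfl⟩ := (m y).1 hy
      simpa using mem_img_of_mem g (h x hx)
    · obtain ⟨x, hx, rfl⟩ := (m y).1 hy
      simpa [e' _ (h x hx)] using mem_img_of_mem f hx
  | congr _ h a =>
    obtain ⟨g, hg, e⟩ := a
    exact ⟨g, img_congr h ▸ hg, fun x hx => by rw [← h x hx, e x hx]⟩

theorem isFusionPred_gen (Q : Subgroup G) (Γ : Subgroup (MulAut Q)) : IsFusionPred ⊤ (Gen Q Γ) :=
  ⟨Gen.homOn, Gen.congr, fun _ => le_top, fun _ _ _ => mem_top _, Gen.injOn,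
    fun _ _ => .conj _ _, Gen.comp, Gen.inv⟩

variable [Finite G]

theorem onto {s : G} (h : ∀ x ∈ P, s * x * s⁻¹ ∈ Q) (hc : Nat.card Q ≤ Nat.card P) (β : MulAut Q) :
    ∀ q ∈ Q, ∃ x ∈ P, ext β (s * x * s⁻¹) = q := fun q hq => by
  have e : img P (fun x => s * x * s⁻¹) = Q := eq_of_le_of_card_ge (img_le_iff.2 h)
    (hc.trans ((homOn_conj P s).card_img fun x _ y _ e => by simpa using e).ge)
  obtain ⟨x, hx, e'⟩ := (homOn_conj P s).mem_img.1 (e.ge (ext_mem β⁻¹ hq))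
  exact ⟨x, hx, by rw [e', ext_ext_inv]⟩

theorem Gen.key (hT : autInducedBy ⊤ Q ≤ Γ) (h : Gen Q Γ P f) :
    (∃ g, ∀ x ∈ P, f x = g * x * g⁻¹) ∨ ∃ s, (∀ x ∈ P, s * x * s⁻¹ ∈ Q) ∧
      (Nat.card Q ≤ Nat.card P → ∃ s', ∃ β ∈ Γ, ∀ x ∈ P, f x = s' * ext β (s * x * s⁻¹) * s'⁻¹) := by
  induction h with
  | conj P g => exact .inl ⟨g, fun _ _ => rfl⟩
  | aut hβ => exact .inr ⟨1, by simp, fun _ => ⟨1, _, hβ, by simp⟩⟩
  | @comp P R f g hf hg h a b =>
    have hc : Nat.card P ≤ Nat.card R :=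
      (hf.homOn.card_img hf.injOn).ge.trans (card_le_of_le (img_le_iff.2 h))
    beta_reduce
    rcases a with ⟨a, ea⟩ | ⟨s, hs, a⟩ <;> rcases b with ⟨b, eb⟩ | ⟨t, ht, b⟩
    · exact .inl ⟨b * a, fun x hx => by rw [eb _ (h x hx), ea x hx]; group⟩
    · have e : ∀ x ∈ P, t * a * x * (t * a)⁻¹ = t * f x * t⁻¹ := fun x hx => by rw [ea x hx]; group
      refine .inr ⟨t * a, fun x hx => e x hx ▸ ht _ (h x hx), fun k => ?_⟩
      obtain ⟨t', β, hβ, eb⟩ := b (k.trans hc)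
      exact ⟨t', β, hβ, fun x hx => by rw [eb _ (h x hx), e x hx]⟩
    · refine .inr ⟨s, hs, fun k => ?_⟩
      obtain ⟨s', β, hβ, ea⟩ := a k
      exact ⟨b * s', β, hβ, fun x hx => by rw [eb _ (h x hx), ea x hx]; group⟩
    · refine .inr ⟨s, hs, fun k => ?_⟩
      obtain ⟨s', β, hβ, ea⟩ := a k
      obtain ⟨t', γ, hγ, eb⟩ := b (k.trans hc)
      have e : ∀ x ∈ P, t * s' * ext β (s * x * s⁻¹) * (t * s')⁻¹ = t * f x * t⁻¹ := fun x hx => by
        rw [ea x hx]; group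
      have n : t * s' ∈ normalizer (Q : Set G) := mem_normalizer_fintype fun q hq => by
        obtain ⟨x, hx, rfl⟩ := onto hs k β q hq
        exact e x hx ▸ ht _ (h x hx)
      refine ⟨t', γ * conjAut Q n * β, mul_mem (mul_mem hγ
        (hT (conjAut_mem_autInducedBy (mem_top _) n))) hβ, fun x hx => ?_⟩
      rw [eb _ (h x hx), ext_mul, ext_mul, ext_conjAut n (ext_mem β (hs x hx)), e x hx]
  | congr _ h a =>
    rcases a with ⟨a, ea⟩ | ⟨s, hs, a⟩
    · exact .inl ⟨a, fun x hx => by rw [← h x hx, ea x hx]⟩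
    · refine .inr ⟨s, hs, fun k => ?_⟩
      obtain ⟨s', β, hβ, ea⟩ := a k
      exact ⟨s', β, hβ, fun x hx => by rw [← h x hx, ea x hx]⟩

/-- isomorphisms onto `Q` -/
theorem Gen.onto (hT : autInducedBy ⊤ Q ≤ Γ) (h : Gen Q Γ P f) (e : img P f = Q) :
    (∃ g, ∀ x ∈ P, f x = g * x * g⁻¹) ∨ ∃ s, (∀ x ∈ P, s * x * s⁻¹ ∈ Q) ∧
      ∃ β ∈ Γ, ∀ x ∈ P, f x = ext β (s * x * s⁻¹) := by
  refine (h.key hT).imp_right fun ⟨s, hs, a⟩ => ⟨s, hs, ?_⟩
  have k : Nat.card Q ≤ Nat.card P := e ▸ (h.homOn.card_img h.injOn).le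
  obtain ⟨s', β, hβ, ea⟩ := a k
  have n : s' ∈ normalizer (Q : Set G) := mem_normalizer_fintype fun q hq => by
    obtain ⟨x, hx, rfl⟩ := Bc.onto hs k β q hq
    exact ea x hx ▸ e.le (mem_img_of_mem f hx)
  exact ⟨conjAut Q n * β, mul_mem (hT (conjAut_mem_autInducedBy (mem_top _) n)) hβ, fun x hx => by
    rw [ea x hx, ext_mul, ext_conjAut n (ext_mem β (hs x hx))]⟩

theorem amal : H97.Bc.AmalStmt.{u} := by
  intro G _ _ hG Q α a3 a1 hinv hnc
  have hS : IsPGroup 2 (⊤ : Subgroup G) := hG.to_subgroup _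
  set T := autInducedBy ⊤ Q with hTd
  have hT : IsPGroup 2 T := isPGroup_autInducedBy hS
  have IT : Inn Q ≤ T := inn_eq_autInducedBy Q ▸ H97.autInducedBy_mono le_top
  have h3 : ∀ δ ∈ zpowers α, δ ^ 3 = 1 := by
    rintro _ ⟨n, rfl⟩
    rw [← zpow_natCast, ← zpow_mul, mul_comm, zpow_mul, zpow_natCast, a3, one_zpow]
  have one : ∀ {U : Subgroup (MulAut Q)}, IsPGroup 2 U → ∀ δ ∈ zpowers α, δ ∈ U → δ = 1 := by
    intro U hU δ hδ h
    obtain ⟨k, hk⟩ := hU ⟨_, h⟩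
    have h2 : δ ^ 2 ^ k = 1 := congrArg Subtype.val hk
    simpa [Nat.Coprime.gcd_eq_one (Nat.Coprime.pow_right k (by norm_num : Nat.Coprime 3 2))]
      using pow_gcd_eq_one.2 ⟨h3 δ hδ, h2⟩
  have inv : ∀ g (hg : g ∈ normalizer (Q : Set G)), g ∉ Q → ∀ δ ∈ zpowers α,
      δ * (conjAut Q hg * δ * (conjAut Q hg)⁻¹) ∈ Inn Q := by
    rintro g hg h _ ⟨n, rfl⟩
    have := (QuotientGroup.eq_one_iff _).2 (hinv g hg h)
    rw [← QuotientGroup.eq_one_iff]
    change QuotientGroup.mk' _ _ = 1 at this ⊢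
    rw [map_mul, mul_eq_one_iff_eq_inv] at this
    rw [← conj_zpow, map_mul, map_zpow, map_zpow, this, inv_zpow, mul_inv_cancel]
  have swap : ∀ s ∈ T, ∀ δ ∈ zpowers α, ∃ δ' ∈ zpowers α, δ'⁻¹ * (s * δ * s⁻¹) ∈ T := by
    intro s hs δ hδ
    obtain ⟨g, -, e⟩ := mem_autInducedBy_iff.1 hs
    have n := mem_normalizer_of_ext e
    by_cases h : g ∈ Q
    · have hI : s ∈ Inn Q := mem_inn_iff.2 ⟨g, h, e⟩
      refine ⟨δ, hδ, IT ?_⟩
      simpa only [mul_assoc] using mul_mem ((innNormal Q).conj_mem' s hI δ) (inv_mem hI)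
    · rw [show s = conjAut Q n from aut_ext fun x hx => by rw [e x hx, ext_conjAut n hx]]
      exact ⟨δ⁻¹, inv_mem hδ, by rw [inv_inv]; exact IT (inv g n h δ hδ)⟩
  let Γ : Subgroup (MulAut Q) :=
    { carrier := {β | ∃ δ ∈ zpowers α, δ⁻¹ * β ∈ T}
      one_mem' := ⟨1, one_mem _, by simp⟩
      mul_mem' := fun {β γ} ⟨δ, hδ, h⟩ ⟨ε, hε, k⟩ => by
        obtain ⟨δ', hδ', h'⟩ := swap _ h ε hε
        refine ⟨δ * δ', mul_mem hδ hδ', ?_⟩
        convert mul_mem (mul_mem h' h) k using 1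
        group
      inv_mem' := fun {β} ⟨δ, hδ, h⟩ => by
        obtain ⟨δ', hδ', h'⟩ := swap _ (inv_mem h) _ (inv_mem hδ)
        refine ⟨δ', hδ', ?_⟩
        convert mul_mem h' (inv_mem h) using 1
        group }
  have TΓ : T ≤ Γ := fun s hs => ⟨1, one_mem _, by simpa using hs⟩
  have αΓ : ∀ δ ∈ zpowers α, δ ∈ Γ := fun δ h => ⟨δ, h, by simp⟩
  let F := (isFusionPred_gen Q Γ).toFS
  have mf : ∀ {P f}, Mor F P f ↔ Gen Q Γ P f := IsFusionPred.mor_toFS _
  have ext1 : ∀ {P f} {g : G}, (∀ x ∈ P, f x = g * x * g⁻¹) →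
      ∃ k, Mor F (Ext ⊤ P f) k ∧ ∀ x ∈ P, k x = f x := fun {P f g} e =>
    ⟨_, mor_conj F le_top (mem_top g), fun x hx => (e x hx).symm⟩
  have fa : F.IsFullyAutomized 2 Q := by
    refine isFullyAutomized_iff.2 ⟨le_top, autInducedBy_le_autGroup F le_top le_rfl, hT,
      fun U hU hp hTU => le_antisymm (fun β hβ => ?_) hTU⟩
    rcases (mf.1 (mor_of_mem_autGroup le_top (hU hβ))).onto TΓ (img_ext β) with ⟨g, e⟩ | ⟨s, hs, γ, hγ, e⟩
    · exact mem_autInducedBy_iff.2 ⟨g, mem_top g, e⟩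
    · have n : s ∈ normalizer (Q : Set G) := mem_normalizer_fintype hs
      have : β = γ * conjAut Q n := aut_ext fun x hx => by rw [e x hx, ext_mul, ext_conjAut n hx]
      obtain ⟨δ, hδ, h⟩ : β ∈ Γ := this ▸ mul_mem hγ (TΓ (conjAut_mem_autInducedBy (mem_top _) n))
      have := one hp δ hδ (by simpa using mul_mem hβ (inv_mem (hTU h)))
      simpa [this] using h
  have rc : F.IsReceptive Q := by
    refine isReceptive_iff.2 ⟨le_top, fun P f hf e => ?_⟩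
    rcases (mf.1 hf).onto TΓ e with ⟨g, e'⟩ | ⟨s, hs, β, ⟨δ, hδ, h⟩, e'⟩
    · exact ext1 e'
    obtain ⟨t, -, et⟩ := mem_autInducedBy_iff.1 h
    have e2 : ∀ x ∈ P, f x = ext δ (t * s * x * (t * s)⁻¹) := fun x hx => by
      rw [e' x hx, ← mul_inv_cancel_left δ β, ext_mul, et _ (hs x hx)]; congr 1; group
    by_cases h1 : δ = 1
    · exact ext1 fun x hx => by rw [e2 x hx, h1, ext_one]
    refine ⟨f, hf.mono fun w ⟨_, hw, u, _, eu⟩ => ?_, fun _ _ => rfl⟩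
    have hs' : ∀ x ∈ P, t * s * x * (t * s)⁻¹ ∈ Q := fun x hx => by
      have := ext_mem (δ⁻¹ * β) (hs x hx)
      rw [et _ (hs x hx)] at this
      simpa [mul_assoc] using this
    generalize t * s = r at e2 hs'
    have on := onto hs' (e ▸ hf.card_img.le)
    have n : r * w * r⁻¹ ∈ normalizer (Q : Set G) := mem_normalizer_fintype fun q hq => by
      obtain ⟨x, hx, rfl⟩ := on 1 q hq
      simpa [mul_assoc] using hs' _ ((mem_normalizer_iff.1 hw x).1 hx)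
    by_cases hq : r * w * r⁻¹ ∈ Q
    · obtain ⟨x, hx, e⟩ := on 1 _ hq
      have : x = w := by simpa using e
      exact this ▸ hx
    have m : δ * conjAut Q n * δ⁻¹ ∈ T := mem_autInducedBy_iff.2 ⟨u, mem_top u, fun q hq => by
      obtain ⟨x, hx, rfl⟩ := on δ q hq
      rw [ext_mul, ext_mul, ext_inv_ext, ext_conjAut n (hs' x hx), ← e2 x hx, ← eu x hx,
        e2 _ ((mem_normalizer_iff.1 hw x).1 hx)]
      congr 1; group⟩
    have c := conjAut_mem_autInducedBy (mem_top _) n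
    have := one hT (δ * δ) (mul_mem hδ hδ) (by
      convert mul_mem (mul_mem m (inv_mem c)) (inv_mem (IT (inv _ n hq _ (inv_mem hδ)))) using 1
      group)
    exact (h1 (by rw [← h3 δ hδ, pow_three', this, one_mul])).elim
  refine ⟨F, H95.saturated_of_family hS {P | ¬ ∃ R, F.IsConj P R ∧ R < Q}
    (fun P hP R h ⟨W, k, l⟩ => hP ⟨W, isConj_trans h k, l⟩) (fun P hP _ _ => ?_)
    (fun E h => le_iff.2 fun P f hf => ?_) (fun P hc hP _ => ?_), fun e => a1 ?_⟩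
  · by_cases hc : F.IsConj P Q
    · exact ⟨Q, hc, fa, rc⟩
    have inn : ∀ R f, F.IsConj P R → Mor F R f → ∃ g, ∀ x ∈ R, f x = g * x * g⁻¹ := fun R f h hf =>
      ((mf.1 hf).key TΓ).resolve_right fun ⟨s, hs, _⟩ => by
        have k := isConj_trans h (mor_conj F le_top (mem_top s)).isConj
        exact hP ⟨_, k, lt_of_le_of_ne (img_le_iff.2 hs) fun e => hc (e ▸ k)⟩
    refine ⟨P, isConj_refl F le_top, isFullyAutomized_iff.2 ⟨le_top,
      autInducedBy_le_autGroup F le_top le_rfl, isPGroup_autInducedBy hS,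
      fun U hU _ hTU => le_antisymm (fun β hβ => ?_) hTU⟩,
      isReceptive_iff.2 ⟨le_top, fun R f hf e => ?_⟩⟩
    · obtain ⟨g, e⟩ := inn P _ (isConj_refl F le_top) (mor_of_mem_autGroup le_top (hU hβ))
      exact mem_autInducedBy_iff.2 ⟨g, mem_top g, e⟩
    · obtain ⟨g, e'⟩ := inn R f (isConj_symm (e ▸ hf.isConj)) hf
      exact ext1 e'
  · have hQ := h Q fun ⟨R, k, l⟩ => l.ne (eq_of_le_of_card_ge l.le (isConj_card k).le)
    rw [mf] at hf
    induction hf with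
    | conj P g => exact mor_conj E le_top (mem_top g)
    | aut hβ => exact hQ _ (mf.2 (.aut hβ))
    | comp _ _ h a b => exact a.comp b h
    | congr _ h a => exact a.congr h
  · obtain ⟨R, k, l⟩ := not_not.1 hP
    obtain ⟨n, g, hg, e⟩ := hnc R l
    have m := (mf.2 (.aut (αΓ _ (npow_mem_zpowers α n)))).mono l.le
    refine (hg (hc.2 _ (isConj_trans k m.isConj) ⟨mem_top g, fun y hy => ?_⟩)).elim
    obtain ⟨x, hx, rfl⟩ := m.mem_img.1 hy
    exact (e x hx).eq.symm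
  · obtain ⟨-, g, -, e⟩ := mor_inner_iff.1 (e ▸ mf.2 (.aut (αΓ _ (mem_zpowers α))))
    exact one hT α (mem_zpowers α) (mem_autInducedBy_iff.2 ⟨g, mem_top g, e⟩)

end Cfsg.Agent.H98.Bc
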