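import Cfsg.Agent.H37.KitE
import Cfsg.Agent.H43.FamE
import Cfsg.Agent.H35.PinAut

/-! Tables for the root system of type `E₆`. -/

set_option autoImplicit false
set_option maxRecDepth 100000
set_option synthInstance.maxSize 4000
set_option linter.unusedSectionVars false

namespace Cfsg.Agent.H98.E6E

open Cfsg Cfsg.Lie Cfsg.Agent.H63 Cfsg.Agent.H63.SL Cfsg.Agent.H34 Cfsg.Agent.H40
  Cfsg.Agent.H40.LF Cfsg.Agent.H27.End Subgroup Equiv
open Cfsg.Agent.H43.TW (E g γ pr γf)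
open Cfsg.Agent.H8 (IsSylowIn)
open scoped commutatorElement

universe u v

theorem t0 : (∃ b < E.n, E.pair 0 b = 0) ∧ ∀ b < E.n, E.pair 0 b = 0 →
    ∃ c < E.n, E.pair 0 c = 0 ∧ E.pair b c = 0 := by
  rw [E, tabOf_eq H37.validE6]; decide +kernel

theorem t1 : ∀ b < E.n, E.pair 0 b = 0 → ∀ c < E.n, E.pair 0 c = 0 ∧ E.pair b c = 0 →
    ((List.range E.n).filter fun s => 2 < E.pair 0 s + E.pair b s + E.pair c s).length + 27 ≤
      ((List.range E.n).filter fun s => 0 < E.pair 0 s + E.pair b s + E.pair c s).length := by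
  rw [E, tabOf_eq H37.validE6]; decide +kernel

theorem t3 : ∀ b < E.n, E.pair 0 b = 0 → ∀ c < E.n, E.pair 0 c = 0 ∧ E.pair b c = 0 →
    ∀ e < E.n, E.pair 0 e = 0 ∧ E.pair b e = 0 ∧ E.pair c e = 0 →
      ∃ δ < E.n, E.pair 0 δ ≠ 0 ∧ E.pair b δ ≠ 0 ∧ E.pair c δ ≠ 0 ∧ E.pair e δ ≠ 0 := by
  rw [E, tabOf_eq H37.validE6]; decide +kernel

theorem t2 : (∀ r < E.n, g r = r → ∃ s < E.n, g s = s ∧ E.pair r s = 1) ∧
    ∃ b < E.n, (g b = b ∧ E.Pos b) ∧ ∃ a < E.n, (g a = a ∧ E.Pos a ∧ E.pair a b = -1) ∧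
      ∃ c < E.n, (g c = c ∧ E.Pos c ∧ E.pair c b = -1 ∧ E.pair a c = 0) ∧
      ∃ e < E.n, g e = e ∧ E.Pos e ∧ E.pair e b = -1 ∧ E.pair a e = 0 ∧ E.pair c e = 0 := by
  rw [E, tabOf_eq H37.validE6]; decide +kernel

end Cfsg.Agent.H98.E6E
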