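import Cfsg.Agent.H98.E6Ea

/-! Lemmas on simply laced groups of characteristic two, and on `E₆`. -/

set_option autoImplicit false
set_option linter.unusedSectionVars false

namespace Cfsg.Agent.H98.E6E

open Cfsg Cfsg.Lie Cfsg.Agent.H63 Cfsg.Agent.H63.SL Cfsg.Agent.H34 Cfsg.Agent.H40
  Cfsg.Agent.H40.LF Cfsg.Agent.H27.End Subgroup Equiv
open Cfsg.Agent.H43.TW (E g γ pr γf)
open Cfsg.Agent.H37.Kit (x_sq x_inv card_XR card_le_mul)
open Cfsg.Agent.H8 (IsSylowIn)
open scoped commutatorElement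

universe u v

section Lace

variable {ι Φ : Type} [Fintype ι] [DecidableEq ι] {R : RS ι Φ}

theorem free_map {B : List Φ} (hB : Free R B) {w : Perm Φ} (hw : w ∈ R.W) : Free R (B.map w) where
  nodup := hB.nodup.map w.injective
  orth := by
    simp only [List.mem_map, forall_exists_index, and_imp, forall_apply_eq_imp_iff₂]
    exact fun r hr s hs e => (R.pair_W hw r s).trans (hB.orth r hr s hs fun k => e (congrArg w k))
  free δ := by
    have := hB.free (w⁻¹ δ)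
    rw [List.filter_map, List.length_map]
    convert this using 3
    funext r
    rw [Function.comp_apply, ← R.pair_W hw r (w⁻¹ δ)]
    simp

variable {F : Type v} [Field F] {G : Type u} [Group G] {G0 : Subgroup G} {z : Φ → F → G}

theorem cj_z (p : Pin R z) {r s k : Φ} (e : R.rc k = R.rc r + R.rc s) (a b : F) :
    z r a * z s b * (z r a)⁻¹ = z k (a * b) * z s b := by
  rw [← p.rel r s k e, commutatorElement_def, inv_mul_cancel_right]

/-- A regular unipotent element of `D₄` does not have order four. -/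
theorem d4 (hR : RootFacts R) (p : Pin R z) {b a c e : Φ} (h1 : R.pair a b = -1)
    (h2 : R.pair c b = -1) (h3 : R.pair e b = -1) (h4 : R.pair a c = 0) (h5 : R.pair a e = 0)
    (h6 : R.pair c e = 0) {β α κ ε : F} (n1 : β ≠ 0) (n2 : α ≠ 0) (n3 : κ ≠ 0) (n4 : ε ≠ 0) :
    ¬ Commute (z a α * z c κ * z e ε * z b β * (z a α * z c κ * z e ε)⁻¹) (z b β) := fun h => by
  have s1 := hR.symm b a
  have s2 := hR.symm b c
  have s3 := hR.symm b e
  have s0 := R.pair_self b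
  have k0 : ∀ r, 0 ≤ R.pair b r → ∀ s, z r s ∈ C1[z b β] := fun r hr s =>
    mem_C1.2 (p.com b r hr β s).symm
  have k1 : ∀ r, R.pair a r = -1 → 1 ≤ R.pair b r → ∀ s, z a α * z r s * (z a α)⁻¹ ∈ C1[z b β] :=
    fun r hr hr' s => by
      obtain ⟨k, hk⟩ := (hR.sum a r).1 hr
      have := hR.pair_add b _ _ _ hk
      rw [cj_z p hk]
      exact mul_mem (k0 k (by omega) _) (k0 r (by omega) _)
  obtain ⟨r1, e1⟩ := (hR.sum e b).1 h3
  have a1 := hR.pair_add a _ _ _ e1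
  have b1 := hR.pair_add b _ _ _ e1
  have c1 := hR.pair_add c _ _ _ e1
  obtain ⟨r2, e2⟩ := (hR.sum c r1).1 (by omega)
  have a2 := hR.pair_add a _ _ _ e2
  have b2 := hR.pair_add b _ _ _ e2
  obtain ⟨r3, e3⟩ := (hR.sum a r2).1 (by omega)
  have b3 := hR.pair_add b _ _ _ e3
  obtain ⟨r4, e4⟩ := (hR.sum b r3).1 (by omega)
  obtain ⟨r5, e5⟩ := (hR.sum c b).1 h2
  have a5 := hR.pair_add a _ _ _ e5
  have b5 := hR.pair_add b _ _ _ e5
  have q : z a α * z c κ * z e ε * z b β * (z a α * z c κ * z e ε)⁻¹ =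
      z r3 (α * (κ * (ε * β))) * (z r2 (κ * (ε * β)) * (z a α * z r1 (ε * β) * (z a α)⁻¹) *
        (z a α * z r5 (κ * β) * (z a α)⁻¹) * (z a α * z b β * (z a α)⁻¹)) := by
    calc _ = z a α * (z c κ * (z e ε * z b β * (z e ε)⁻¹) * (z c κ)⁻¹) * (z a α)⁻¹ := by group
      _ = z a α * ((z c κ * z r1 (ε * β) * (z c κ)⁻¹) * (z c κ * z b β * (z c κ)⁻¹)) *
        (z a α)⁻¹ := by rw [cj_z p e1]; group
      _ = (z a α * z r2 (κ * (ε * β)) * (z a α)⁻¹) * ((z a α * z r1 (ε * β) * (z a α)⁻¹) *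
        (z a α * z r5 (κ * β) * (z a α)⁻¹) * (z a α * z b β * (z a α)⁻¹)) := by
          rw [cj_z p e2, cj_z p e5]; group
      _ = _ := by rw [cj_z p e3]; group
  have h7 := mem_C1.2 h
  rw [q, mul_mem_cancel_right (mul_mem (mul_mem (mul_mem (k0 r2 (by omega) _)
    (k1 r1 (by omega) (by omega) _)) (k1 r5 (by omega) (by omega) _)) (k1 b h1 (by omega) _))] at h7
  have h8 := commutatorElement_eq_one_iff_commute.2 (mem_C1.1 h7).symm
  rw [p.rel _ _ _ e4] at h8
  exact mul_ne_zero n1 (mul_ne_zero n2 (mul_ne_zero n3 (mul_ne_zero n4 n1))) (p.inj _ _ h8)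

variable (hL : Lace R) (hM : Mod R G0 z)
include hL hM

theorem uv {f : Φ → ℤ} (hf : Lin R f) (h0 : ∀ r, f r ≠ 0) {u : G} (h1 : u ∈ UU z {r | 0 < f r})
    (h2 : u ∈ UU z {r | ¬ 0 < f r}) : u = 1 := by
  have := hL.fin
  obtain ⟨P, hP, -⟩ := hM.split
  obtain ⟨w, hw, e⟩ := exists_w_pos hf h0
  have k : ∀ r, (sgn R).pos (w⁻¹ r) ↔ 0 < f r := fun r => (e (w⁻¹ r)).symm.trans (by simp)
  exact congrArg Subtype.val (Split.eq_one_of_pos_of_inv (P := P) (w := w⁻¹)
    (g := ⟨u, UU_le_L hM _ h1⟩) (inv_mem hw) ((mem_U_iff hM P hP _ _).2 (by simpa only [k] using h1))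
    ((mem_U_iff hM P hP _ _).2 (by simpa only [k] using h2)))

theorem two_zero {f : Φ → ℤ} (hf : Lin R f) (h0 : ∀ r, f r ≠ 0) {T : Set Φ} (hT : Clo R T)
    (h1 : ∀ r ∈ T, 0 < f r) {β β' : Φ} (h2 : β ≠ β') (h3 : f β = f β') (h4 : β ∉ T) (h5 : β' ∉ T)
    {a b : F} (h : z β a * z β' b ∈ UU z T) : a = 0 ∧ b = 0 := by
  have := hL.fin
  have hR := H80.SL.root R hL
  have k : a = 0 := by
    by_cases h6 : 0 < f β'
    · refine fth hR hM f hf {r | r ∈ T ∨ r = β' ∨ f β' < f r} (fun r hr s hs k e => ?_)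
        (fun r hr => ?_) β (by simp [h4, h2, h3]) a ((mul_mem_cancel_right
          (x_mem_UU (by simp) b)).1 (UU_sub h fun r hr => .inl hr))
      · have := hf.sum e
        rcases hr with hr | rfl | hr <;> rcases hs with hs | rfl | hs
        · exact .inl (hT r hr s hs k e)
        all_goals
          refine .inr (.inr ?_)
          first | (have := h1 _ hr; omega) | (have := h1 _ hs; omega) | omega
      · rcases hr with hr | rfl | hr
        exacts [h1 r hr, h6, h6.trans hr]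
    · by_contra h7
      have := uv hL hM hf h0 (UU_sub h h1) (mul_mem (x_mem_UU (by simpa [h3] using h6) a)
        (x_mem_UU (by simpa using h6) b))
      exact h2 (H35.NF.root_eq hL hM ((eq_inv_of_mul_eq_one_left this).trans (x_inv hM.pin _ _)) h7)
  rw [k, x_zero hM.pin, one_mul] at h
  exact ⟨k, fth hR hM f hf T hT h1 β' h5 b h⟩

theorem card_clo [Finite G] {f : Φ → ℤ} (hf : Lin R f) {S : Set Φ} (h : ∀ r ∈ S, 0 < f r) (hS : Clo R S) :
    Nat.card (UU z S) = Nat.card F ^ S.ncard := by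
  have := hL.fin
  have hR := H80.SL.root R hL
  have hx := hM.pin
  rw [UU_eq_gen, (filt hR hx hf hS h).card_gen (fun r hr y hy k => ?_) (Set.toFinite _),
    Finset.prod_congr rfl fun r _ => card_XR hx r, Finset.prod_const,
    Set.ncard_eq_toFinset_card _ (Set.toFinite _)]
  obtain ⟨a, rfl⟩ := (mem_XR hx).1 hy
  rw [← UU_eq_gen] at k
  rw [fth hR hM f hf _ (fun s hs t ht k e => ?_) (fun _ k => h _ k.1) _ (fun h => h.2.1 rfl) a k,
    x_zero hx]
  have := hf.sum e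
  have := hs.2.2
  have := h t ht.1
  exact ⟨hS s hs.1 t ht.1 k e, by rintro rfl; omega, by omega⟩

theorem big [Finite F] [Finite G] {B : List Φ} {l : Φ → ℤ} (hl : Lin R l) (h2 : ∀ b ∈ B, l b = 2)
    {k : ℕ} (hk : {r | 2 < l r}.ncard + k ≤ {r | 0 < l r}.ncard) :
    ∃ P : Subgroup G, P ≤ C1[prodX z B] ∧ IsPGroup 2 P ∧ Nat.card F ^ k ≤ Nat.card P := by
  have := hL.fin
  have hR := H80.SL.root R hL
  have hx := hM.pin
  have h1 : ∀ b ∈ B, 0 < l b := fun b hb => by rw [h2 b hb]; exact two_pos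
  have hD : ∀ δ ∈ {δ | 2 < l δ}, 0 < l δ := fun δ h => two_pos.trans h
  have key := card_le_mul (H := UU z {r | 0 < l r}) (K := UU z {δ | 2 < l δ}) (a := prodX z B)
    fun g hg => comm_mem_of_gen (X := XR z) (S := {b | b ∈ B}) ((gen_mono h1).trans
      ((UU_eq_gen _).ge.trans (conj_upper hR hx hl hD fun _ h _ h' => lt_trans h h')))
      (fun b hb y hy => by
        obtain ⟨a, rfl⟩ := (mem_XR hx).1 hy
        rw [← commutatorElement_def, ← commutatorElement_inv]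
        exact inv_mem (h2 b hb ▸ comm_higher hR hx hl (h1 b hb) a hg))
      (prod_mem_gen (fun _ h => h) fun r _ => x_mem_XR r 1)
  have c := card_clo hL hM hl (S := {r | 0 < l r}) (fun _ h => h) hl.clo_pos
  rw [c, card_clo hL hM hl hD fun r hr s hs k e => (by
    have := hl.sum e
    have := hD s hs
    have := hr.out
    show 2 < l k
    omega)] at key
  have := Fintype.ofFinite F
  have := CharTwo.of_one_ne_zero_of_two_eq_zero (one_ne_zero' F) hx.two
  obtain ⟨n, -, hn⟩ := FiniteField.card F 2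
  refine ⟨_, inf_le_right, IsPGroup.to_inf_left (IsPGroup.of_card
      (n := n * _) (by rw [c, Nat.card_eq_fintype_card, hn, pow_mul])),
    Nat.le_of_mul_le_mul_left (le_trans ?_ key) (pow_pos Nat.card_pos _)⟩
  rw [← pow_add]
  exact Nat.pow_le_pow_right Nat.card_pos hk

end Lace

theorem lace : Lace cE6.R := H35.NF.lace_E6 cE6

/-- the root number zero -/
def r0 : Fin chevE6.nroots := ⟨0, by decide⟩

theorem form0 {B : List (Fin chevE6.nroots)} (hB : Free cE6.R (r0 :: B)) :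
    ∃ l, Lin cE6.R l ∧ (∀ b ∈ r0 :: B, l b = 2) ∧
      {r | 2 < l r}.ncard + 27 ≤ {r | 0 < l r}.ncard := by
  have hR := H80.SL.root _ lace
  have k : ∀ b c : Fin chevE6.nroots, cE6.R.pair r0 b = 0 → cE6.R.pair r0 c = 0 →
      cE6.R.pair b c = 0 → ∃ l, Lin cE6.R l ∧ (∀ s ∈ [r0, b, c], l s = 2) ∧
      {r | 2 < l r}.ncard + 27 ≤ {r | 0 < l r}.ncard := fun b c h1 h2 h3 => by
    refine ⟨_, ((lin_pair r0).add (lin_pair b)).add (lin_pair c), ?_, ?_⟩
    · have := hR.symm r0 b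
      have := hR.symm r0 c
      have := hR.symm b c
      simp only [List.mem_cons, List.not_mem_nil, or_false, forall_eq_or_imp, forall_eq,
        RS.pair_self]
      omega
    · simp only [pr] at h1 h2 h3 ⊢
      rw [H43.Fam.ncard_fin _ fun s => 2 < E.pair r0 s + E.pair b s + E.pair c s,
        H43.Fam.ncard_fin _ fun s => 0 < E.pair r0 s + E.pair b s + E.pair c s]
      exact t1 b b.2 h1 c c.2 ⟨h2, h3⟩
  have k2 : ∀ b : Fin chevE6.nroots, cE6.R.pair r0 b = 0 → ∃ l, Lin cE6.R l ∧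
      (∀ s ∈ [r0, b], l s = 2) ∧ {r | 2 < l r}.ncard + 27 ≤ {r | 0 < l r}.ncard := fun b h1 => by
    obtain ⟨c, hc, h2, h3⟩ := t0.2 b b.2 ((pr r0 b).symm.trans h1)
    obtain ⟨l, h4, h5, h6⟩ := k b ⟨c, hc⟩ h1 ((pr r0 ⟨c, hc⟩).trans h2) ((pr b ⟨c, hc⟩).trans h3)
    exact ⟨l, h4, fun s hs => h5 s (by simp at hs ⊢; tauto), h6⟩
  have n := hB.nodup
  have o := hB.orth
  rcases B with _ | ⟨b, _ | ⟨c, _ | ⟨e, B⟩⟩⟩
  · obtain ⟨b, hb, h1⟩ := t0.1
    obtain ⟨l, h4, h5, h6⟩ := k2 ⟨b, hb⟩ ((pr r0 ⟨b, hb⟩).trans h1)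
    exact ⟨l, h4, fun s hs => h5 s (by simp at hs ⊢; tauto), h6⟩
  · simp at n
    exact k2 b (o _ (by simp) _ (by simp) n)
  · simp at n
    exact k b c (o _ (by simp) _ (by simp) (by tauto)) (o _ (by simp) _ (by simp) (by tauto))
      (o _ (by simp) _ (by simp) (by tauto))
  · simp only [List.nodup_cons, List.mem_cons, not_or] at n
    have o' : ∀ r ∈ r0 :: b :: c :: e :: B, ∀ s ∈ r0 :: b :: c :: e :: B, r ≠ s → E.pair r s = 0 :=
      fun r hr s hs h => (pr r s).symm.trans (o r hr s hs h)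
    obtain ⟨δ, hδ, h1, h2, h3, h4⟩ := t3 b b.2 (o' r0 (by simp) _ (by simp) (by tauto)) c c.2
      ⟨o' r0 (by simp) _ (by simp) (by tauto), o' _ (by simp) _ (by simp) (by tauto)⟩ e e.2
      ⟨o' r0 (by simp) _ (by simp) (by tauto), o' _ (by simp) _ (by simp) (by tauto),
        o' _ (by simp) _ (by simp) (by tauto)⟩
    have := hB.free ⟨δ, hδ⟩
    have h1' : E.pair r0 δ ≠ 0 := h1
    simp [pr, h1', h2, h3, h4] at this
    omega

theorem form {B : List (Fin chevE6.nroots)} (hB : Free cE6.R B) (h : B ≠ []) :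
    ∃ l, Lin cE6.R l ∧ (∀ b ∈ B, l b = 2) ∧ {r | 2 < l r}.ncard + 27 ≤ {r | 0 < l r}.ncard := by
  obtain ⟨a, B, rfl⟩ := List.exists_cons_of_ne_nil h
  obtain ⟨w, hw, e⟩ := (H80.SL.root _ lace).trans a r0
  have := free_map hB hw
  rw [List.map_cons, e] at this
  obtain ⟨l, h1, h2, h3⟩ := form0 this
  refine ⟨_, h1.comp (linP_W hw), fun b hb => h2 _ (e ▸ List.mem_map_of_mem (f := w) hb), ?_⟩
  rwa [← Set.ncard_preimage_of_injective_subset_range w.injective (by simp),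
    ← Set.ncard_preimage_of_injective_subset_range (s := {r | 0 < l r}) w.injective (by simp)] at h3

theorem fix_sum {r : Fin chevE6.nroots} (h : γ r = r) :
    ∃ s k, γ s = s ∧ γ k = k ∧ cE6.R.rc r = cE6.R.rc s + cE6.R.rc k := by
  obtain ⟨s, hs, h1, h2⟩ := t2.1 r r.2 (γf.1 h)
  obtain ⟨k, e⟩ := exists_diff (H80.SL.root _ lace) ((pr r ⟨s, hs⟩).trans h2)
  have h3 : γ ⟨s, hs⟩ = ⟨s, hs⟩ := γf.2 h1
  have := (linP_diag H43.TW.tl.diag).1.sum e
  rw [h, h3, e, add_right_inj] at this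
  exact ⟨_, k, h3, (cE6.R.rc_inj this).symm, e⟩

end Cfsg.Agent.H98.E6E
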