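import Mathlib
import Cfsg.Agent.H98.FlD
import Cfsg.Agent.S0023
import Cfsg.Agent.S0024
import Cfsg.Agent.S0025
import Cfsg.Agent.S0205
import Cfsg.Agent.S1950
import Cfsg.Agent.H6.ZStar
import Cfsg.Agent.H7.Rank
import Cfsg.Agent.H24.PSolv

/-!
Second Fitting subgroup and two-generated subgroups: the minimal configuration does not exist.
-/

set_option autoImplicit false
open Subgroup Cfsg
open scoped Pointwise commutatorElement

namespace Cfsg.Agent.H98.Fl
open Cfsg.Agent.H83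

variable {G : Type*} [Group G] {p q r : ℕ}

theorem card_img (x : G) (H : Subgroup G) :
    ((fun g => ⁅g, x⁆) '' (H : Set G)).ncard = (Cx x).relIndex H := by
  let F : H ⧸ (Cx x).subgroupOf H → G := Quotient.lift (fun h : H => ⁅(h : G), x⁆) (by
    intro a b hab
    have h1 : (a : G)⁻¹ * b ∈ Cx x :=
      (QuotientGroup.leftRel_apply (s := (Cx x).subgroupOf H)).mp hab
    have : (b : G) = a * ((a : G)⁻¹ * b) := by group
    show ⁅(a : G), x⁆ = ⁅(b : G), x⁆
    rw [this, comm_mul_Cx h1 (mem_zpowers x)])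
  have hF : Function.Injective F := by
    intro a b
    induction a using QuotientGroup.induction_on with | _ a => ?_
    induction b using QuotientGroup.induction_on with | _ b => ?_
    intro hab
    have h1 : (a : G) * x * (a : G)⁻¹ * x⁻¹ = b * x * (b : G)⁻¹ * x⁻¹ := hab
    apply QuotientGroup.eq.mpr
    show (a : G)⁻¹ * b ∈ Cx x
    apply mem_Cx.mpr
    have h2 := mul_right_cancel h1
    calc x * ((a : G)⁻¹ * b) = (a : G)⁻¹ * (a * x * (a : G)⁻¹) * b := by group
      _ = (a : G)⁻¹ * b * x := by rw [h2]; group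
  have : (fun g => ⁅g, x⁆) '' (H : Set G) = Set.range F := by
    ext t
    constructor
    · rintro ⟨g, hg, rfl⟩
      exact ⟨QuotientGroup.mk ⟨g, hg⟩, rfl⟩
    · rintro ⟨a, rfl⟩
      induction a using QuotientGroup.induction_on with | _ a => ?_
      exact ⟨a, a.2, rfl⟩
  rw [this, ← Nat.card_coe_set_eq, Nat.card_range_of_injective hF]
  rfl

theorem pow_ordCompl_eq_one [Finite G] (hq : q.Prime) {w : G} (hw : (orderOf w).Coprime q) :
    w ^ ordCompl[q] (Nat.card G) = 1 := by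
  apply orderOf_dvd_iff_pow_eq_one.mp
  have h1 : orderOf w ∣ ordProj[q] (Nat.card G) * ordCompl[q] (Nat.card G) := by
    rw [Nat.ordProj_mul_ordCompl_eq_self]; exact orderOf_dvd_natCard w
  exact (Nat.Coprime.pow_right _ hw).dvd_of_dvd_mul_left h1

theorem eq_of_pow_ordCompl [Finite G] (hp : p.Prime) {g h : G} (hg : (orderOf g).Coprime p)
    (hh : (orderOf h).Coprime p)
    (H : ∀ q : ℕ, q.Prime → q ∣ Nat.card G → q ≠ p →
      g ^ ordCompl[q] (Nat.card G) = h ^ ordCompl[q] (Nat.card G)) : g = h := by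
  classical
  have hn : Nat.card G ≠ 0 := Nat.card_pos.ne'
  have e0 : g ^ ordCompl[p] (Nat.card G) = h ^ ordCompl[p] (Nat.card G) := by
    rw [pow_ordCompl_eq_one hp hg, pow_ordCompl_eq_one hp hh]
  have hex : ∃ d, 0 < d ∧ g ^ d = h ^ d := ⟨_, Nat.ordCompl_pos p hn, e0⟩
  have hd := Nat.find_spec hex
  have hdvd : ∀ k, g ^ k = h ^ k → Nat.find hex ∣ k := by
    intro k hk
    by_contra hc
    have h1 : 0 < k % Nat.find hex := Nat.pos_of_ne_zero fun h' => hc (Nat.dvd_of_mod_eq_zero h')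
    refine Nat.find_min hex (Nat.mod_lt k hd.1) ⟨h1, ?_⟩
    rw [← Nat.div_add_mod k (Nat.find hex), pow_add, pow_add, pow_mul, pow_mul, hd.2] at hk
    exact mul_left_cancel hk
  have h1 : Nat.find hex = 1 := by
    by_contra hc
    obtain ⟨r, hr, hrd⟩ := Nat.exists_prime_and_dvd hc
    have a1 : r ∣ ordCompl[p] (Nat.card G) := hrd.trans (hdvd _ e0)
    have a2 : r ≠ p := by
      rintro rfl
      exact Nat.not_dvd_ordCompl hr hn a1
    exact Nat.not_dvd_ordCompl hr hn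
      (hrd.trans (hdvd _ (H r hr (a1.trans (Nat.ordCompl_dvd _ _)) a2)))
  have := hd.2
  rwa [h1, pow_one, pow_one] at this

namespace MC
variable {x : G}

theorem fit [Finite G] (h : MC p x) : fittingSubgroup G = ⊥ := by
  rw [H52.fitting_eq_iSup_pCore, iSup_eq_bot]
  intro q
  exact h.core q q.2 _ inferInstance pCore_isPGroup

theorem nil_eq_bot [Finite G] (h : MC p x) {N : Subgroup G} (hN : N.IsSubnormal)
    (hn : Group.IsNilpotent N) : N = ⊥ :=
  eq_bot_iff.mpr ((H52.le_fitting_of_subnormal hN hn).trans h.fit.le)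

theorem two [Finite G] (h : MC 2 x) : False := by
  by_cases hiso : ∀ g : G, Commute x (g * x * g⁻¹) → g * x * g⁻¹ = x
  · have hz := H6.zstar G (u := x) ⟨h.ord, hiso⟩
    have hO : pPrimeCore 2 G = ⊥ := by
      by_contra hne
      haveI := H52.pPrimeCore_characteristic (G := G) (p := 2)
      apply H52.inf_fitting_ne_bot_of_isSolvable
        (S0205.result (Nat.coprime_two_right.mp H52.coprime_card_pPrimeCore)) hne
      rw [h.fit, inf_bot_eq]
    apply h.Cx_ne_top h.ne_one h.pow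
    rw [eq_top_iff]
    intro g _
    have := hz g
    rw [hO, mem_bot] at this
    exact mem_Cx.mpr (commutatorElement_eq_one_iff_mul_comm.mp this)
  · push Not at hiso
    obtain ⟨g, hc, hne⟩ := hiso
    have h' := h.conj g
    refine CE.two (u := g * x * g⁻¹) ⟨h, mem_Cx.mpr hc, by simpa using h'.pow, fun hu => ?_⟩ h'
    obtain ⟨i, hi⟩ := mem_powers_iff_mem_zpowers.mpr hu
    have hi' : x ^ i = g * x * g⁻¹ := hi
    rw [← pow_mod_orderOf, h.ord] at hi'
    rcases Nat.mod_two_eq_zero_or_one i with h0 | h0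
    · rw [h0, pow_zero] at hi'; exact h'.ne_one hi'.symm
    · rw [h0, pow_one] at hi'; exact hne hi'.symm

/-- Without `E` the group is `p`-solvable. -/
theorem psolv [Finite G] [hp : Fact p.Prime] (h : MC p x) (hp2 : p ≠ 2)
    (hno : ∀ u ∈ Cx x, u ^ p = 1 → u ∈ zpowers x) : IsPSolvable p G := by
  obtain ⟨P, hP⟩ := (isPGroup_zpowers h.pow).exists_le_sylow
  have hxP : x ∈ (P : Subgroup G) := hP (mem_zpowers x)
  have hPC : (P : Subgroup G) ≤ Cx x := by
    have hne := inf_centralizer_ne_bot P.isPGroup' P.isPGroup' le_normalizer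
      (fun h' => h.ne_one (by rw [h'] at hxP; exact hxP))
    obtain ⟨⟨w, hw⟩, hw1⟩ := ne_bot_iff_exists_ne_one.mp hne
    have hw1' : w ≠ 1 := fun h' => hw1 (Subtype.ext h')
    obtain ⟨k, hk⟩ := isPGroup_iff.mp P.isPGroup' w hw.1
    have hdvd : p ∣ orderOf w := by
      obtain ⟨j, -, hj⟩ := (Nat.dvd_prime_pow hp.out).mp (orderOf_dvd_of_pow_eq_one hk)
      rw [hj]
      refine dvd_pow_self p fun h0 => hw1' ?_
      rw [h0, pow_zero] at hj; exact orderOf_eq_one_iff.mp hj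
    have ho := orderOf_pow_orderOf_div (orderOf_pos w).ne' hdvd
    set z := w ^ (orderOf w / p)
    have hz : z ∈ centralizer ((P : Subgroup G) : Set G) := pow_mem hw.2 _
    have hz1 : z ≠ 1 := fun h' => hp.out.one_lt.ne (by rw [← ho, h', orderOf_one])
    have hzx := hno z (mem_Cx.mpr (mem_centralizer_iff.mp hz x hxP))
      (by rw [← ho, pow_orderOf_eq_one])
    have := (zpowers_le).mpr hz (mem_zp_of_prime h.ord hzx hz1)
    intro y hy
    exact mem_Cx.mpr (mem_centralizer_iff.mp this y hy).symm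
  have hcyc : IsCyclic (P : Subgroup G) := by
    haveI : ((zpowers x).subgroupOf (P : Subgroup G)).Normal :=
      (normal_subgroupOf_iff_le_normalizer hP).mpr (hPC.trans (Cx_le_norm_zp x))
    refine H7.isCyclic_of_omega_le P.isPGroup' hp2 (A := (zpowers x).subgroupOf P) ?_ ?_
    · rw [card_subgroupOf hP, Nat.card_zpowers, h.ord]
    · intro y hy
      exact hno y (hPC y.2) (congrArg Subtype.val hy)
  refine (S1950.result P hcyc).mpr fun y z hy hz => ?_
  have hyp : y ^ p ^ 1 = 1 := by rw [pow_one, ← hy, pow_orderOf_eq_one]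
  have hzp : z ^ p ^ 1 = 1 := by rw [pow_one, ← hz, pow_orderOf_eq_one]
  obtain ⟨g, -, S, -, hS, s1, s2⟩ := exists_conj_le (H := ⊤) le_top le_top (isPGroup_zpowers hyp)
    P.isPGroup'
  rw [P.is_maximal' hS s2] at s1
  have a1 : g * y * g⁻¹ ∈ zpowers x := hno _ (hPC (s1 (conj_mem_cj (mem_zpowers y))))
    (by rw [conj_pow', ← pow_one p, hyp]; group)
  have h' := h.conj g⁻¹
  set K := closure ({g⁻¹ * x * g⁻¹⁻¹, z} : Set G)
  have hyK : y ∈ K := by
    have := conj_zp_mem (left_mem_cl (g⁻¹ * x * g⁻¹⁻¹) z) a1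
    rwa [show g⁻¹ * (g * y * g⁻¹) * g⁻¹⁻¹ = y by group] at this
  obtain ⟨D, N, hg⟩ := h'.good K (h'.gen z) (left_mem_cl _ _)
  refine H24.isPSolvable_of_injective hp.out (inclusion (cl_le hyK (right_mem_cl _ _)))
    (inclusion_injective _) ?_
  haveI : (D.subgroupOf K).Normal := (normal_subgroupOf_iff_le_normalizer hg.DK).mpr hg.nD
  haveI : (N.subgroupOf K).Normal := (normal_subgroupOf_iff_le_normalizer hg.NK).mpr hg.nN
  refine H24.isPSolvable_of_normal_of_quotient (D.subgroupOf K)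
    (Or.inr (H52.coprime_card_subgroupOf K hg.cop)) ?_
  let f := QuotientGroup.mk' (D.subgroupOf K)
  have hf : Function.Surjective f := QuotientGroup.mk'_surjective _
  have hU : IsPGroup p ((N.subgroupOf K).map f) := by
    rw [isPGroup_iff]
    rintro _ ⟨n, hn, rfl⟩
    obtain ⟨j, hj⟩ := hg.pq n hn
    exact ⟨j, by rw [← map_pow]; exact (QuotientGroup.eq_one_iff _).mpr hj⟩
  haveI : ((N.subgroupOf K).map f).Normal := Normal.map inferInstance f hf
  have hV : IsPGroup p (((zpowers z).subgroupOf K).map f) :=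
    (isPGroup_zpowers hzp).comap_subtype.map f
  have hW := isPGroup_sup hV hU (by rw [normalizer_eq_top]; exact le_top)
  have htop : ((zpowers z).subgroupOf K).map f ⊔ (N.subgroupOf K).map f = ⊤ := by
    rw [← Subgroup.map_sup, ← subgroupOf_sup ((zpowers_le).mpr (right_mem_cl _ _)) hg.NK,
      subgroupOf_eq_top.mpr (cl_le (mem_sup_right hg.xN) (mem_sup_left (mem_zpowers z))),
      map_top_of_surjective f hf]
  rw [htop] at hW
  have hW' : IsPGroup p (K ⧸ D.subgroupOf K) := hW.of_equiv topEquiv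
  haveI := hW'.isNilpotent
  exact H24.isPSolvable_of_isSolvable hp.out _ inferInstance

theorem sup_eq_top [Finite G] [hp : Fact p.Prime] (h : MC p x) (hs : IsPSolvable p G) :
    pPrimeCore p G ⊔ zpowers x = ⊤ := by
  by_contra hK
  haveI := H52.pPrimeCore_characteristic (G := G) (p := p)
  set S := pPrimeCore p G
  have hS : (Nat.card S).Coprime p := H52.coprime_card_pPrimeCore
  obtain ⟨D, N, hg⟩ := h.good _ hK (mem_sup_right (mem_zpowers x))
  have h1 : D ⊓ S = ⊥ := h.nil_eq_bot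
    (H52.isSubnormal_of_le_normalizer (Normal.isSubnormal inferInstance) inf_le_right
      (le_norm_inf (le_sup_left.trans hg.nD) le_normalizer))
    (H52.isNilpotent_of_le inf_le_left hg.nil)
  have h2 : x ∈ centralizer (S : Set G) := by
    rw [mem_centralizer_iff]
    intro s hs
    have a1 : ⁅s, x⁆ ∈ S := comm_le_left (by rw [normalizer_eq_top]; exact le_top)
      (commutator_mem_commutator hs (mem_zpowers x))
    have a2 := hg.memD (hg.comm_mem (mem_sup_left hs) (mem_zpowers x)) (coprime_orderOf_of_mem hS a1)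
    exact commutatorElement_eq_one_iff_mul_comm.mp (h1.le ⟨a2, a1⟩)
  obtain ⟨M, hM, hne, hle, hc⟩ := H24.exists_normal_le_of_isPSolvable hp.out hs
    (centralizer (S : Set G)) (fun h' => h.ne_one (by rw [h'] at h2; exact h2))
  rcases hc with hc | hc
  · exact hne (h.core p hp.out M hM hc)
  · apply hne
    apply h.nil_eq_bot hM.isSubnormal
    apply H52.isNilpotent_of_commutator_eq_bot
    rw [comm_eq_bot_iff]
    exact hle.trans (cent_anti (H52.le_pPrimeCore hc))

theorem le_of_meet [Finite G] [Fact p.Prime] [Fact q.Prime] (h : MC p x) (hp2 : p ≠ 2)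
    (hqp : q ≠ p) {Q R : Subgroup G} (hQ : Maximal (· ∈ So q x) Q) (hR : R ∈ So q x)
    (hne : R ⊓ Q ≠ ⊥) : R ≤ Q := by
  obtain ⟨Q₀, hle, h0⟩ := Finite.exists_le_maximal (p := (· ∈ So q x)) hR
  obtain ⟨γ, hγ, e⟩ := link (So q x) ⊥ (fun Q hQ => hQ.1)
    (fun γ hγ Q hQ => by rw [mem_bot.mp hγ, cj_one]; exact hQ) (h.loc_So hp2 hqp ⊥) h0 hQ
    (fun h' => hne (eq_bot_iff.mpr ((inf_le_inf_right _ hle).trans h'.le)))
  rw [mem_bot.mp hγ, cj_one] at e
  exact e ▸ hle

theorem mem_core_of_coprime [Finite G] [hp : Fact p.Prime] (h : MC p x)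
    (ht : pPrimeCore p G ⊔ zpowers x = ⊤) {g : G} (hg : (orderOf g).Coprime p) :
    g ∈ pPrimeCore p G := by
  haveI := H52.pPrimeCore_characteristic (G := G) (p := p)
  obtain ⟨s, hs, y, hy, rfl⟩ := (mem_sup_left_norm (H := zpowers x) (N := pPrimeCore p G)
    (by rw [normalizer_eq_top]; exact le_top)).mp (ht ▸ mem_top g)
  apply mem_of_pow_mem_of_coprime _ hg
  rw [← QuotientGroup.eq_one_iff, QuotientGroup.mk_pow, QuotientGroup.mk_mul,
    (QuotientGroup.eq_one_iff s).mpr hs, one_mul, ← QuotientGroup.mk_pow, ← h.ord,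
    orderOf_dvd_iff_pow_eq_one.mp (orderOf_dvd_of_mem_zpowers hy), QuotientGroup.mk_one]

theorem Dq_pgroup [Finite G] [hp : Fact p.Prime] (h : MC p x) (hp2 : p ≠ 2)
    (ht : pPrimeCore p G ⊔ zpowers x = ⊤) (hq : q.Prime) (hqp : q ≠ p) :
    IsPGroup q (Dq q x) := by
  haveI := Fact.mk hq
  haveI := H52.pPrimeCore_characteristic (G := G) (p := p)
  set S := pPrimeCore p G
  have hS : (Nat.card S).Coprime p := H52.coprime_card_pPrimeCore
  have a1 : zpowers x ≤ normalizer (S : Set G) := by rw [normalizer_eq_top]; exact le_top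
  have a2 : (Nat.card (zpowers x)).Coprime (Nat.card S) := by
    rw [Nat.card_zpowers, h.ord]; exact hS.symm
  have a3 : Group.IsSolvable (zpowers x) ∨ Group.IsSolvable S := Or.inl inferInstance
  obtain ⟨P₀, hP₀⟩ := S0023.result (zpowers x) S a1 a2 a3 q
  set A := (P₀ : Subgroup S).map S.subtype
  have hA : IsPGroup q A := P₀.isPGroup'.map _
  have hxA : x ∈ normalizer (A : Set G) := hP₀ (mem_zpowers x)
  have key : ∀ Q : Subgroup G, IsPGroup q Q → x ∈ normalizer (Q : Set G) →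
      ∃ c ∈ Cx x, cm Q x ≤ cj c (cm A x) := by
    intro Q hQ hn
    obtain ⟨P, h1, h2⟩ := S0025.result (zpowers x) S a1 a2 a3 q Q
      (fun g hg => h.mem_core_of_coprime ht (coprime_orderOf_of_mem (coprime_of_pgroup hqp hQ) hg))
      hQ (zp_le_norm hn)
    obtain ⟨c, hc, e⟩ := S0024.result (zpowers x) S a1 a2 a3 q P₀ P hP₀ h2
    have hc' : (c : G) ∈ Cx x := mem_Cx.mpr (mem_centralizer_iff.mp hc x (mem_zpowers x))
    refine ⟨c, hc', ?_⟩
    rw [cj_cm hc']
    refine cm_mono (h1.trans ?_) x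
    rw [← e]
    rintro _ ⟨s, hs, rfl⟩
    obtain ⟨t, ht', rfl⟩ := (mem_smul_pointwise_iff_exists _ _ _).mp hs
    exact conj_mem_cj ⟨t, ht', rfl⟩
  by_cases h0 : cm A x = ⊥
  · refine IsPGroup.of_bot.to_le (Dq_le fun Q hQ hn => ?_)
    obtain ⟨c, -, hc⟩ := key Q hQ hn
    rwa [h0, cj_bot] at hc
  obtain ⟨Q₁, hle, h1⟩ := Finite.exists_le_maximal (p := (· ∈ So q x)) (h.cm_mem_So hp2 hqp hA hxA)
  obtain ⟨b, hb, y, hy, hne⟩ := exists_gen_ne_one h0
  refine h1.1.1.to_le (Dq_le fun Q hQ hn => ?_)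
  obtain ⟨c, hc, hle'⟩ := key Q hQ hn
  refine hle'.trans ((cj_mono c hle).trans ?_)
  obtain ⟨K, hK, hxK, hcK, hbK⟩ := h.f2 (coprime_of_pgroup hqp hA) hxA hb hc
  obtain ⟨D, N, hg⟩ := h.good K hK hxK
  have b1 := hg.gen_mem hqp h.pow hA hxA hb hbK hy
  have b2 : cm (pCoreOf q K) x ≤ Q₁ := h.le_of_meet hp2 hqp h1
    (h.cm_mem_So hp2 hqp (pCoreOf_isPGroup K) (le_norm_pCoreOf K hxK))
    (fun h' => hne (h'.le ⟨b1, hle (commutator_mem_commutator hb hy)⟩))
  refine h.le_of_meet hp2 hqp h1 ⟨isPGroup_cj h1.1.1 c, mem_norm_cj hc h1.1.2.1, ?_⟩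
    (fun h' => hne (h'.le ⟨?_, b2 b1⟩))
  · rw [← cj_eq_self (mem_norm_of_mem hc), ← cj_inf, cj_eq_self (mem_norm_of_mem hc),
      ← cj_eq_self (le_norm_pCoreOf (p := q) _ hc)]
    exact cj_mono c h1.1.2.2
  · apply cj_mono c b2
    rw [cj_eq_self (mem_norm_cm (le_norm_pCoreOf K hcK) hc)]
    exact b1

theorem part [Finite G] [hp : Fact p.Prime] (h : MC p x)
    (ht : pPrimeCore p G ⊔ zpowers x = ⊤) (hq : q.Prime) (hqp : q ≠ p) (g : G) :
    ∃ f ∈ Dq q x, ⁅f, x⁆ ^ ordCompl[q] (Nat.card G) = ⁅g, x⁆ ^ ordCompl[q] (Nat.card G) := by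
  haveI := Fact.mk hq
  haveI := H52.pPrimeCore_characteristic (G := G) (p := p)
  have hS : (Nat.card (pPrimeCore p G)).Coprime p := H52.coprime_card_pPrimeCore
  obtain ⟨s, hs, y, hy, rfl⟩ := (mem_sup_left_norm (H := zpowers x) (N := pPrimeCore p G)
    (by rw [normalizer_eq_top]; exact le_top)).mp (ht ▸ mem_top g)
  rw [comm_mul_Cx ((zpowers_le).mpr (self_mem_Cx x) hy) (mem_zpowers x)]
  set K := closure ({x, s} : Set G)
  obtain ⟨D, N, hg⟩ := h.good K (h.gen s) (left_mem_cl _ _)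
  have a1 : ⁅s, x⁆ ∈ pPrimeCore p G := comm_le_left (by rw [normalizer_eq_top]; exact le_top)
    (commutator_mem_commutator hs (mem_zpowers x))
  have a2 := hg.memD (hg.comm_mem (right_mem_cl x s) (mem_zpowers x)) (coprime_orderOf_of_mem hS a1)
  obtain ⟨d, hd, c, hc, e⟩ := exists_fixed (b := s) hg.cop h.pow (hg.nD hg.xK) (by
    have : x * s * x⁻¹ * s⁻¹ = ⁅s, x⁆⁻¹ := by simp only [commutatorElement_def]; group
    rw [this]; exact D.inv_mem a2)
  rw [e, comm_mul_Cx hc (mem_zpowers x)]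
  obtain ⟨a, b, ha, hb, rfl, ⟨k, hk⟩, hbc⟩ := exists_p_parts (p := q) d
  have haO : a ∈ pCoreOf q K := mem_pCoreOf_of_nil hg.nil hg.DK hg.nD ((zpowers_le).mpr hd ha) hk
  set R := (pPrimeCore q K).map K.subtype
  have hR : (Nat.card R).Coprime q := H52.coprime_card_map_pPrimeCore_subtype K
  have nR : K ≤ normalizer (R : Set G) :=
    le_normalizer.trans (H52.normalizer_le_normalizer_map_pPrimeCore K)
  have hbR : b ∈ R := by
    apply mem_of_primary
    rintro r hr hrd z hz ⟨j, hj⟩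
    haveI := Fact.mk hr
    have hrq : r ≠ q := by
      rintro rfl
      exact (Nat.Prime.coprime_iff_not_dvd hr).mp hbc.symm hrd
    exact H52.le_map_pPrimeCore_subtype (pCoreOf_le K) (le_norm_pCoreOf K)
      (coprime_of_pgroup hrq (pCoreOf_isPGroup K))
      (mem_pCoreOf_of_nil hg.nil hg.DK hg.nD ((zpowers_le).mpr ((zpowers_le).mpr hd hb) hz) hj)
  have hw : ⁅b, x⁆ ∈ R := cm_le (nR hg.xK) (commutator_mem_commutator hbR (mem_zpowers x))
  have hxO : x ∈ normalizer (pCoreOf q K : Set G) := le_norm_pCoreOf K hg.xK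
  have hv : ⁅a, x⁆ ∈ pCoreOf q K := cm_le hxO (commutator_mem_commutator haO (mem_zpowers x))
  have hc0 := comm_eq_bot_iff.mp (H52.commutator_eq_bot_of_isPGroup_of_coprime
    (pCoreOf_isPGroup K) hR ((pCoreOf_le K).trans nR)
    ((map_subtype_le _).trans (le_norm_pCoreOf K)))
  have c1 := mem_centralizer_iff.mp (hc0 hw) a haO
  have c2 := mem_centralizer_iff.mp (hc0 hw) _ hv
  have e2 : ⁅a * b, x⁆ = ⁅b, x⁆ * ⁅a, x⁆ := by
    calc ⁅a * b, x⁆ = a * ⁅b, x⁆ * a⁻¹ * ⁅a, x⁆ := by simp only [commutatorElement_def]; group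
      _ = ⁅b, x⁆ * ⁅a, x⁆ := by rw [c1]; group
  rw [e2, Commute.mul_pow c2.symm, pow_ordCompl_eq_one hq (coprime_orderOf_of_mem hR hw), one_mul]
  obtain ⟨β, hβ, c', hc', -, rfl⟩ := exists_cm (coprime_of_pgroup hqp (pCoreOf_isPGroup K)) h.pow
    hxO haO
  exact ⟨β, cm_le_Dq (pCoreOf_isPGroup K) hxO hβ, by rw [comm_mul_Cx hc' (mem_zpowers x)]⟩

theorem count [Finite G] [hp : Fact p.Prime] (h : MC p x) (hp2 : p ≠ 2)
    (ht : pPrimeCore p G ⊔ zpowers x = ⊤) (φ : ℕ → G) (hφ : ∀ s, φ s ∈ Dq s x) :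
    ∃ g : G, ∀ s : ℕ, s.Prime → s ∣ Nat.card G → s ≠ p →
      ⁅g, x⁆ ^ ordCompl[s] (Nat.card G) = ⁅φ s, x⁆ ^ ordCompl[s] (Nat.card G) := by
  classical
  haveI := H52.pPrimeCore_characteristic (G := G) (p := p)
  have hn : Nat.card G ≠ 0 := Nat.card_pos.ne'
  let I := (Nat.card G).primeFactors.erase p
  have hI : ∀ {s}, s ∈ I ↔ s.Prime ∧ s ∣ Nat.card G ∧ s ≠ p := by
    intro s
    simp only [I, Finset.mem_erase, Nat.mem_primeFactors]
    tauto
  let Y : ℕ → Set G := fun s => (fun t => t ^ ordCompl[s] (Nat.card G)) ''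
    ((fun g => ⁅g, x⁆) '' (Dq s x : Set G))
  let Ω : Set G := (fun g => ⁅g, x⁆) '' ((⊤ : Subgroup G) : Set G)
  let Φ : Ω → ∀ s : I, Y s := fun t s => ⟨t.1 ^ ordCompl[s] (Nat.card G), by
    obtain ⟨_, g, -, rfl⟩ := t
    obtain ⟨f, hf, e⟩ := h.part ht (hI.mp s.2).1 (hI.mp s.2).2.2 g
    exact ⟨_, ⟨f, hf, rfl⟩, e⟩⟩
  have hcop : ∀ t : Ω, (orderOf t.1).Coprime p := by
    rintro ⟨_, g, -, rfl⟩
    obtain ⟨s, hs, y, hy, rfl⟩ := (mem_sup_left_norm (H := zpowers x) (N := pPrimeCore p G)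
      (by rw [normalizer_eq_top]; exact le_top)).mp (ht ▸ mem_top g)
    show (orderOf ⁅s * y, x⁆).Coprime p
    rw [comm_mul_Cx ((zpowers_le).mpr (self_mem_Cx x) hy) (mem_zpowers x)]
    exact coprime_orderOf_of_mem H52.coprime_card_pPrimeCore
      (comm_le_left (by rw [normalizer_eq_top]; exact le_top)
        (commutator_mem_commutator hs (mem_zpowers x)))
  have hinj : Function.Injective Φ := by
    intro t t' e
    apply Subtype.ext
    apply eq_of_pow_ordCompl hp.out (hcop t) (hcop t')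
    intro s h1 h2 h3
    exact congrArg Subtype.val (congrFun e ⟨s, hI.mpr ⟨h1, h2, h3⟩⟩)
  have hcard : Nat.card (∀ s : I, Y s) ≤ Nat.card Ω := by
    rw [Nat.card_pi, Nat.card_coe_set_eq, card_img, relIndex_top_right]
    have b1 : ∏ s : I, Nat.card (Y s) ≤ ∏ s : I, (Cx x).relIndex (Dq s x) := by
      apply Finset.prod_le_prod' fun s _ => ?_
      rw [Nat.card_coe_set_eq, ← card_img]
      exact Set.ncard_image_le (Set.toFinite _)
    refine b1.trans (Nat.le_of_dvd (Nat.pos_of_ne_zero index_ne_zero_of_finite) ?_)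
    apply Finset.prod_dvd_of_isRelPrime
    · intro s _ s' _ hne
      haveI := Fact.mk (hI.mp s.2).1
      haveI := Fact.mk (hI.mp s'.2).1
      obtain ⟨i, hi⟩ := IsPGroup.iff_card.mp (h.Dq_pgroup hp2 ht (hI.mp s.2).1 (hI.mp s.2).2.2)
      obtain ⟨j, hj⟩ := IsPGroup.iff_card.mp (h.Dq_pgroup hp2 ht (hI.mp s'.2).1 (hI.mp s'.2).2.2)
      show IsRelPrime _ _
      rw [← Nat.coprime_iff_isRelPrime]
      refine Nat.Coprime.coprime_dvd_left (relIndex_dvd_card _ _)
        (Nat.Coprime.coprime_dvd_right (relIndex_dvd_card _ _) ?_)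
      rw [hi, hj]
      exact Nat.coprime_pow_primes _ _ (hI.mp s.2).1 (hI.mp s'.2).1 fun h' => hne (Subtype.ext h')
    · intro s _
      have : (Cx x).relIndex (Dq s x) = (Cx x).relIndex (Dq s x ⊔ Cx x) := by
        rw [← card_img, ← card_img]
        congr 1
        apply Set.Subset.antisymm (Set.image_mono (SetLike.coe_subset_coe.mpr le_sup_left))
        rintro _ ⟨g, hg, rfl⟩
        obtain ⟨d, hd, c, hc, rfl⟩ := (mem_sup_left_norm (Cx_le_norm_Dq x)).mp hg
        exact ⟨d, hd, (comm_mul_Cx hc (mem_zpowers x)).symm⟩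
      rw [this]
      exact relIndex_dvd_index_of_le le_sup_right
  have hsurj := (hinj.bijective_of_nat_card_le hcard).2
  obtain ⟨⟨_, g, hg, rfl⟩, e⟩ := hsurj fun s => ⟨_, _, ⟨φ s, hφ s, rfl⟩, rfl⟩
  exact ⟨g, fun s h1 h2 h3 => congrArg Subtype.val (congrFun e ⟨s, hI.mpr ⟨h1, h2, h3⟩⟩)⟩

theorem Dq_le_cm [Finite G] [hp : Fact p.Prime] [Fact q.Prime] (h : MC p x) (hqp : q ≠ p) :
    Dq q x ≤ cm (Dq q x) x := Dq_le fun _ hQ hn =>
  (cm_le_cm_cm (coprime_of_pgroup hqp hQ) h.pow hn).trans (cm_mono (cm_le_Dq hQ hn) x)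

theorem noE [Finite G] [hp : Fact p.Prime] (h : MC p x) (hp2 : p ≠ 2)
    (hno : ∀ u ∈ Cx x, u ^ p = 1 → u ∈ zpowers x) : False := by
  have ht := h.sup_eq_top (h.psolv hp2 hno)
  have hn : Nat.card G ≠ 0 := Nat.card_pos.ne'
  refine h.final (fun q hq hqp => h.Dq_pgroup hp2 ht hq hqp) fun q r hq hr hqp hrp hqr => ?_
  haveI := Fact.mk hq
  haveI := Fact.mk hr
  have hQ := h.Dq_pgroup hp2 ht hq hqp
  have hR := h.Dq_pgroup hp2 ht hr hrp
  have nQ : x ∈ normalizer (Dq q x : Set G) := Cx_le_norm_Dq x (self_mem_Cx x)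
  have nR : x ∈ normalizer (Dq r x : Set G) := Cx_le_norm_Dq x (self_mem_Cx x)
  refine (h.Dq_le_cm hrp).trans (le_trans ?_ (cent_anti (h.Dq_le_cm hqp)))
  apply cm_cent
  intro b hb y hy ρ hρ z hz
  obtain ⟨g, hg⟩ := h.count hp2 ht (fun s => if s = q then b else if s = r then ρ else 1) (by
    intro s
    split_ifs with h1 h2
    · rw [h1]; exact hb
    · rw [h2]; exact hρ
    · exact one_mem _)
  set K := closure ({x, g} : Set G)
  obtain ⟨D, N, hG⟩ := h.good K (h.gen g) (left_mem_cl _ _)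
  have hgK : ⁅g, x⁆ ∈ K := commutator_le_self K
    (commutator_mem_commutator (right_mem_cl _ _) (left_mem_cl _ _))
  have key : ∀ s : ℕ, s.Prime → IsPGroup s (Dq s x) → ∀ f ∈ Dq s x, (s ∣ Nat.card G →
      ⁅g, x⁆ ^ ordCompl[s] (Nat.card G) = ⁅f, x⁆ ^ ordCompl[s] (Nat.card G)) →
      f * x * f⁻¹ ∈ K := by
    intro s hs hS f hf e
    have a1 : ⁅f, x⁆ ∈ Dq s x := cm_le (Cx_le_norm_Dq x (self_mem_Cx x))
      (commutator_mem_commutator hf (mem_zpowers x))
    obtain ⟨k, hk⟩ := isPGroup_iff.mp hS _ a1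
    have a2 : ⁅f, x⁆ ∈ K := by
      by_cases hd : s ∣ Nat.card G
      · refine mem_of_pelt_of_pow_mem hk ?_ (Nat.coprime_ordCompl hs hn).symm
        rw [← e hd]; exact K.pow_mem hgK _
      · rw [eq_one_of_ppow hk (Nat.Coprime.coprime_dvd_left (orderOf_dvd_natCard _)
          ((Nat.Prime.coprime_iff_not_dvd hs).mpr hd).symm)]
        exact K.one_mem
    have : f * x * f⁻¹ = ⁅f, x⁆ * x := by simp only [commutatorElement_def]; group
    rw [this]; exact K.mul_mem a2 hG.xK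
  have k1 := key q hq hQ b hb fun hd => by simpa using hg q hq hd hqp
  have k2 := key r hr hR ρ hρ fun hd => by simpa [hqr.symm] using hg r hr hd hrp
  exact commute_pCoreOf hqr (cm_le (le_norm_pCoreOf K hG.xK) (hG.gen_mem hqp h.pow hQ nQ hb k1 hy))
    (cm_le (le_norm_pCoreOf K hG.xK) (hG.gen_mem hrp h.pow hR nR hρ k2 hz))

/-- The minimal configuration does not exist. -/
theorem false [Finite G] [hp : Fact p.Prime] (h : MC p x) : False := by
  by_cases hp2 : p = 2
  · subst hp2; exact h.two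
  by_cases hno : ∀ u ∈ Cx x, u ^ p = 1 → u ∈ zpowers x
  · exact h.noE hp2 hno
  · push Not at hno
    obtain ⟨u, h1, h2, h3⟩ := hno
    exact CE.odd ⟨h, h1, h2, h3⟩ hp2

end MC

end Cfsg.Agent.H98.Fl
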