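import Mathlib
import Cfsg.Agent.H98.FlE

/-!
Second Fitting subgroup and two-generated subgroups: the reduction and the theorem.
-/

set_option autoImplicit false
open Subgroup Cfsg
open scoped Pointwise commutatorElement

namespace Cfsg.Agent.H98.Fl
open Cfsg.Agent.H83

universe u

variable {G : Type*} [Group G] {p q r : ℕ}

theorem top_le_norm (N : Subgroup G) [N.Normal] : ⊤ ≤ normalizer (N : Set G) :=
  (normalizer_eq_top N).ge

theorem le_norm (H N : Subgroup G) [N.Normal] : H ≤ normalizer (N : Set G) :=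
  le_top.trans (top_le_norm N)

theorem good_of_core [Finite G] [Fact p.Prime] [hF : (fittingSubgroup G).Normal] {x : G}
    (h : QuotientGroup.mk' (fittingSubgroup G) x ∈
      pCoreOf p (⊤ : Subgroup (G ⧸ fittingSubgroup G))) : Good p x ⊤ := by
  haveI := H52.pPrimeCore_characteristic (G := G) (p := p)
  set f := QuotientGroup.mk' (fittingSubgroup G)
  haveI : (pCoreOf p (⊤ : Subgroup (G ⧸ fittingSubgroup G))).Normal :=
    H52.normal_of_top_le_normalizer (le_norm_pCoreOf ⊤)
  refine ⟨fittingSubgroup G ⊓ pPrimeCore p G, (pCoreOf p ⊤).comap f, ?_, le_top, top_le_norm _,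
    top_le_norm _, H52.isNilpotent_of_le inf_le_left H52.fitting_isNilpotent,
    H52.coprime_card_of_le inf_le_right H52.coprime_card_pPrimeCore, ?_, h⟩
  · intro d hd
    rw [mem_comap, show f d = 1 from (QuotientGroup.eq_one_iff _).mpr hd.1]
    exact one_mem _
  · intro n hn
    obtain ⟨k, hk⟩ := isPGroup_iff.mp (pCoreOf_isPGroup ⊤) _ hn
    have h1 : n ^ p ^ k ∈ fittingSubgroup G := by
      rw [← map_pow] at hk; exact (QuotientGroup.eq_one_iff _).mp hk
    rw [H52.fitting_eq_pCore_sup_inf (p := p)] at h1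
    obtain ⟨a, ha, b, hb, e⟩ := (mem_sup_right_norm (le_norm _ _)).mp h1
    obtain ⟨j, hj⟩ := isPGroup_iff.mp pCore_isPGroup a ha
    refine ⟨k + j, ?_⟩
    rw [pow_add, pow_mul, ← e, ← QuotientGroup.eq_one_iff, QuotientGroup.mk_pow,
      QuotientGroup.mk_mul, (QuotientGroup.eq_one_iff b).mpr hb, mul_one, ← QuotientGroup.mk_pow,
      hj, QuotientGroup.mk_one]

theorem good_iff [Finite G] [Fact p.Prime] [hF : (fittingSubgroup G).Normal] {x : G} {k : ℕ}
    (hx : x ^ p ^ k = 1) :
    x ∈ (fittingSubgroup (G ⧸ fittingSubgroup G)).comap (QuotientGroup.mk' (fittingSubgroup G)) ↔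
      Good p x ⊤ := by
  set f := QuotientGroup.mk' (fittingSubgroup G)
  haveI := H52.fitting_normal (G := G ⧸ fittingSubgroup G)
  constructor
  · intro h
    exact good_of_core (mem_pCoreOf_of_nil H52.fitting_isNilpotent le_top (top_le_norm _) h
      (k := k) (by rw [← map_pow, hx, map_one]))
  · rintro ⟨D, N, h⟩
    haveI : D.Normal := H52.normal_of_top_le_normalizer h.nD
    haveI : N.Normal := H52.normal_of_top_le_normalizer h.nN
    haveI : (N.map f).Normal := Normal.map inferInstance f (QuotientGroup.mk'_surjective _)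
    have hU : IsPGroup p (N.map f) := by
      rw [isPGroup_iff]
      rintro _ ⟨n, hn, rfl⟩
      obtain ⟨j, hj⟩ := h.pq n hn
      exact ⟨j, by rw [← map_pow]; exact (QuotientGroup.eq_one_iff _).mpr (H52.le_fitting h.nil hj)⟩
    exact H52.le_fitting hU.isNilpotent (mem_map_of_mem f h.xN)

/-- Complement counting over an abelian minimal normal subgroup. -/
theorem red_aux [Finite G] [Fact p.Prime] [hq : Fact q.Prime] [hr : Fact r.Prime] (hrp : r ≠ p)
    (hrq : r ≠ q) {x : G} (gen : ∀ y, closure ({x, y} : Set G) ≠ ⊤)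
    (good : ∀ K : Subgroup G, K ≠ ⊤ → x ∈ K → Good p x K) {V : Subgroup G} [V.Normal]
    (hV : IsPGroup q V) (hab : V ≤ centralizer (V : Set G))
    (hmin : ∀ L : Subgroup G, L.Normal → L ≤ V → L = ⊥ ∨ L = V) {a : G}
    (ha : QuotientGroup.mk' V a ∈ pCoreOf r (⊤ : Subgroup (G ⧸ V))) :
    ⁅a, x⁆ ∈ centralizer (V : Set G) := by
  by_contra hcon
  set f := QuotientGroup.mk' V with hf
  have hker : ∀ {g : G}, f g = 1 ↔ g ∈ V := fun {g} => QuotientGroup.eq_one_iff g
  haveI : (pCoreOf r (⊤ : Subgroup (G ⧸ V))).Normal :=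
    H52.normal_of_top_le_normalizer (le_norm_pCoreOf ⊤)
  set Dr := (pCoreOf r (⊤ : Subgroup (G ⧸ V))).comap f with hDr
  have hVD : V ≤ Dr := fun v hv => by rw [mem_comap, hker.mpr hv]; exact one_mem _
  have haD : a ∈ Dr := ha
  have hw : ⁅a, x⁆ ∈ Dr := comm_le_left (le_norm _ _) (commutator_mem_commutator haD (mem_zpowers x))
  have htop : V ⊔ closure ({x, a} : Set G) = ⊤ := by
    by_contra hK
    obtain ⟨D, N, hg⟩ := good _ hK (mem_sup_right (left_mem_cl _ _))
    apply hcon
    apply mem_of_primary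
    rintro s hs - y hy ⟨k, hk⟩
    haveI := Fact.mk hs
    by_cases hsr : s = r
    · subst hsr
      have h1 := hg.mem_core hrp ((zpowers_le).mpr
        (hg.comm_mem (mem_sup_right (right_mem_cl _ _)) (mem_zpowers x)) hy) hk
      rw [mem_centralizer_iff]
      intro v hv
      exact (commute_pCoreOf hrq h1 (le_pCoreOf le_sup_left (le_norm _ _) hV hv)).symm
    · apply hab
      apply hker.mp
      exact eq_one_of_mem_pgroup (pCoreOf_isPGroup ⊤) ((zpowers_le).mpr hw hy)
        (coprime_order_of_pelt hsr (k := k) (by rw [← map_pow, hk, map_one]))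
  let K : G → Subgroup G := fun v => closure ({x, a * v} : Set G)
  have hKtop : ∀ v ∈ V, V ⊔ K v = ⊤ := by
    intro v hv
    rw [eq_top_iff, ← htop]
    refine sup_le le_sup_left (cl_le (mem_sup_right (left_mem_cl _ _)) ?_)
    exact ((V ⊔ K v).mul_mem_cancel_right (mem_sup_left hv)).mp (mem_sup_right (right_mem_cl _ _))
  have hnorm : ∀ v ∈ V, ∀ L : Subgroup G, L ≤ V → K v ≤ normalizer (L : Set G) → L = ⊥ ∨ L = V := by
    intro v hv L hL hn
    refine hmin L (H52.normal_of_top_le_normalizer ?_) hL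
    rw [← hKtop v hv]
    exact sup_le (le_norm_of_le_cent (hab.trans (cent_anti hL))) hn
  have huniq : ∀ v ∈ V, ∀ g ∈ K v, ∀ h ∈ K v, f g = f h → g = h := by
    intro v hv g hg h hh e
    rcases hnorm v hv (K v ⊓ V) inf_le_right (le_norm_inf le_normalizer (le_norm _ _)) with h0 | h0
    · have : g⁻¹ * h ∈ K v ⊓ V := ⟨(K v).mul_mem ((K v).inv_mem hg) hh, hker.mp (by simp [e])⟩
      rw [h0, mem_bot, inv_mul_eq_one] at this
      exact this
    · exfalso
      apply gen (a * v)
      rw [eq_top_iff, ← hKtop v hv]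
      exact sup_le (h0.ge.trans inf_le_left) le_rfl
  have hR : ∀ v ∈ V, IsPGroup r (K v ⊓ Dr : Subgroup G) := by
    intro v hv
    rw [isPGroup_iff]
    intro g hg
    obtain ⟨k, hk⟩ := isPGroup_iff.mp (pCoreOf_isPGroup ⊤) _ hg.2
    exact ⟨k, huniq v hv _ (pow_mem hg.1 _) _ (one_mem _) (by rw [map_pow, hk, map_one])⟩
  have hdec : ∀ v ∈ V, ∀ d ∈ Dr, ∃ w ∈ V, ∃ t ∈ K v ⊓ Dr, w * t = d := by
    intro v hv d hd
    obtain ⟨w, hw, t, ht, e⟩ := (mem_sup_left_norm (le_norm (K v) V)).mp (hKtop v hv ▸ mem_top d)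
    refine ⟨w, hw, t, ⟨ht, ?_⟩, e⟩
    rw [← e] at hd
    exact (Dr.mul_mem_cancel_left (hVD hw)).mp hd
  have hxK : ∀ v, x ∈ K v := fun v => left_mem_cl _ _
  have haK : a ∈ K 1 := ((K 1).mul_mem_cancel_right (one_mem _)).mp (right_mem_cl x (a * 1))
  have nR : ∀ v, K v ≤ normalizer ((K v ⊓ Dr : Subgroup G) : Set G) := fun v =>
    le_norm_inf le_normalizer (le_norm _ _)
  have hZ : V ⊓ centralizer ((K 1 ⊓ Dr : Subgroup G) : Set G) = ⊥ := by
    rcases hnorm 1 V.one_mem _ inf_le_left (le_norm_inf (le_norm _ _) (le_norm_cent (nR 1)))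
      with h0 | h0
    · exact h0
    · exfalso
      apply hcon
      refine le_centralizer_iff.mp (h0.ge.trans inf_le_right) ⟨?_, hw⟩
      exact commutator_le_self _ (commutator_mem_commutator haK (hxK 1))
  have hsurj : ∀ v ∈ V, ∃ w ∈ V ⊓ Cx x, a⁻¹ * w * a * w⁻¹ = v := by
    intro v hv
    obtain ⟨γ, hγ, S, hSD, hS, s1, s2⟩ := exists_conj_le (H := Dr) (Y := K 1 ⊓ Dr) (Z := K v ⊓ Dr)
      inf_le_right inf_le_right (hR 1 V.one_mem) (hR v hv)
    have hSK : S ≤ K v := by
      intro s hs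
      obtain ⟨w, hw, t, ht, rfl⟩ := hdec v hv s (hSD hs)
      have hwS : w ∈ S := (S.mul_mem_cancel_right (s2 ht)).mp hs
      rw [disjoint_def.mp (IsPGroup.disjoint_of_ne r q hrq S V hS hV) hwS hw, one_mul]
      exact ht.1
    obtain ⟨w, hw, t, ht, rfl⟩ := hdec 1 V.one_mem γ hγ
    rw [cj_mul, cj_eq_self (mem_norm_of_mem ht)] at s1
    have hwK : ∀ t ∈ K 1 ⊓ Dr, w * t * w⁻¹ ∈ K v := fun t ht => hSK (s1 (conj_mem_cj ht))
    have hw1 : f w = 1 := hker.mpr hw
    have e1 : w * a * w⁻¹ = a * v := huniq v hv _ (hwK a ⟨haK, haD⟩) _ (right_mem_cl _ _)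
      (by simp [hw1, hker.mpr hv])
    have e2 : w⁻¹ * (x * w * x⁻¹) = 1 := by
      rw [← mem_bot, ← hZ]
      refine mem_inf.mpr ⟨V.mul_mem (V.inv_mem hw) (Normal.conj_mem inferInstance w hw x), ?_⟩
      rw [mem_centralizer_iff]
      intro t ht
      have b1 := hwK _ (conj_mem' (nR 1) (hxK 1) ht)
      have b2 := huniq v hv _ (conj_mem le_normalizer (hxK v) b1) _ (hwK t ht) (by
        simp only [map_mul, map_inv, hw1]; group)
      calc t * (w⁻¹ * (x * w * x⁻¹)) = w⁻¹ * (w * t * w⁻¹) * (x * w * x⁻¹) := by group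
        _ = w⁻¹ * (x * w * x⁻¹) * t := by rw [← b2]; group
    refine ⟨w, ⟨hw, mem_Cx.mpr ?_⟩, ?_⟩
    · calc x * w = w * (w⁻¹ * (x * w * x⁻¹)) * x := by group
        _ = w * x := by rw [e2, mul_one]
    · calc a⁻¹ * w * a * w⁻¹ = a⁻¹ * (w * a * w⁻¹) := by group
        _ = v := by rw [e1]; group
  let ψ : (V ⊓ Cx x : Subgroup G) → V := fun w => ⟨a⁻¹ * w * a * (w : G)⁻¹,
    mul_mem (Normal.conj_mem' inferInstance _ w.2.1 a) (inv_mem w.2.1)⟩
  have hψ : Function.Surjective ψ := by
    intro v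
    obtain ⟨w, hw, e⟩ := hsurj v v.2
    exact ⟨⟨w, hw⟩, Subtype.ext e⟩
  have hVx : V ⊓ Cx x = V := eq_of_le_of_card_ge inf_le_left (Nat.card_le_card_of_surjective ψ hψ)
  have hxC : x ∈ centralizer (V : Set G) := by
    rw [mem_centralizer_iff]
    intro v hv
    exact (mem_Cx.mp ((hVx.ge.trans inf_le_right) hv)).symm
  exact hcon (mul_mem (Normal.conj_mem inferInstance x hxC a) (inv_mem hxC))

theorem red [Finite G] [Fact p.Prime] [hq : Fact q.Prime] {x : G} {k : ℕ} (hx : x ^ p ^ k = 1)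
    (gen : ∀ y, closure ({x, y} : Set G) ≠ ⊤)
    (good : ∀ K : Subgroup G, K ≠ ⊤ → x ∈ K → Good p x K) {V : Subgroup G} [V.Normal]
    (hV : IsPGroup q V) (hab : V ≤ centralizer (V : Set G))
    (hmin : ∀ L : Subgroup G, L.Normal → L ≤ V → L = ⊥ ∨ L = V)
    (hquot : Good p (QuotientGroup.mk' V x) ⊤) : Good p x ⊤ := by
  obtain ⟨D', N', h⟩ := hquot
  set f := QuotientGroup.mk' V with hf
  have hker : ∀ {g : G}, f g = 1 ↔ g ∈ V := fun {g} => QuotientGroup.eq_one_iff g
  haveI : D'.Normal := H52.normal_of_top_le_normalizer h.nD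
  haveI : N'.Normal := H52.normal_of_top_le_normalizer h.nN
  haveI hF := H52.fitting_normal (G := G)
  set F := fittingSubgroup G
  set π := QuotientGroup.mk' F
  have hπ : Function.Surjective π := QuotientGroup.mk'_surjective F
  set D := D'.comap f
  set N := N'.comap f
  have h1 : D ⊓ centralizer (V : Set G) ≤ F := by
    apply H52.le_fitting
    haveI := h.nil
    let φ : (D ⊓ centralizer (V : Set G) : Subgroup G) →* D' :=
      (f.comp (Subgroup.subtype _)).codRestrict D' fun d => d.2.1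
    refine Subgroup.isNilpotent_of_ker_le_center φ fun d hd => ?_
    have hdV : (d : G) ∈ V := hker.mp (congrArg Subtype.val hd)
    rw [mem_center_iff]
    intro m
    exact Subtype.ext (mem_centralizer_iff.mp m.2.2 d hdV).symm
  have h2 : (pCoreOf q (⊤ : Subgroup (G ⧸ V))).comap f ≤ F := by
    haveI : (pCoreOf q (⊤ : Subgroup (G ⧸ V))).Normal :=
      H52.normal_of_top_le_normalizer (le_norm_pCoreOf ⊤)
    apply H52.le_fitting
    refine IsPGroup.isNilpotent (p := q) ((pCoreOf_isPGroup ⊤).comap_of_ker_isPGroup f ?_)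
    rw [hf, QuotientGroup.ker_mk']; exact hV
  have hF1 : ∀ y ∈ F, y ∈ (Cx (π x)).comap π := by
    intro y hy
    rw [mem_comap, show π y = 1 from (QuotientGroup.eq_one_iff _).mpr hy]
    exact one_mem _
  have h3 : D ≤ (Cx (π x)).comap π := by
    intro d hd
    apply mem_of_primary
    rintro s hs - y hy ⟨j, hj⟩
    haveI := Fact.mk hs
    have hyD : y ∈ D := (zpowers_le).mpr hd hy
    have hj' : f y ^ s ^ j = 1 := by rw [← map_pow, hj, map_one]
    have hyO : f y ∈ pCoreOf s ⊤ := mem_pCoreOf_of_nil h.nil le_top h.nD hyD hj'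
    by_cases hsq : s = q
    · subst hsq; exact hF1 y (h2 hyO)
    by_cases hsp : s = p
    · subst hsp
      refine hF1 y (h2 ?_)
      rw [mem_comap, eq_one_of_ppow hj' (coprime_orderOf_of_mem h.cop hyD)]
      exact one_mem _
    have a1 := red_aux hsp hsq gen good hV hab hmin hyO
    have a2 : ⁅y, x⁆ ∈ D := comm_le_left (le_norm _ _) (commutator_mem_commutator hyD (mem_zpowers x))
    have a3 : π ⁅y, x⁆ = 1 := (QuotientGroup.eq_one_iff _).mpr (h1 ⟨a2, a1⟩)
    rw [map_commutatorElement, commutatorElement_eq_one_iff_mul_comm] at a3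
    exact mem_Cx.mpr a3.symm
  haveI : (D.map π).Normal := Normal.map inferInstance π hπ
  haveI : (N.map π).Normal := Normal.map inferInstance π hπ
  refine good_of_core (mem_core_of_cent (D := D.map π) (N := N.map π) le_top (top_le_norm _)
    (top_le_norm _) ?_ (mem_map_of_mem π h.xN) (k := k) (by rw [← map_pow, hx, map_one]) ?_)
  · rintro _ ⟨n, hn, rfl⟩
    obtain ⟨j, hj⟩ := h.pq _ hn
    exact ⟨j, n ^ p ^ j, by rw [← map_pow] at hj; exact hj, by simp⟩
  · rw [mem_centralizer_iff]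
    rintro _ ⟨d, hd, rfl⟩
    exact (mem_Cx.mp (h3 hd)).symm

theorem hyp_pow {x z : G} (hz : z ∈ zpowers x) (H : ∀ y, Good p x (closure ({x, y} : Set G)))
    (y : G) : Good p z (closure ({z, y} : Set G)) := by
  obtain ⟨D, N, h⟩ := H y
  exact ⟨_, _, (h.of_mem ((zpowers_le).mpr h.xN hz)).mono
    (cl_le ((zpowers_le).mpr h.xK hz) (right_mem_cl _ _)) (left_mem_cl _ _)⟩

theorem main [hp : Fact p.Prime] (n : ℕ) : ∀ (G : Type u) [Group G] [Finite G], Nat.card G = n →
    ∀ (x : G) (k : ℕ), x ^ p ^ k = 1 → (∀ y, Good p x (closure ({x, y} : Set G))) →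
      Good p x ⊤ := by
  induction n using Nat.strong_induction_on with
  | _ n ih =>
    intro G _ _ hn x k hx H
    by_contra hcon
    have gen : ∀ y, closure ({x, y} : Set G) ≠ ⊤ := fun y h' => hcon (h' ▸ H y)
    have good : ∀ z ∈ zpowers x, ∀ K : Subgroup G, K ≠ ⊤ → z ∈ K → Good p z K := by
      intro z hz K hK hzK
      have hzp : z ^ p ^ k = 1 := orderOf_dvd_iff_pow_eq_one.mp
        ((orderOf_dvd_of_mem_zpowers hz).trans (orderOf_dvd_of_pow_eq_one hx))
      obtain ⟨D, N, h⟩ := ih _ (hn ▸ H52.card_lt_card_of_ne_top hK) K rfl ⟨z, hzK⟩ k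
        (Subtype.ext (by simpa using hzp)) (fun y => by
          obtain ⟨D, N, h⟩ := hyp_pow hz H y
          exact ⟨_, _, (h.subgroupOf hzK).mono (cl_le (left_mem_cl _ _) (right_mem_cl _ _))
            (left_mem_cl _ _)⟩)
      have := h.map K.subtype
      rw [← MonoidHom.range_eq_map, range_subtype] at this
      exact ⟨_, _, this⟩
    by_cases hc : ∀ q : ℕ, q.Prime → ∀ N : Subgroup G, N.Normal → IsPGroup q N → N = ⊥
    · have hx1 : x ≠ 1 := by
        rintro rfl
        exact hcon ⟨⊥, ⊥, le_rfl, bot_le, top_le_norm _, top_le_norm _, inferInstance,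
          by simp, fun n hn => ⟨0, by simpa using hn⟩, one_mem _⟩
      have hdvd : p ∣ orderOf x := by
        obtain ⟨j, -, hj⟩ := (Nat.dvd_prime_pow hp.out).mp (orderOf_dvd_of_pow_eq_one hx)
        rw [hj]
        refine dvd_pow_self p fun h0 => hx1 ?_
        rw [h0, pow_zero] at hj; exact orderOf_eq_one_iff.mp hj
      have hz : x ^ (orderOf x / p) ∈ zpowers x := pow_mem (mem_zpowers x) _
      refine MC.false (p := p) (x := x ^ (orderOf x / p)) ⟨hc,
        orderOf_pow_orderOf_div (orderOf_pos x).ne' hdvd, fun y h' => gen y ?_, good _ hz⟩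
      rw [eq_top_iff, ← h']
      exact cl_le ((zpowers_le).mpr (left_mem_cl _ _) hz) (right_mem_cl _ _)
    · push Not at hc
      obtain ⟨q, hq, M, hM, hMq, hne⟩ := hc
      haveI := Fact.mk hq
      obtain ⟨V, hV, hVne, hVM, hmin⟩ := H52.exists_minimal_normal M hne
      have hVq : IsPGroup q V := hMq.to_le hVM
      have hab : V ≤ centralizer (V : Set G) := by
        rcases hmin (V ⊓ centralizer (V : Set G)) inferInstance inf_le_left with h0 | h0
        · exact absurd h0 (inf_centralizer_ne_bot hVq hVq le_normalizer hVne)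
        · exact h0.ge.trans inf_le_right
      refine hcon (red hx gen (good x (mem_zpowers x)) hVq hab hmin ?_)
      refine ih _ (hn ▸ H52.card_quotient_lt hVne) (G ⧸ V) rfl _ k
        (by rw [← map_pow, hx, map_one]) fun y => ?_
      obtain ⟨y, rfl⟩ := QuotientGroup.mk'_surjective V y
      obtain ⟨D, N, h⟩ := H y
      exact ⟨_, _, (h.map (QuotientGroup.mk' V)).mono
        (cl_le (mem_map_of_mem _ (left_mem_cl _ _)) (mem_map_of_mem _ (right_mem_cl _ _)))
        (left_mem_cl _ _)⟩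

theorem flavell [Finite G] [hF : (fittingSubgroup G).Normal]
    (hK : ∀ K : Subgroup G, (fittingSubgroup K).Normal) (x : G) :
    x ∈ (fittingSubgroup (G ⧸ fittingSubgroup G)).comap (QuotientGroup.mk' (fittingSubgroup G)) ↔
      ∀ y : G, ∀ hx : x ∈ closure ({x, y} : Set G),
        haveI := hK (closure ({x, y} : Set G));
        (⟨x, hx⟩ : closure ({x, y} : Set G)) ∈
          (fittingSubgroup (closure ({x, y} : Set G) ⧸
            fittingSubgroup (closure ({x, y} : Set G)))).comap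
            (QuotientGroup.mk' (fittingSubgroup (closure ({x, y} : Set G)))) := by
  constructor
  · intro h y hx
    haveI := hK (closure ({x, y} : Set G))
    apply mem_of_primary
    rintro r hr - z hz ⟨k, hk⟩
    haveI := Fact.mk hr
    have hz' : (z : G) ∈ zpowers x := by
      obtain ⟨i, rfl⟩ := mem_zpowers_iff.mp hz
      exact zpow_mem (mem_zpowers x) i
    obtain ⟨D, N, hg⟩ := (good_iff (p := r) (k := k) (congrArg Subtype.val hk)).mp
      ((zpowers_le).mpr h hz')
    have := hg.subgroupOf z.2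
    rw [top_subgroupOf] at this
    exact (good_iff hk).mpr ⟨_, _, this⟩
  · intro h
    apply mem_of_primary
    rintro r hr - z hz ⟨k, hk⟩
    haveI := Fact.mk hr
    refine (good_iff hk).mpr (main _ G rfl z k hk fun y => ?_)
    haveI := hK (closure ({x, y} : Set G))
    have hzK : z ∈ closure ({x, y} : Set G) := (zpowers_le).mpr (left_mem_cl _ _) hz
    have hz' : (⟨z, hzK⟩ : closure ({x, y} : Set G)) ∈ zpowers ⟨x, left_mem_cl _ _⟩ := by
      obtain ⟨i, rfl⟩ := mem_zpowers_iff.mp hz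
      exact mem_zpowers_iff.mpr ⟨i, rfl⟩
    obtain ⟨D, N, hg⟩ := (good_iff (p := r) (k := k) (Subtype.ext (by simpa using hk))).mp
      ((zpowers_le).mpr (h y (left_mem_cl _ _)) hz')
    have := hg.map (Subgroup.subtype _)
    rw [← MonoidHom.range_eq_map, range_subtype] at this
    exact ⟨_, _, this.mono (cl_le hzK (right_mem_cl _ _)) (left_mem_cl _ _)⟩

end Cfsg.Agent.H98.Fl
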