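import Cfsg.Agent.H98.HallSym2
import Cfsg.Agent.H2.Hall
import Cfsg.Agent.S3878

/-! Hall subgroups of symmetric and alternating groups (P. Hall, Thompson). -/

set_option autoImplicit false

namespace Cfsg.Agent.H98.HallS

open Equiv Equiv.Perm Subgroup Cfsg.Agent.H78 Cfsg.Agent.H2

section General

variable {G : Type*} [Group G] [Finite G] {π : Set ℕ}

omit [Finite G] in
theorem index_map_conj (g : G) (P : Subgroup G) :
    (P.map (MulAut.conj g).toMonoidHom).index = P.index :=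
  index_map_of_bijective (MulAut.conj g).bijective P

theorem hall_of_maximal (h : IsDPiGroup π G) {M : Subgroup G} (hM : Maximal (IsPiSubgroup π) M) :
    IsPiHall π M := by
  refine ⟨hM.prop, fun p hp hπ hd => ?_⟩
  haveI : Fact p.Prime := ⟨hp⟩
  obtain ⟨P⟩ : Nonempty (Sylow p G) := inferInstance
  obtain ⟨K, hPK, hK⟩ := Finite.exists_le_maximal (p := IsPiSubgroup π) (a := (P : Subgroup G))
    (isPiNum_card_of_isPGroup hp hπ P.isPGroup')
  obtain ⟨g, rfl⟩ := h M K hM hK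
  exact P.not_dvd_index ((index_map_conj g M ▸ hd).trans (index_dvd_of_le hPK))

theorem exists_hall_ge_of_D (h : IsDPiGroup π G) {Y : Subgroup G} (hY : IsPiNum π (Nat.card Y)) :
    ∃ M : Subgroup G, IsPiHall π M ∧ Y ≤ M := by
  obtain ⟨K, hPK, hK⟩ := Finite.exists_le_maximal (p := IsPiSubgroup π) (a := Y) hY
  exact ⟨K, hall_of_maximal h hK, hPK⟩

theorem C_of_D (h : IsDPiGroup π G) : IsCPiGroup π G := by
  have key : ∀ M : Subgroup G, IsPiHall π M → Maximal (IsPiSubgroup π) M := fun M hM =>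
    ⟨hM.1, fun K hK hle => (eq_of_isPiHall_of_le hM hK hle).ge⟩
  exact ⟨S3878.E_of_D h, fun H K hH hK => h H K (key H hH) (key K hK)⟩

theorem D_of_local
    (h : (∀ r s : ℕ, r.Prime → s.Prime → r ∈ π → s ∈ π → r ∣ Nat.card G → s ∣ Nat.card G → r = s) ∨
      ∀ r : ℕ, r.Prime → r ∣ Nat.card G → r ∈ π) : IsDPiGroup π G := by
  rcases h with h | h
  · have h1 := S3878.D_of (π ∩ {r | r ∣ Nat.card G})
      (Or.inl fun p q hp hq h1 h2 => h p q hp hq h1.1 h2.1 h1.2 h2.2) G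
    have h2 : IsPiSubgroup (G := G) (π ∩ {r | r ∣ Nat.card G}) = IsPiSubgroup π := by
      funext K
      exact propext ⟨fun k p hp hd => (k p hp hd).1,
        fun k p hp hd => ⟨k p hp hd, hd.trans (card_subgroup_dvd_card K)⟩⟩
    unfold IsDPiGroup at h1 ⊢
    rwa [h2] at h1
  · have h1 := S3878.D_of Set.univ (Or.inr fun _ _ => trivial) G
    have h2 : IsPiSubgroup (G := G) Set.univ = IsPiSubgroup π := by
      funext K
      exact propext ⟨fun _ p hp hd => h p hp (hd.trans (card_subgroup_dvd_card K)),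
        fun _ _ _ _ => trivial⟩
    unfold IsDPiGroup at h1 ⊢
    rwa [h2] at h1

end General

variable {Ω : Type*} [Fintype Ω] [DecidableEq Ω] {π : Set ℕ}

/-- `H` is a `π`-group meeting the alternating group in a Hall `π`-subgroup of it. -/
def Good (π : Set ℕ) (H : Subgroup (Perm Ω)) : Prop :=
  IsPiNum π (Nat.card H) ∧ IsPiNum πᶜ (H.relIndex (alternatingGroup Ω))

theorem good_of_hall {M : Subgroup (Perm Ω)} (h : IsPiHall π M) : Good π M :=
  ⟨h.1, (isPiHall_iff.1 (isPiHall_subgroupOf_normal h (alternatingGroup Ω))).2⟩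

theorem good_of_hall_alt {M : Subgroup (alternatingGroup Ω)} (h : IsPiHall π M) :
    Good π (M.map (alternatingGroup Ω).subtype) := by
  refine ⟨?_, ?_⟩
  · rw [card_map_of_injective (subtype_injective _)]; exact h.1
  · rw [relIndex, subgroupOf, comap_map_eq_self_of_injective (subtype_injective _)]
    exact (isPiHall_iff.1 h).2

/-- The nonstandard Hall subgroups. -/
def Std (π : Set ℕ) (K : Subgroup (Perm Ω)) : Prop :=
  ((Fintype.card Ω).Prime ∧ (∀ r : ℕ, r.Prime → r ≤ Fintype.card Ω → (r ∈ π ↔ r < Fintype.card Ω)) ∧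
    ∃ B : Finset Ω, B.card + 1 = Fintype.card Ω ∧ K = setStab B) ∨
  (Fintype.card Ω = 7 ∧ (∀ r : ℕ, r.Prime → r ≤ Fintype.card Ω → (r ∈ π ↔ (r = 2 ∨ r = 3))) ∧
    ∃ B : Finset Ω, B.card = 4 ∧ K = setStab B) ∨
  (Fintype.card Ω = 8 ∧ (∀ r : ℕ, r.Prime → r ≤ Fintype.card Ω → (r ∈ π ↔ (r = 2 ∨ r = 3))) ∧
    ∃ B : Finset Ω, B.card = 4 ∧ K = pairStab B)

theorem exists_perm_maps {B C : Finset Ω} (h : B.card = C.card) :
    ∃ g : Perm Ω, ∀ x, g x ∈ C ↔ x ∈ B := by
  let e : {x // x ∈ B} ≃ {x // x ∈ C} := Finset.equivOfCardEq h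
  exact ⟨e.extendSubtype, image_eq_of_maps (fun y hy => e.extendSubtype_mem y hy) h.ge⟩

theorem exists_even_maps {B C : Finset Ω} (h : B.card = C.card) (h2 : 2 ≤ B.card) :
    ∃ g ∈ alternatingGroup Ω, ∀ x, g x ∈ C ↔ x ∈ B := by
  obtain ⟨g, hg⟩ := exists_perm_maps h
  rcases Int.units_eq_one_or (sign g) with h1 | h1
  · exact ⟨g, h1, hg⟩
  · obtain ⟨a, ha, b, hb, hab⟩ := Finset.one_lt_card.1 h2
    refine ⟨g * swap a b, ?_, fun x => ?_⟩
    · rw [mem_alternatingGroup, map_mul, h1, sign_swap hab]; rfl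
    · rw [Perm.mul_apply, hg, swap_mem_setStab ha hb x]

omit [Fintype Ω] [DecidableEq Ω] in
theorem forall_conj {B C : Finset Ω} {g : Perm Ω} (hg : ∀ x, g x ∈ C ↔ x ∈ B) (σ : Perm Ω)
    (P : Prop → Prop → Prop) :
    (∀ x, P ((g⁻¹ * σ * g) x ∈ B) (x ∈ B)) ↔ ∀ x, P (σ x ∈ C) (x ∈ C) := by
  have h1 : ∀ x, ((g⁻¹ * σ * g) x ∈ B) = (σ (g x) ∈ C) := fun x => by
    rw [← hg, Perm.mul_apply, Perm.mul_apply, ai]
  have h2 : ∀ x, (x ∈ B) = (g x ∈ C) := fun x => propext (hg x).symm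
  simp only [h1]
  simp only [h2]
  exact ⟨fun h x => by simpa using h (g⁻¹ x), fun h x => h (g x)⟩

omit [Fintype Ω] [DecidableEq Ω] in
theorem setStab_conj {B C : Finset Ω} {g : Perm Ω} (hg : ∀ x, g x ∈ C ↔ x ∈ B) :
    setStab C = (setStab B).map (MulAut.conj g).toMonoidHom := by
  ext σ
  rw [mem_map_conj, mem_setStab, mem_setStab]
  exact (forall_conj hg σ fun a b => a ↔ b).symm

omit [Fintype Ω] [DecidableEq Ω] in
theorem pairStab_conj {B C : Finset Ω} {g : Perm Ω} (hg : ∀ x, g x ∈ C ↔ x ∈ B) :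
    pairStab C = (pairStab B).map (MulAut.conj g).toMonoidHom := by
  ext σ
  rw [mem_map_conj, mem_pairStab, mem_pairStab]
  exact or_congr (forall_conj hg σ fun a b => a ↔ b).symm
    (forall_conj hg σ fun a b => a ↔ ¬ b).symm

theorem index_pairStab {B : Finset Ω} (hn : Fintype.card Ω = 8) (hB : B.card = 4) :
    (pairStab B).index = 35 := by
  have hle : setStab B ≤ pairStab B := fun g hg => Or.inl hg
  have h1 := relIndex_mul_index hle
  rw [index_setStab, hn, hB] at h1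
  obtain ⟨g, hg⟩ := exists_perm_maps (B := Bᶜ) (C := B) (by rw [Finset.card_compl, hn, hB])
  simp only [Finset.mem_compl] at hg
  have h2 : (setStab B).relIndex (pairStab B) ∣ 2 := by
    rw [relIndex_dvd_two_iff]
    refine ⟨g, Or.inr hg, fun b hb => ?_⟩
    rcases hb with hb | hb
    · exact Or.inr hb
    · exact Or.inl fun x => (hb (g x)).trans ((hg x).not.trans not_not)
  have h3 : (setStab B).relIndex (pairStab B) ≠ 1 := by
    rw [ne_eq, relIndex_eq_one]
    intro h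
    obtain ⟨x, hx⟩ := Finset.card_pos.1 (show 0 < B.card by omega)
    exact (hg x).1 ((h (Or.inr hg) x).2 hx) hx
  rcases (Nat.dvd_prime Nat.prime_two).1 h2 with h4 | h4
  · exact absurd h4 h3
  · rw [h4] at h1
    have : Nat.choose 8 4 = 70 := by decide
    omega

theorem prime_dvd_35 {p : ℕ} (hp : p.Prime) (h : p ∣ 35) : p = 5 ∨ p = 7 := by
  rcases (hp.dvd_mul (m := 5) (n := 7)).1 h with h | h
  · exact Or.inl ((Nat.prime_dvd_prime_iff_eq hp (by norm_num)).1 h)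
  · exact Or.inr ((Nat.prime_dvd_prime_iff_eq hp (by norm_num)).1 h)

theorem prime_dvd_23 {p a b : ℕ} (hp : p.Prime) (h : p ∣ 2 ^ a * 3 ^ b) : p = 2 ∨ p = 3 := by
  rcases hp.dvd_mul.1 h with h | h
  · exact Or.inl ((Nat.prime_dvd_prime_iff_eq hp (by norm_num)).1 (hp.dvd_of_dvd_pow h))
  · exact Or.inr ((Nat.prime_dvd_prime_iff_eq hp (by norm_num)).1 (hp.dvd_of_dvd_pow h))

theorem hall_of_35 {K : Subgroup (Perm Ω)} (hn : 7 ≤ Fintype.card Ω)
    (h : ∀ r : ℕ, r.Prime → r ≤ Fintype.card Ω → (r ∈ π ↔ (r = 2 ∨ r = 3))) (h1 : K.index = 35)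
    {a b : ℕ} (h2 : Nat.card K = 2 ^ a * 3 ^ b) : IsPiHall π K := by
  refine ⟨fun p hp hd => ?_, fun p hp hπ hd => ?_⟩
  · have := prime_dvd_23 hp (h2 ▸ hd)
    exact (h p hp (by omega)).2 this
  · have h3 := prime_dvd_35 hp (h1 ▸ hd)
    have := (h p hp (by omega)).1 hπ
    omega

theorem Std.hall {K : Subgroup (Perm Ω)} (h : Std π K) : IsPiHall π K := by
  rcases h with ⟨h1, h2, B, h3, rfl⟩ | ⟨h1, h2, B, h3, rfl⟩ | ⟨h1, h2, B, h3, rfl⟩
  · refine ⟨fun p hp hd => ?_, fun p hp hπ hd => ?_⟩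
    · rw [card_setStab, show Fintype.card Ω - B.card = 1 by omega, Nat.factorial_one, mul_one,
        hp.dvd_factorial] at hd
      exact (h2 p hp (by omega)).2 (by omega)
    · rw [index_setStab, ← h3, Nat.choose_succ_self_right, h3,
        Nat.prime_dvd_prime_iff_eq hp h1] at hd
      have := (h2 p hp hd.le).1 hπ
      omega
  · exact hall_of_35 h1.ge h2 (by rw [index_setStab, h1, h3]; decide) (a := 4) (b := 2)
      (by rw [card_setStab, h1, h3]; decide)
  · refine hall_of_35 (by omega) h2 (index_pairStab h1 h3) (a := 7) (b := 2) ?_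
    have := (pairStab B).index_mul_card
    rw [index_pairStab h1 h3, Nat.card_perm, Nat.card_eq_fintype_card (α := Ω), h1] at this
    have h4 : Nat.factorial 8 = 40320 := by decide
    omega

theorem Std.conj {K L : Subgroup (Perm Ω)} (hn : 5 ≤ Fintype.card Ω) (hK : Std π K)
    (hL : Std π L) : ∃ g ∈ alternatingGroup Ω, L = K.map (MulAut.conj g).toMonoidHom := by
  have h8 : ¬ Nat.Prime 8 := by decide
  have h5 : Nat.Prime 5 := by norm_num
  rcases hK with ⟨h1, h2, B, h3, rfl⟩ | ⟨h1, h2, B, h3, rfl⟩ | ⟨h1, h2, B, h3, rfl⟩ <;>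
  rcases hL with ⟨k1, k2, C, k3, rfl⟩ | ⟨k1, k2, C, k3, rfl⟩ | ⟨k1, k2, C, k3, rfl⟩
  · obtain ⟨g, hg, h⟩ := exists_even_maps (B := B) (C := C) (by omega) (by omega)
    exact ⟨g, hg, setStab_conj h⟩
  · have := (k2 5 h5 hn).1 ((h2 5 h5 hn).2 (by omega))
    omega
  · exact absurd (k1 ▸ h1) h8
  · have := (h2 5 h5 hn).1 ((k2 5 h5 hn).2 (by omega))
    omega
  · obtain ⟨g, hg, h⟩ := exists_even_maps (B := B) (C := C) (by omega) (by omega)
    exact ⟨g, hg, setStab_conj h⟩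
  · omega
  · exact absurd (h1 ▸ k1) h8
  · omega
  · obtain ⟨g, hg, h⟩ := exists_even_maps (B := B) (C := C) (by omega) (by omega)
    exact ⟨g, hg, pairStab_conj h⟩

theorem five_le {n r s t : ℕ} (hr : r.Prime) (hs : s.Prime) (ht : t.Prime) (hrs : r ≠ s)
    (hrπ : r ∈ π) (hsπ : s ∈ π) (htπ : t ∉ π) (h1 : r ≤ n) (h2 : s ≤ n) (h3 : t ≤ n) : 5 ≤ n := by
  by_contra hn
  have key : ∀ p : ℕ, p.Prime → p ≤ n → p = 2 ∨ p = 3 := fun p hp hle => by
    have := hp.two_le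
    have h4 : p ≠ 4 := fun e => by subst e; exact absurd hp (by decide)
    omega
  have k1 : r ≠ t := fun e => htπ (e ▸ hrπ)
  have k2 : s ≠ t := fun e => htπ (e ▸ hsπ)
  have := key r hr h1
  have := key s hs h2
  have := key t ht h3
  omega

theorem prime_dvd_card_alt (hn : 4 ≤ Fintype.card Ω) {p : ℕ} (hp : p.Prime)
    (hle : p ≤ Fintype.card Ω) : p ∣ Nat.card (alternatingGroup Ω) := by
  haveI : Nontrivial Ω := Fintype.one_lt_card_iff_nontrivial.1 (by omega)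
  have h1 := two_mul_nat_card_alternatingGroup (α := Ω)
  rw [Nat.card_perm, Nat.card_eq_fintype_card (α := Ω)] at h1
  by_cases h2 : p = 2
  · subst h2
    have h3 : Nat.factorial 4 ∣ 2 * Nat.card (alternatingGroup Ω) :=
      h1 ▸ Nat.factorial_dvd_factorial hn
    rw [show Nat.factorial 4 = 24 by decide] at h3
    omega
  · have h3 : p ∣ 2 * Nat.card (alternatingGroup Ω) := h1 ▸ hp.dvd_factorial.2 hle
    exact (hp.dvd_mul.1 h3).resolve_left
      fun h => h2 ((Nat.prime_dvd_prime_iff_eq hp Nat.prime_two).1 h)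

theorem le_of_prime_dvd_card {p : ℕ} (hp : p.Prime) {K : Subgroup (Perm Ω)}
    (h : p ∣ Nat.card K) : p ≤ Fintype.card Ω := by
  have := h.trans (card_subgroup_dvd_card K)
  rwa [Nat.card_perm, Nat.card_eq_fintype_card, hp.dvd_factorial] at this

theorem classify {H : Subgroup (Perm Ω)} (hH : Good π H) {r s t : ℕ} (hr : r.Prime) (hs : s.Prime)
    (ht : t.Prime) (hrs : r ≠ s) (hrπ : r ∈ π) (hsπ : s ∈ π) (htπ : t ∉ π)
    (h1 : r ≤ Fintype.card Ω) (h2 : s ≤ Fintype.card Ω) (h3 : t ≤ Fintype.card Ω) :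
    ∃ K, Std π K ∧ H ≤ K := by
  have hn := five_le hr hs ht hrs hrπ hsπ htπ h1 h2 h3
  have hcop : ∀ p : ℕ, p.Prime → p ∣ Nat.card H → ¬ p ∣ H.relIndex (alternatingGroup Ω) :=
    fun p hp hd hd' => hH.2 p hp hd' (hH.1 p hp hd)
  have hin : ∀ p : ℕ, p.Prime → p ≤ Fintype.card Ω → ¬ p ∣ H.relIndex (alternatingGroup Ω) →
      p ∈ π := by
    intro p hp hle hd
    have h4 := prime_dvd_card_alt (by omega) hp hle
    rw [← (H.subgroupOf (alternatingGroup Ω)).index_mul_card] at h4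
    refine hH.1 p hp (((hp.dvd_mul.1 h4).resolve_left hd).trans ?_)
    rw [← card_map_of_injective (subtype_injective _), subgroupOf_map_subtype]
    exact card_dvd_of_le inf_le_left
  obtain ⟨k2, k3⟩ := two_three_not_dvd hcop hn hr hs hrs h1 h2
    (fun h => hH.2 r hr h hrπ) (fun h => hH.2 s hs h hsπ)
  have k23 : ∀ K : Subgroup (Perm Ω), H ≤ K → K.index = 35 → Fintype.card Ω ≤ 8 →
      ∀ B : Finset Ω, B.card = 4 → setStab B ≤ K →
      ∀ p : ℕ, p.Prime → p ≤ Fintype.card Ω → (p ∈ π ↔ (p = 2 ∨ p = 3)) := by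
    intro K hK hi h8 B hB hBK p hp hle
    obtain ⟨a, ha, b, hb, hab⟩ := Finset.one_lt_card.1 (show 1 < B.card by omega)
    have h4 := index_dvd_relIndex hK hab (hBK (swap_mem_setStab ha hb))
    rw [hi] at h4
    constructor
    · intro hπ
      have h5 : ¬ p ∣ 35 := fun h => hH.2 p hp (h.trans h4) hπ
      have h6 : p ≤ 8 := by omega
      interval_cases p <;> first | omega | exact absurd hp (by decide)
    · rintro (rfl | rfl)
      · exact hin 2 hp hle k2
      · exact hin 3 hp hle k3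
  rcases structure_thm hcop hn k2 k3 with h | ⟨h4, h5, B, h6, h7⟩ | ⟨h4, B, h6, h7⟩ |
    ⟨h4, B, h6, h7⟩
  · refine absurd (hin t ht h3 ?_) htπ
    rw [relIndex_eq_one.2 h, Nat.dvd_one]
    exact ht.one_lt.ne'
  · refine ⟨_, Or.inl ⟨h4, fun p hp hle => ⟨fun hπ => ?_, fun hlt => hin p hp hle (h5 p hp hlt)⟩,
      B, h6, rfl⟩, h7⟩
    by_contra hc
    have : t < Fintype.card Ω := lt_of_le_of_ne h3 fun e =>
      htπ ((show p = t by omega) ▸ hπ)
    exact htπ (hin t ht h3 (h5 t ht this))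
  · exact ⟨_, Or.inr (Or.inl ⟨h4, k23 _ h7 (by rw [index_setStab, h4, h6]; decide) (by omega) B h6
      le_rfl, B, h6, rfl⟩), h7⟩
  · exact ⟨_, Or.inr (Or.inr ⟨h4, k23 _ h7 (index_pairStab h4 h6) h4.le B h6
      (fun g hg => Or.inl hg), B, h6, rfl⟩), h7⟩

theorem D_or_nonstd {G : Type*} [Group G] [Finite G] (hG : Nat.card G ∣ (Fintype.card Ω).factorial) :
    IsDPiGroup π G ∨ ∃ r s t : ℕ, r.Prime ∧ s.Prime ∧ t.Prime ∧ r ≠ s ∧ r ∈ π ∧ s ∈ π ∧ t ∉ π ∧
      r ≤ Fintype.card Ω ∧ s ≤ Fintype.card Ω ∧ t ≤ Fintype.card Ω := by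
  by_cases h : (∀ r s : ℕ, r.Prime → s.Prime → r ∈ π → s ∈ π → r ∣ Nat.card G → s ∣ Nat.card G →
      r = s) ∨ ∀ r : ℕ, r.Prime → r ∣ Nat.card G → r ∈ π
  · exact Or.inl (D_of_local h)
  · push Not at h
    obtain ⟨⟨r, s, hr, hs, h1, h2, h3, h4, h5⟩, t, ht, h6, h7⟩ := h
    exact Or.inr ⟨r, s, t, hr, hs, ht, h5, h1, h2, h7, hr.dvd_factorial.1 (h3.trans hG),
      hs.dvd_factorial.1 (h4.trans hG), ht.dvd_factorial.1 (h6.trans hG)⟩

theorem card_perm_dvd : Nat.card (Perm Ω) ∣ (Fintype.card Ω).factorial := by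
  rw [Nat.card_perm, Nat.card_eq_fintype_card]

theorem card_alt_dvd : Nat.card (alternatingGroup Ω) ∣ (Fintype.card Ω).factorial :=
  (card_subgroup_dvd_card _).trans card_perm_dvd

theorem exists_hall_ge {H : Subgroup (Perm Ω)} (hH : Good π H) :
    ∃ K : Subgroup (Perm Ω), IsPiHall π K ∧ H ≤ K := by
  rcases D_or_nonstd (π := π) (card_perm_dvd (Ω := Ω)) with h |
    ⟨r, s, t, hr, hs, ht, hrs, hrπ, hsπ, htπ, h1, h2, h3⟩
  · exact exists_hall_ge_of_D h hH.1
  · obtain ⟨K, hK, hle⟩ := classify hH hr hs ht hrs hrπ hsπ htπ h1 h2 h3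
    exact ⟨K, hK.hall, hle⟩

theorem eq_subgroupOf {M : Subgroup (alternatingGroup Ω)} (hM : IsPiHall π M)
    {K : Subgroup (Perm Ω)} (hK : IsPiHall π K) (hle : M.map (alternatingGroup Ω).subtype ≤ K) :
    M = K.subgroupOf (alternatingGroup Ω) :=
  eq_of_isPiHall_of_le hM (isPiHall_subgroupOf_normal hK _).1 (map_le_iff_le_comap.1 hle)

theorem hall_alt_iff (M : Subgroup (alternatingGroup Ω)) :
    IsPiHall π M ↔ ∃ M₀ : Subgroup (Perm Ω), IsPiHall π M₀ ∧
      M = M₀.subgroupOf (alternatingGroup Ω) := by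
  constructor
  · intro hM
    obtain ⟨K, hK, hle⟩ := exists_hall_ge (good_of_hall_alt hM)
    exact ⟨K, hK, eq_subgroupOf hM hK hle⟩
  · rintro ⟨K, hK, rfl⟩
    exact isPiHall_subgroupOf_normal hK _

theorem C_of_E_perm (h : IsEPiGroup π (Perm Ω)) : IsCPiGroup π (Perm Ω) := by
  rcases D_or_nonstd (π := π) (card_perm_dvd (Ω := Ω)) with hD |
    ⟨r, s, t, hr, hs, ht, hrs, hrπ, hsπ, htπ, h1, h2, h3⟩
  · exact C_of_D hD
  refine ⟨h, fun M N hM hN => ?_⟩
  obtain ⟨K, hK, hle⟩ := classify (good_of_hall hM) hr hs ht hrs hrπ hsπ htπ h1 h2 h3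
  obtain ⟨L, hL, hle'⟩ := classify (good_of_hall hN) hr hs ht hrs hrπ hsπ htπ h1 h2 h3
  obtain ⟨g, -, hg⟩ := hK.conj (five_le hr hs ht hrs hrπ hsπ htπ h1 h2 h3) hL
  exact ⟨g, by rw [eq_of_isPiHall_of_le hM hK.hall.1 hle, eq_of_isPiHall_of_le hN hL.hall.1 hle', hg]⟩

theorem C_of_E_alt (h : IsEPiGroup π (alternatingGroup Ω)) :
    IsCPiGroup π (alternatingGroup Ω) := by
  rcases D_or_nonstd (π := π) (card_alt_dvd (Ω := Ω)) with hD |
    ⟨r, s, t, hr, hs, ht, hrs, hrπ, hsπ, htπ, h1, h2, h3⟩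
  · exact C_of_D hD
  refine ⟨h, fun M N hM hN => ?_⟩
  obtain ⟨K, hK, hle⟩ := classify (good_of_hall_alt hM) hr hs ht hrs hrπ hsπ htπ h1 h2 h3
  obtain ⟨L, hL, hle'⟩ := classify (good_of_hall_alt hN) hr hs ht hrs hrπ hsπ htπ h1 h2 h3
  obtain ⟨g, hgA, hg⟩ := hK.conj (five_le hr hs ht hrs hrπ hsπ htπ h1 h2 h3) hL
  refine ⟨⟨g, hgA⟩, ?_⟩
  rw [eq_subgroupOf hM hK.hall hle, eq_subgroupOf hN hL.hall hle', hg]
  ext x
  rw [mem_map_conj, mem_subgroupOf, mem_subgroupOf, mem_map_conj]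
  rfl

theorem std_ge_of_D (hD : IsDPiGroup π (alternatingGroup Ω)) {r s t : ℕ} (hr : r.Prime)
    (hs : s.Prime) (ht : t.Prime) (hrs : r ≠ s) (hrπ : r ∈ π) (hsπ : s ∈ π) (htπ : t ∉ π)
    (h1 : r ≤ Fintype.card Ω) (h2 : s ≤ Fintype.card Ω) (h3 : t ≤ Fintype.card Ω)
    {Y : Subgroup (Perm Ω)} (hY : IsPiNum π (Nat.card (Y ⊓ alternatingGroup Ω : Subgroup _))) :
    ∃ K, Std π K ∧ Y ⊓ alternatingGroup Ω ≤ K := by
  obtain ⟨M, hM, hle⟩ := exists_hall_ge_of_D hD (Y := Y.subgroupOf (alternatingGroup Ω)) (by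
    rwa [← card_map_of_injective (subtype_injective _), subgroupOf_map_subtype])
  obtain ⟨K, hK, hle'⟩ := classify (good_of_hall_alt hM) hr hs ht hrs hrπ hsπ htπ h1 h2 h3
  exact ⟨K, hK, subgroupOf_map_subtype Y _ ▸ (map_mono hle).trans hle'⟩

theorem not_pair_le (hn : 5 ≤ Fintype.card Ω) {a b : Ω} (hab : a ≠ b) {B : Finset Ω}
    (hB : B.card + 1 = Fintype.card Ω) : ¬ setStab {a, b} ⊓ alternatingGroup Ω ≤ setStab B := by
  intro h
  obtain ⟨x, hx⟩ := Finset.card_eq_one.1 (show Bᶜ.card = 1 by rw [Finset.card_compl]; omega)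
  have hfix : ∀ g ∈ setStab {a, b} ⊓ alternatingGroup Ω, g x = x := fun g hg => by
    rw [← Finset.mem_singleton, ← hx, Finset.mem_compl, h hg x, ← Finset.mem_compl, hx]
    exact Finset.mem_singleton_self x
  obtain ⟨c, hc, d, hd, hcd⟩ := Finset.one_lt_card.1 (show 1 < ({a, b, x}ᶜ : Finset Ω).card by
    have := Finset.card_le_three (a := a) (b := b) (c := x)
    rw [Finset.card_compl]; omega)
  simp only [Finset.mem_compl, Finset.mem_insert, Finset.mem_singleton, not_or] at hc hd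
  have hs : ∀ u v : Ω, u ∉ ({a, b} : Finset Ω) → v ∉ ({a, b} : Finset Ω) →
      swap u v ∈ setStab ({a, b} : Finset Ω) := fun u v hu hv y => by
    have := swap_mem_setStab (Finset.mem_compl.2 hu) (Finset.mem_compl.2 hv) y
    rw [Finset.mem_compl, Finset.mem_compl] at this
    exact not_iff_not.1 this
  have hc' : c ∉ ({a, b} : Finset Ω) := by simp [hc.1, hc.2.1]
  have hd' : d ∉ ({a, b} : Finset Ω) := by simp [hd.1, hd.2.1]
  by_cases hxm : x ∈ ({a, b} : Finset Ω)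
  · have := hfix (swap a b * swap c d) ⟨mul_mem (swap_mem_setStab (by simp) (by simp))
      (hs c d hc' hd'), by
        change sign _ = 1
        rw [map_mul, sign_swap hab, sign_swap hcd]; rfl⟩
    rw [Perm.mul_apply, swap_apply_of_ne_of_ne (Ne.symm hc.2.2) (Ne.symm hd.2.2)] at this
    simp only [Finset.mem_insert, Finset.mem_singleton] at hxm
    rcases hxm with rfl | rfl
    · rw [swap_apply_left] at this; exact hab this.symm
    · rw [swap_apply_right] at this; exact hab this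
  · have := hfix (c3 x c d) ⟨mul_mem (hs x c hxm hc') (hs c d hc' hd'),
      sign_c3 (Ne.symm hc.2.2) hcd⟩
    rw [c3_apply_fst (Ne.symm hc.2.2) (Ne.symm hd.2.2)] at this
    exact hc.2.2 this

theorem prime_dvd_centralizer (hn : Fintype.card Ω ≤ 8) {t : Perm Ω} (ht : t * t = 1)
    (hfix : ∀ x y, t x = x → t y = y → x = y) {p : ℕ} (hp : p.Prime)
    (h : p ∣ Nat.card (centralizer {t} ⊓ alternatingGroup Ω : Subgroup _)) : p = 2 ∨ p = 3 := by
  by_contra hc
  have h5 : 5 ≤ p := by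
    have := hp.two_le
    have h4 : p ≠ 4 := fun e => by subst e; exact absurd hp (by decide)
    omega
  haveI : Fact p.Prime := ⟨hp⟩
  obtain ⟨g, hg⟩ := exists_prime_orderOf_dvd_card' p h
  rw [← orderOf_coe] at hg
  have h1 : (g : Perm Ω).IsCycle := isCycle_of_prime_order' (hg ▸ hp) (by omega)
  refine not_commute_of_odd_cycle ht hfix h1 ?_ (g.2.1 t rfl)
  rw [← h1.orderOf, hg]
  exact hp.odd_of_ne_two (by omega)

theorem not_D_alt (n : ℕ) {r s t : ℕ} (hr : r.Prime)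
    (hs : s.Prime) (ht : t.Prime) (hrs : r ≠ s) (hrπ : r ∈ π) (hsπ : s ∈ π) (htπ : t ∉ π)
    (h1 : r ≤ n) (h2 : s ≤ n) (h3 : t ≤ n) : ¬ IsDPiGroup π (alternatingGroup (Fin n)) := by
  intro hD
  have hn := five_le hr hs ht hrs hrπ hsπ htπ h1 h2 h3
  have hc : Fintype.card (Fin n) = n := Fintype.card_fin n
  have key := fun Y => std_ge_of_D hD hr hs ht hrs hrπ hsπ htπ (hc.symm ▸ h1) (hc.symm ▸ h2)
    (hc.symm ▸ h3) (Y := Y)
  have h8 : ¬ Nat.Prime 8 := by decide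
  have h5 : Nat.Prime 5 := by norm_num
  obtain ⟨K0, hK0, -⟩ := key ⊥ (by rw [bot_inf_eq, card_bot]; exact isPiNum_one π)
  rcases hK0 with ⟨k1, k2, -⟩ | ⟨k1, k2, -⟩ | ⟨k1, k2, -⟩
  · have hab : (⟨0, by omega⟩ : Fin n) ≠ ⟨1, by omega⟩ := by simp
    obtain ⟨K, hK, hle⟩ := key (setStab {⟨0, by omega⟩, ⟨1, by omega⟩}) fun p hp hd => by
      have h4 := hd.trans (card_dvd_of_le inf_le_left)
      rw [card_setStab, Finset.card_pair hab, hp.dvd_mul, hp.dvd_factorial, hp.dvd_factorial] at h4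
      exact (k2 p hp (by omega)).2 (by omega)
    rcases hK with ⟨-, -, B, l3, rfl⟩ | ⟨l1, l2, -⟩ | ⟨l1, -⟩
    · exact not_pair_le (by omega) hab l3 hle
    · have := (l2 5 h5 (by omega)).1 ((k2 5 h5 (by omega)).2 (by omega))
      omega
    · exact h8 (l1 ▸ k1)
  · obtain rfl : n = 7 := by omega
    obtain ⟨K, hK, hle⟩ := key (centralizer {swap 0 2 * swap 1 3 * swap 4 5}) fun p hp hd => by
      have := prime_dvd_centralizer (by omega) (by decide) (by decide) hp hd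
      exact (k2 p hp (by omega)).2 this
    rcases hK with ⟨-, l2, -⟩ | ⟨-, -, B, l3, rfl⟩ | ⟨l1, -⟩
    · have := (k2 5 h5 (by omega)).1 ((l2 5 h5 (by omega)).2 (by omega))
      omega
    · have e1 := hle (x := c3 0 1 4 * c3 2 3 5)
        ⟨mem_centralizer_singleton_iff.2 (by decide), mem_alternatingGroup.2 (by decide)⟩
      have e2 := hle (x := c3 0 3 4 * c3 2 1 5)
        ⟨mem_centralizer_singleton_iff.2 (by decide), mem_alternatingGroup.2 (by decide)⟩
      rw [mem_setStab] at e1 e2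
      clear hle
      revert B
      decide +kernel
    · omega
  · obtain rfl : n = 8 := by omega
    obtain ⟨K, hK, hle⟩ := key (centralizer {swap 0 2 * swap 1 3 * swap 4 5 * swap 6 7})
      fun p hp hd => by
      have := prime_dvd_centralizer (by omega) (by decide) (by decide) hp hd
      exact (k2 p hp (by omega)).2 this
    rcases hK with ⟨l1, -⟩ | ⟨l1, -⟩ | ⟨-, -, B, l3, rfl⟩
    · exact h8 (k1 ▸ l1)
    · omega
    · have e1 := hle (x := c3 0 1 4 * c3 2 3 5)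
        ⟨mem_centralizer_singleton_iff.2 (by decide), mem_alternatingGroup.2 (by decide)⟩
      have e2 := hle (x := c3 0 3 4 * c3 2 1 5)
        ⟨mem_centralizer_singleton_iff.2 (by decide), mem_alternatingGroup.2 (by decide)⟩
      rw [mem_pairStab] at e1 e2
      clear hle
      revert B
      decide +kernel

end Cfsg.Agent.H98.HallS
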