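import Mathlib
import Cfsg.Agent.H44.K5Defs

set_option autoImplicit false

namespace Cfsg.Agent.H98.K5Herm

open Matrix

def blk {m : ℕ} (c : ℤ) (r : Fin m → ℤ) (V : Matrix (Fin m) (Fin m) ℤ) :
    Matrix (Fin (m + 1)) (Fin (m + 1)) ℤ :=
  Matrix.of (Fin.cons (Fin.cons c r) (fun i => Fin.cons 0 (V i)))

theorem det_blk {m : ℕ} (c : ℤ) (r : Fin m → ℤ) (V : Matrix (Fin m) (Fin m) ℤ) :
    (blk c r V).det = c * V.det := by
  rw [det_succ_column_zero, Fin.sum_univ_succ]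
  have : (blk c r V).submatrix (Fin.succAbove 0) Fin.succ = V := by ext i j; simp [blk]
  rw [this]; simp [blk]

theorem ent {m : ℕ} (W B : Matrix (Fin m) (Fin m) ℤ) (i j : Fin m) :
    (Wᵀ * B * W) i j = (fun k => W k i) ⬝ᵥ B *ᵥ (fun k => W k j) := by
  rw [Matrix.mul_assoc]; simp [mul_apply, dotProduct, mulVec]

theorem bil {m : ℕ} (B : Matrix (Fin (m + 1)) (Fin (m + 1)) ℤ) (hB : Bᵀ = B) (k l : ℤ)
    (v w : Fin m → ℤ) :
    B 0 0 * ((Fin.cons k v : Fin (m + 1) → ℤ) ⬝ᵥ B *ᵥ (Fin.cons l w : Fin (m + 1) → ℤ)) =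
      (B 0 0 * k + ∑ i, B 0 i.succ * v i) * (B 0 0 * l + ∑ i, B 0 i.succ * w i) +
      v ⬝ᵥ (Matrix.of fun i j : Fin m => B 0 0 * B i.succ j.succ - B 0 i.succ * B 0 j.succ) *ᵥ w := by
  have hs : ∀ i : Fin m, B i.succ 0 = B 0 i.succ := fun i => by
    conv_lhs => rw [← hB]
    rfl
  have e1 : v ⬝ᵥ (Matrix.of fun i j : Fin m => B 0 0 * B i.succ j.succ - B 0 i.succ * B 0 j.succ) *ᵥ w
      = B 0 0 * (∑ i, v i * ∑ j, B i.succ j.succ * w j) -
        (∑ i, B 0 i.succ * v i) * (∑ i, B 0 i.succ * w i) := by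
    rw [Finset.sum_mul_sum]
    simp only [dotProduct, mulVec, of_apply, Finset.mul_sum, ← Finset.sum_sub_distrib]
    exact Finset.sum_congr rfl fun i _ => Finset.sum_congr rfl fun j _ => by ring
  have e2 : ∑ i, v i * (B 0 i.succ * l) = l * ∑ i, B 0 i.succ * v i := by
    rw [Finset.mul_sum]; exact Finset.sum_congr rfl fun i _ => by ring
  rw [e1]
  simp only [dotProduct, mulVec, Fin.sum_univ_succ, Fin.cons_zero, Fin.cons_succ, hs, mul_add,
    Finset.sum_add_distrib, e2]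
  ring

theorem herm : H44.K5.HermStmt := by
  intro n
  induction n with
  | zero => intro A _ _; exact ⟨1, by simp, by simp [det_fin_one]⟩
  | succ n ih =>
    intro A hA hpos
    classical
    have hcol : ∀ U : Matrix (Fin (n + 2)) (Fin (n + 2)) ℤ, IsUnit U.det → 0 < (Uᵀ * A * U) 0 0 := by
      intro U hU
      rw [ent]
      refine hpos _ fun h => hU.ne_zero (det_eq_zero_of_column_eq_zero 0 fun i => congrFun h i)
    have hex : ∃ N : ℕ, ∃ U : Matrix (Fin (n + 2)) (Fin (n + 2)) ℤ, IsUnit U.det ∧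
        (Uᵀ * A * U) 0 0 = N := ⟨_, 1, by simp, (Int.toNat_of_nonneg (hcol 1 (by simp)).le).symm⟩
    obtain ⟨U, hU, hN⟩ := Nat.find_spec hex
    have hmin : ∀ W : Matrix (Fin (n + 2)) (Fin (n + 2)) ℤ, IsUnit W.det →
        (Uᵀ * A * U) 0 0 ≤ (Wᵀ * (Uᵀ * A * U) * W) 0 0 := by
      intro W hW
      have hu : IsUnit (U * W).det := by rw [det_mul]; exact hU.mul hW
      have h1 := Nat.find_min' hex ⟨U * W, hu, (Int.toNat_of_nonneg (hcol _ hu).le).symm⟩
      have h2 : Wᵀ * (Uᵀ * A * U) * W = (U * W)ᵀ * A * (U * W) := by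
        simp [transpose_mul, Matrix.mul_assoc]
      have h3 := hcol _ hu
      rw [h2, hN]; omega
    refine ⟨U, hU, ?_⟩
    have ha := hcol U hU
    have hdet : (Uᵀ * A * U).det = A.det := by
      rw [det_mul, det_mul, det_transpose]
      rcases Int.isUnit_iff.1 hU with h | h <;> simp [h]
    have hB : (Uᵀ * A * U)ᵀ = Uᵀ * A * U := by simp [transpose_mul, hA, Matrix.mul_assoc]
    have hBp : ∀ x : Fin (n + 2) → ℤ, x ≠ 0 → 0 < x ⬝ᵥ (Uᵀ * A * U) *ᵥ x := by
      intro x hx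
      have h1 : U *ᵥ x ≠ 0 := fun h => hx (eq_zero_of_mulVec_eq_zero hU.ne_zero h)
      have := hpos _ h1
      rwa [← mulVec_mulVec, ← mulVec_mulVec, dotProduct_mulVec, vecMul_transpose]
    rw [← hdet]
    generalize Uᵀ * A * U = B at hmin ha hB hBp
    set S : Matrix (Fin (n + 1)) (Fin (n + 1)) ℤ :=
      Matrix.of fun i j => B 0 0 * B i.succ j.succ - B 0 i.succ * B 0 j.succ with hS
    have hs : ∀ i j, B i j = B j i := fun i j => by
      conv_lhs => rw [← hB]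
      rfl
    have hSs : Sᵀ = S := by
      ext i j; simp only [hS, transpose_apply, of_apply]; rw [hs j.succ i.succ]; ring
    have hSp : ∀ y : Fin (n + 1) → ℤ, y ≠ 0 → 0 < y ⬝ᵥ S *ᵥ y := by
      intro y hy
      have h1 := bil B hB (-∑ i, B 0 i.succ * y i) (-∑ i, B 0 i.succ * y i) (B 0 0 • y) (B 0 0 • y)
      have h2 := hBp (Fin.cons (-∑ i, B 0 i.succ * y i) (B 0 0 • y)) (fun h => hy (by
        ext i; have := congrFun h i.succ; simpa [ha.ne'] using this))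
      have h3 : ∑ i, B 0 i.succ * (B 0 0 • y) i = B 0 0 * ∑ i, B 0 i.succ * y i := by
        rw [Finset.mul_sum]; exact Finset.sum_congr rfl fun i _ => by simp; ring
      rw [h3, ← hS, mulVec_smul, smul_dotProduct, dotProduct_smul, smul_eq_mul, smul_eq_mul] at h1
      have h4 : 0 < B 0 0 * (B 0 0 * (y ⬝ᵥ S *ᵥ y)) := by nlinarith [mul_pos ha h2]
      exact (mul_pos_iff_of_pos_left ha).1 ((mul_pos_iff_of_pos_left ha).1 h4)
    have hdS : S.det = B 0 0 ^ n * B.det := by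
      have h1 : (blk 1 (fun j => -B 0 j.succ) (B 0 0 • (1 : Matrix (Fin (n + 1)) (Fin (n + 1)) ℤ)))ᵀ * B =
          blk (B 0 0) (fun j => B 0 j.succ) S := by
        ext i j
        refine Fin.cases ?_ (fun i => ?_) i <;> refine Fin.cases ?_ (fun j => ?_) j <;>
          simp [blk, mul_apply, Fin.sum_univ_succ (n := n + 1), hS, Matrix.intCast_apply, hs _ (0 : Fin (n + 2))] <;> ring
      have h2 := congrArg det h1
      rw [det_mul, det_transpose, det_blk, det_blk, det_smul, det_one, Fintype.card_fin] at h2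
      apply mul_left_cancel₀ ha.ne'
      rw [← h2]; ring
    obtain ⟨V, hV, hle⟩ := ih S hSs hSp
    set β := ∑ i, B 0 i.succ * V i 0 with hβ
    obtain ⟨k, hk⟩ : ∃ k : ℤ, 4 * (B 0 0 * k + β) ^ 2 ≤ B 0 0 ^ 2 := by
      refine ⟨-((2 * β + B 0 0) / (2 * B 0 0)), ?_⟩
      have h1 := Int.emod_nonneg (2 * β + B 0 0) (by omega : 2 * B 0 0 ≠ 0)
      have h2 := Int.emod_lt_of_pos (2 * β + B 0 0) (by omega : 0 < 2 * B 0 0)
      have h3 := Int.mul_ediv_add_emod (2 * β + B 0 0) (2 * B 0 0)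
      nlinarith
    have hW : IsUnit ((blk 1 (fun _ => k) V).submatrix id (Equiv.swap 0 (Fin.succ 0))).det := by
      rw [det_permute', det_blk]
      exact (Units.isUnit _).mul (by simpa using hV)
    have h1 := hmin _ hW
    rw [ent] at h1
    have h2 : (fun i => (blk 1 (fun _ => k) V).submatrix id (Equiv.swap 0 (Fin.succ 0)) i 0) =
        (Fin.cons k (fun i => V i 0) : Fin (n + 2) → ℤ) := by
      ext i
      rw [submatrix_apply, Equiv.swap_apply_left]
      refine Fin.cases ?_ (fun i => ?_) i <;> simp only [blk, of_apply, id, Fin.cons_zero, Fin.cons_succ]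
    rw [h2] at h1
    have h3 := bil B hB k k (fun i => V i 0) (fun i => V i 0)
    rw [← hS, ← hβ, ← ent] at h3
    have h4 : 3 * B 0 0 ^ 2 ≤ 4 * (Vᵀ * S * V) 0 0 := by nlinarith
    have h5 : (n + 1) * (n + 1 + 1) / 2 = n * (n + 1) / 2 + (n + 1) := by
      rw [show (n + 1) * (n + 1 + 1) = n * (n + 1) + (n + 1) * 2 by ring, Nat.add_mul_div_right _ _ two_pos]
    rw [h5, hdS] at *
    generalize n * (n + 1) / 2 = m at *
    have h6 : (3 * B 0 0 ^ 2) ^ (n + 1) ≤ (4 * (Vᵀ * S * V) 0 0) ^ (n + 1) :=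
      pow_le_pow_left₀ (by positivity) h4 _
    have h7 : B 0 0 ^ n * (B 0 0 ^ (n + 1 + 1) * 3 ^ (m + (n + 1))) ≤ B 0 0 ^ n * (4 ^ (m + (n + 1)) * B.det) := by
      calc _ = (3 * B 0 0 ^ 2) ^ (n + 1) * 3 ^ m := by ring
        _ ≤ (4 * (Vᵀ * S * V) 0 0) ^ (n + 1) * 3 ^ m := by gcongr
        _ = 4 ^ (n + 1) * ((Vᵀ * S * V) 0 0 ^ (n + 1) * 3 ^ m) := by ring
        _ ≤ 4 ^ (n + 1) * (4 ^ m * (B 0 0 ^ n * B.det)) := by gcongr
        _ = _ := by ring
    exact le_of_mul_le_mul_left h7 (by positivity)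

end Cfsg.Agent.H98.K5Herm
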