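import Cfsg.Agent.H1.MlD

/-!
# Offenders and transvections: conjugation
-/

set_option autoImplicit false

namespace Cfsg.Agent.H98.ML

open Subgroup Cfsg.Agent.H83 Cfsg.Agent.H1.ML
open scoped commutatorElement

variable {G M : Type*} [Group G] [AddCommGroup M] [DistribMulAction G M]

theorem mem_fx {A : Subgroup G} {d : M} : d ∈ fx M A ↔ ∀ a ∈ A, a • d = d := Iff.rfl
theorem mem_kr {D : AddSubgroup M} {g : G} : g ∈ kr G D ↔ ∀ d ∈ D, g • d = d := Iff.rfl

theorem smul_mem_fx {A : Subgroup G} {g : G} {d : M} : g • d ∈ fx M (cj g A) ↔ d ∈ fx M A :=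
  ⟨fun h a ha => by simpa [mul_smul] using h _ (conj_mem_cj (g := g) ha), fun h a ha => by
    have := h _ (mem_cj.1 ha)
    rwa [mul_smul, mul_smul, inv_smul_eq_iff] at this⟩

theorem card_fx_cj (g : G) (A : Subgroup G) :
    Nat.card (⊤ ⊓ fx M (cj g A) : AddSubgroup M) = Nat.card (⊤ ⊓ fx M A : AddSubgroup M) :=
  (Nat.card_congr ((MulAction.toPerm g : Equiv.Perm M).subtypeEquiv
    (p := (· ∈ (⊤ ⊓ fx M A : AddSubgroup M))) (q := (· ∈ (⊤ ⊓ fx M (cj g A) : AddSubgroup M)))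
    fun _ => and_congr Iff.rfl smul_mem_fx.symm)).symm

theorem relIndex_cj (g : G) (A B : Subgroup G) : (cj g B).relIndex (cj g A) = B.relIndex A :=
  relIndex_map_map_of_injective _ _ (MulAut.conj g).injective

theorem cj_kr (g : G) : cj g (kr G (⊤ : AddSubgroup M)) = kr G (⊤ : AddSubgroup M) := by
  ext x
  rw [mem_cj, mem_kr, mem_kr]
  refine ⟨fun h d _ => ?_, fun h d _ => by rw [mul_smul, mul_smul, h _ trivial, inv_smul_smul]⟩
  have := h (g⁻¹ • d) trivial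
  rwa [mul_smul, mul_smul, smul_inv_smul, smul_left_cancel_iff] at this

theorem bo_cj {A : Subgroup G} (h : BO (⊤ : AddSubgroup M) A) (g : G) :
    BO (⊤ : AddSubgroup M) (cj g A) := by
  refine ⟨fun a ha b hb => ?_, fun B hB hk => ?_⟩
  · rw [← cj_kr g, mem_cj]
    convert h.1 _ (mem_cj.1 ha) _ (mem_cj.1 hb) using 1
    group
  · have := h.2 (cj g⁻¹ B) (by rw [cj_le_iff, inv_inv]; exact hB) (by
      rw [← cj_le_iff, cj_inf, cj_kr]; exact hk)
    rwa [card_fx_cj, ← card_fx_cj g A, ← relIndex_cj g, cj_cj_inv] at this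

theorem nice_cj {p : ℕ} {A : Subgroup G} (h : Nice M p A) (g : G) : Nice M p (cj g A) := by
  refine ⟨isPGroup_cj h.1 g, fun e => h.2.1 (cj_eq_bot_iff.1 e), bo_cj h.2.2.1 g,
    fun B hB hi v hv hp a ha hn => ?_⟩
  have := h.2.2.2 (cj g⁻¹ B) (by rw [cj_le_iff, inv_inv]; exact hB)
    (by rw [← relIndex_cj g, cj_cj_inv, hi]) (g⁻¹ • v) (smul_mem_fx.2 hv)
    (by rw [smul_comm, hp, smul_zero]) _ (mem_cj.1 ha) (fun e => hn (by simpa [mul_assoc] using mem_cj.1 e))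
  have e : ∀ i : ℕ, (g⁻¹ * a * g) ^ i • g⁻¹ • v = g⁻¹ • a ^ i • v := fun i => by
    have := conj_pow (a := g⁻¹) (b := a) (i := i)
    rw [inv_inv] at this
    rw [this, mul_smul, mul_smul, smul_inv_smul]
  simp only [e, ← Finset.smul_sum] at this
  exact (smul_eq_zero_iff_eq _).1 this

theorem JJ_le (𝒜 : Subgroup G → Prop) (P : Subgroup G) : JJ 𝒜 P ≤ P := sSup_le fun _ h => h.1

theorem le_JJ {𝒜 : Subgroup G → Prop} {P A : Subgroup G} (h : A ≤ P) (h' : 𝒜 A) : A ≤ JJ 𝒜 P :=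
  le_sSup ⟨h, h'⟩

theorem JJ_cj {𝒜 : Subgroup G → Prop} (h : ∀ A g, 𝒜 A → 𝒜 (cj g A)) (g : G) (P : Subgroup G) :
    JJ 𝒜 (cj g P) = cj g (JJ 𝒜 P) := by
  have key : ∀ (g : G) P, cj g (JJ 𝒜 P) ≤ JJ 𝒜 (cj g P) := fun g P =>
    map_le_iff_le_comap.2 (sSup_le fun A hA =>
      map_le_iff_le_comap.1 (le_JJ (cj_mono g hA.1) (h A g hA.2)))
  refine le_antisymm ?_ (key g P)
  have := key g⁻¹ (cj g P)
  rwa [cj_inv_cj, cj_le_iff, inv_inv] at this

theorem qp_mono {P Q : Subgroup G} (h : Qp M P) (e : P ≤ Q) : Qp M Q :=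
  let ⟨A, a, b⟩ := h
  ⟨A, a.trans e, b⟩

theorem qp_cj {P : Subgroup G} (h : Qp M P) (g : G) : Qp M (cj g P) :=
  let ⟨A, a, b, c⟩ := h
  ⟨cj g A, cj_mono g a, fun e => b (cj_eq_bot_iff.1 e), bo_cj c g⟩

section tv
variable {a b : G} {v w : M}

theorem tv_ex (h : Tv a v) : ∃ d : M, a • d = d + v :=
  let ⟨d, hd⟩ := h.ex
  ⟨d, (h.alt d).resolve_left hd⟩

theorem tv_ne (h : Tv a v) : v ≠ 0 := fun e =>
  let ⟨d, hd⟩ := h.ex
  hd ((h.alt d).elim id fun x => by rw [x, e, add_zero])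

theorem tv_two (h : Tv a v) : v + v = 0 := by
  obtain ⟨d, hd⟩ := tv_ex h
  have e : a • (d + d) = d + d + (v + v) := by rw [smul_add, hd]; abel
  rcases h.alt (d + d) with x | x
  · simpa [x] using e.symm
  · rw [x, add_right_inj] at e
    exact absurd (by simpa using e.symm) (tv_ne h)

theorem tv_uniq (h : Tv a v) (h' : Tv a w) : v = w := by
  obtain ⟨d, hd⟩ := h.ex
  exact add_left_cancel (((h.alt d).resolve_left hd).symm.trans ((h'.alt d).resolve_left hd))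

theorem tv_cj (h : Tv a v) (g : G) : Tv (g * a * g⁻¹) (g • v) where
  alt d := (h.alt (g⁻¹ • d)).imp (fun e => by rw [mul_smul, mul_smul, e, smul_inv_smul])
    fun e => by rw [mul_smul, mul_smul, e, smul_add, smul_inv_smul]
  ex := let ⟨d, hd⟩ := h.ex
    ⟨g • d, by simpa [mul_smul] using hd⟩
  fix := by simp [mul_smul, h.fix]

theorem tv_sq (ff : Ff M G) (h : Tv a v) : a * a = 1 := ff _ fun d => by
  rcases h.alt d with x | x
  · rw [mul_smul, x, x]
  · rw [mul_smul, x, smul_add, x, h.fix, add_assoc, tv_two h, add_zero]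

theorem tv_inv (ff : Ff M G) (h : Tv a v) : a⁻¹ = a := inv_eq_of_mul_eq_one_right (tv_sq ff h)

theorem tv_braid (ff : Ff M G) (h : Tv a v) (h' : Tv b w) (e : b • v ≠ v) (e' : a • w ≠ w) :
    a * b * a = b * a * b := by
  have e1 := (h'.alt v).resolve_left e
  have e2 := (h.alt w).resolve_left e'
  have v2 := tv_two h
  have w2 := tv_two h'
  refine mul_inv_eq_one.1 (ff _ fun d => ?_)
  obtain ⟨d, rfl⟩ := (MulAction.toPerm (b * a * b)).surjective d
  rw [MulAction.toPerm_apply, mul_smul, inv_smul_smul]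
  rcases h.alt d with x | x <;> rcases h'.alt d with y | y <;>
    simp only [mul_smul, smul_add, x, y, e1, e2, h.fix, h'.fix] <;> grind

theorem tv_comm (h : Tv a v) (e : b * a = a * b) : b • v = v :=
  tv_uniq (tv_cj h b) (by rwa [e, mul_inv_cancel_right])

theorem tz_cj {A : Subgroup G} (h : Tz M A) (g : G) : Tz M (cj g A) :=
  let ⟨a, v, x, e⟩ := h
  ⟨_, _, tv_cj x g, by rw [e]; exact MonoidHom.map_zpowers _ _⟩

theorem tv_mem_JJ {P : Subgroup G} (h : Tv a v) (ha : a ∈ P) : a ∈ JJ (Tz M) P :=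
  le_JJ (zpowers_le.2 ha) ⟨a, v, h, rfl⟩ (mem_zpowers a)

theorem tv_bo [Finite G] [Finite M] (h : Tv a v) : BO (⊤ : AddSubgroup M) (zpowers a) := by
  refine ⟨?_, fun B hB _ => ?_⟩
  · rintro _ ⟨i, rfl⟩ _ ⟨j, rfl⟩
    rw [commutatorElement_eq_one_iff_commute.2 (Commute.zpow_zpow_self a i j)]
    exact one_mem _
  by_cases ha : a ∈ B
  · rw [le_antisymm hB (zpowers_le.2 ha), relIndex_self, one_mul]
  have h1 : 2 ≤ B.relIndex (zpowers a) := by
    have h0 : B.relIndex (zpowers a) ≠ 0 := index_ne_zero_of_finite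
    have h1 : B.relIndex (zpowers a) ≠ 1 := fun e => ha (relIndex_eq_one.1 e (mem_zpowers a))
    omega
  have fa : ∀ d : M, a • d = d → d ∈ (⊤ ⊓ fx M (zpowers a) : AddSubgroup M) := fun d e =>
    ⟨trivial, fun _ hx => (zpowers_le (H := MulAction.stabilizer G d)).2 e hx⟩
  obtain ⟨d0, h0⟩ := tv_ex h
  have h2 : (⊤ ⊓ fx M (zpowers a) : AddSubgroup M).index = 2 :=
    AddSubgroup.index_eq_two_iff.2 ⟨d0, fun d => by
      rcases h.alt d with x | x
      · refine .inr ⟨fa d x, fun y => tv_ne h ?_⟩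
        have := y.2 a (mem_zpowers a)
        rw [smul_add, x, h0, ← add_assoc] at this
        simpa using this
      · refine .inl ⟨fa _ ?_, fun y => tv_ne h ?_⟩
        · rw [smul_add, x, h0, add_add_add_comm, tv_two h, add_zero]
        · simpa [x] using y.2 a (mem_zpowers a)⟩
  calc _ ≤ Nat.card M := AddSubgroup.card_le_card_addGroup _
    _ = 2 * _ := by rw [← h2, AddSubgroup.index_mul_card]
    _ ≤ _ := Nat.mul_le_mul_right _ h1

theorem tv_qp [Finite G] [Finite M] {P : Subgroup G} (h : Tv a v) (ha : a ∈ P) : Qp M P :=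
  ⟨zpowers a, zpowers_le.2 ha, fun e => by
    obtain ⟨d, hd⟩ := h.ex
    exact hd (by rw [zpowers_eq_bot.1 e, one_smul]), tv_bo h⟩

theorem sol_cj {S : Subgroup G} (h : Sol S a v b w) (g : G) :
    Sol (cj g S) (g * a * g⁻¹) (g • v) (g * b * g⁻¹) (g • w) where
  mem := conj_mem_cj h.mem
  ta := tv_cj h.ta g
  tb := tv_cj h.tb g
  ne := by simpa [mul_smul] using h.ne
  ne' := by simpa [mul_smul] using h.ne'
  cm e he u hu n := by
    have := h.cm _ (mem_cj.1 he) _ (by simpa using tv_cj hu g⁻¹) fun x => n (by rw [← x]; group)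
    calc _ = g * (b * (g⁻¹ * e * g)) * g⁻¹ := by group
      _ = _ := by rw [this]; group
  ex := let ⟨c, hc, u, x, n⟩ := h.ex
    ⟨_, conj_mem_cj hc, _, tv_cj x g, by simpa using n⟩

/-- `Sol` depends only on the transvections -/
theorem sol_congr {S S' : Subgroup G} (e : JJ (Tz M) S = JJ (Tz M) S') (h : Sol S a v b w) :
    Sol S' a v b w :=
  { h with
    mem := JJ_le _ _ (e ▸ tv_mem_JJ h.ta h.mem)
    cm := fun c hc u hu => h.cm c (JJ_le _ _ (e ▸ tv_mem_JJ hu hc)) u hu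
    ex := let ⟨c, hc, u, x, n⟩ := h.ex
      ⟨c, JJ_le _ _ (e ▸ tv_mem_JJ x hc), u, x, n⟩ }

end tv

end Cfsg.Agent.H98.ML
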