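import Cfsg.Agent.H1.MlZ
import Cfsg.Agent.H96.Alperin
import Cfsg.Agent.H98.Transport

/-!
# Systems that agree with a group system modulo a central subgroup
-/

set_option autoImplicit false

namespace Cfsg.Agent.H98.ML

open Subgroup H83 H1.ML H97
open scoped commutatorElement

variable {G : Type*} [Group G] {p : ℕ} {T A P : Subgroup G} {E : FusionSystem T} {f : G → G}

/-- `E` is a saturated system on the Sylow subgroup `T` that agrees with the system of `G` modulo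
the central subgroup `A` -/
structure Cx (p : ℕ) (T A : Subgroup G) (E : FusionSystem T) : Prop where
  syl : IsSylowIn p T ⊤
  sat : E.IsSaturated p
  le : A ≤ T
  cen : ∀ a ∈ A, ∀ g, g * a = a * g
  fix : ∀ P f, Mor E P f → ∀ a ∈ A, a ∈ P → f a = a
  h1 : ∀ P f, A ≤ P → Mor E P f → ∃ g, ∀ x ∈ P, f x * (g * x * g⁻¹)⁻¹ ∈ A
  h2 : ∀ P g, A ≤ P → P ≤ T → (∀ x ∈ P, g * x * g⁻¹ ∈ T) →
    ∃ f, Mor E P f ∧ ∀ x ∈ P, f x * (g * x * g⁻¹)⁻¹ ∈ A

theorem split {u v : G} (h : u * v⁻¹ ∈ A) : ∃ a ∈ A, u = a * v := ⟨_, h, by group⟩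

namespace Cx

theorem conj (c : Cx p T A E) {a : G} (ha : a ∈ A) (g : G) : g * a * g⁻¹ = a := by
  rw [c.cen a ha, mul_inv_cancel_right]

theorem normal (c : Cx p T A E) : A.Normal := ⟨fun a ha g => by rwa [c.conj ha]⟩

theorem map_left (c : Cx p T A E) (hA : A ≤ P) (hf : Mor E P f) {a x : G} (ha : a ∈ A)
    (hx : x ∈ P) : f (a * x) = a * f x := by
  rw [hf.map_mul (hA ha) hx, c.fix P f hf a ha (hA ha)]

variable [Finite G] [Fact p.Prime]

theorem pow_eq_one (c : Cx p T A E) (hA : A ≤ P) : ∃ k, ∀ α ∈ E.autGroup P, P ≤ T →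
    (∀ x ∈ P, ext α x * x⁻¹ ∈ A) → α ^ p ^ k = 1 := by
  obtain ⟨k, hk⟩ := exists_ppow (G := G) (p := p)
  refine ⟨k, fun α hα hP h => aut_eq_one fun x hx => ?_⟩
  have hm := mor_of_mem_autGroup hP hα
  have : ∀ n : ℕ, ext (α ^ n) x = (ext α x * x⁻¹) ^ n * x := fun n => by
    induction n with
    | zero => simp
    | succ n ih =>
      rw [pow_succ', ext_mul, ih, c.map_left hA hm (pow_mem (h x hx) n) hx, pow_succ,
        mul_assoc, inv_mul_cancel_right]
  obtain ⟨j, hj⟩ := c.syl.isPGroup ⟨_, c.le (h x hx)⟩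
  rw [this, hk _ j (congrArg Subtype.val hj), one_mul]

/-- an automorphism that is trivial modulo `A` lies in `O_p` -/
theorem pcore (c : Cx p T A E) (hA : A ≤ P) (hP : P ≤ T) {α : MulAut P} (hα : α ∈ E.autGroup P)
    (h : ∀ x ∈ P, ext α x * x⁻¹ ∈ A) : (⟨α, hα⟩ : E.autGroup P) ∈ pCore p (E.autGroup P) := by
  let K : Subgroup (E.autGroup P) :=
    { carrier := {β | ∀ x ∈ P, ext β.1 x * x⁻¹ ∈ A}
      one_mem' := fun x _ => by simp
      mul_mem' := fun {β γ} hβ hγ x hx => by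
        have := mul_mem (hβ _ (ext_mem γ.1 hx)) (hγ x hx)
        rwa [mul_assoc, inv_mul_cancel_left, ← ext_mul] at this
      inv_mem' := fun {β} hβ x hx => by
        have := inv_mem (hβ _ (ext_mem β.1⁻¹ hx))
        rwa [ext_ext_inv, mul_inv_rev, inv_inv] at this }
  have hn : K.Normal := ⟨fun β hβ γ x hx => by
    have hy := ext_mem γ.1⁻¹ hx
    have e := c.map_left hA (mor_of_mem_autGroup hP γ.2) (hβ _ hy) hy
    rw [inv_mul_cancel_right, ext_ext_inv] at e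
    change ext (γ.1 * β.1 * γ.1⁻¹) x * x⁻¹ ∈ A
    rw [ext_mul, ext_mul, e, mul_inv_cancel_right]
    exact hβ _ hy⟩
  obtain ⟨k, hk⟩ := c.pow_eq_one hA
  exact H96.le_pCore (N := K) (fun β => ⟨k, Subtype.ext (Subtype.ext (hk _ β.1.2 hP β.2))⟩) h

/-- the K-lemma -/
theorem inner (c : Cx p T A E) (hA : A ≤ P) (hC : Cen p A P) (hf : Mor E P f)
    (h : ∀ x ∈ P, f x * x⁻¹ ∈ A) : ∃ w ∈ P, ∀ x ∈ P, f x = w * x * w⁻¹ := by
  obtain ⟨α, hα, e⟩ := hf.exists_aut (hf.img_eq_of_mapsTo fun x hx => by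
    simpa using mul_mem (hA (h x hx)) hx)
  obtain ⟨k, hk⟩ := c.pow_eq_one hA
  obtain ⟨Q, φ, hφ, -, s, hs, e'⟩ := H96.sat_exists_conj_of_pElement c.syl.isPGroup c.sat hf.le hα
    (hk α hα hf.le fun x hx => by rw [e x hx]; exact h x hx)
  obtain ⟨g, hg⟩ := c.h1 P φ hA hφ.mor
  have key : ∀ x ∈ P, f x = (g⁻¹ * s * g) * x * (g⁻¹ * s * g)⁻¹ := fun x hx => by
    obtain ⟨a, ha, ea⟩ := split (h x hx)
    obtain ⟨b, hb, eb⟩ := split (hg x hx)
    have e1 := c.map_left hA hφ.mor ha hx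
    rw [← ea, ← e x hx, e' x hx, eb, ← mul_assoc s, c.cen b hb, ← mul_assoc a, c.cen b hb] at e1
    rw [ea, ← c.conj ha g⁻¹]
    calc _ = g⁻¹ * b⁻¹ * (b * a * (g * x * g⁻¹)) * g := by group
      _ = _ := by rw [← e1]; group
  obtain ⟨j, hj⟩ := c.syl.isPGroup ⟨s, hs⟩
  refine ⟨_, hC.2 _ ⟨j, ?_⟩ fun x hx => ?_, key⟩
  · have : s ^ p ^ j = 1 := congrArg Subtype.val hj
    rw [show g⁻¹ * s * g = g⁻¹ * s * g⁻¹⁻¹ by rw [inv_inv], conj_pow, this]; group
  · rw [commutatorElement_def, ← key x hx]; exact h x hx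

omit [Fact p.Prime] in
theorem norm (hA : A ≤ P) {w : G} (h : ∀ x ∈ P, ⁅w, x⁆ ∈ A) : w ∈ normalizer (P : Set G) :=
  mem_normalizer_fintype fun x hx => by
    simpa [commutatorElement_def] using mul_mem (hA (h x hx)) hx

theorem cen_top (c : Cx p T A E) : Cen p A T :=
  ⟨c.syl.isPGroup, fun w ⟨_, hk⟩ h => c.syl.mem_of_norm (mem_top w) hk (norm c.le h)⟩

/-- centric radical subgroups are centric modulo `A` -/
theorem cen_of_rad (c : Cx p T A E) (hc : E.IsCentric P) (hr : E.IsRadical p P) :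
    A ≤ P ∧ Cen p A P := by
  have hP := hc.1
  have hA : A ≤ P := fun a ha => hc.2 P (isConj_refl E hP) ⟨c.le ha, fun g _ => c.cen a ha g⟩
  have hp := c.syl.isPGroup.to_le hP
  refine ⟨hA, hp, fun w ⟨k, hk⟩ h => ?_⟩
  have hn := norm hA h
  obtain ⟨g, -, hg⟩ := c.syl.exists_conj_le (P := zpowers w ⊔ P) le_top
    (isPGroup_sup (isPGroup_zpowers hk) hp (zpowers_le.2 hn))
  have hw : g * w * g⁻¹ ∈ T := hg (conj_mem_cj (mem_sup_left (mem_zpowers w)))
  obtain ⟨f, hf, e⟩ := c.h2 P g hA hP fun x hx => hg (conj_mem_cj (mem_sup_right hx))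
  have hm : ∀ x ∈ P, w * x * w⁻¹ ∈ P := fun x hx => (mem_normalizer_iff.1 hn x).1 hx
  have key : ∀ x ∈ P, f (w * x * w⁻¹) = (g * w * g⁻¹) * f x * (g * w * g⁻¹)⁻¹ := fun x hx => by
    obtain ⟨b, hb, eb⟩ := split (e x hx)
    have := c.map_left hA hf (h x hx) hx
    rw [commutatorElement_def, inv_mul_cancel_right] at this
    rw [this, eb, ← mul_assoc _ b, ← mul_assoc _ b, c.cen b hb, c.cen b hb,
      ← commutatorElement_def, ← c.conj (h x hx) g, commutatorElement_def]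
    group
  obtain ⟨f', hf', i1, -, -, -⟩ := hf.inv
  have hα : conjAut P hn ∈ E.autGroup P := mem_autGroup_of_mor
    (((hf.comp_img (mor_conj E hf.img_le hw)).comp hf' fun x hx => by
      rw [← key x hx]; exact mem_img_of_mem f (hm x hx)).congr fun x hx => by
        rw [← key x hx, i1 _ (hm x hx), ext_conjAut hn hx])
  have h2 : conjAut P hn ∈ Inn P := hr.2 ▸ ⟨_, c.pcore hA hP hα fun x hx => by
    rw [ext_conjAut hn hx]; exact h x hx, rfl⟩
  obtain ⟨y, hy, ey⟩ := mem_inn_iff.1 h2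
  have h3 : (f y)⁻¹ * (g * w * g⁻¹) ∈ img P f := by
    refine (isCentric_iff.1 hc).2 f hf ⟨T.mul_mem (T.inv_mem (hf.mem hy)) hw, fun z hz => ?_⟩
    obtain ⟨x, hx, rfl⟩ := hf.mem_img.1 hz
    have := key x hx
    rw [← ext_conjAut hn hx, ey x hx, hf.map_conj hy hx] at this
    generalize g * w * g⁻¹ = u at *
    calc _ = (f y)⁻¹ * (f y * f x * (f y)⁻¹) * u := by group
      _ = _ := by rw [this]; group
  obtain ⟨z, hz, ez⟩ := hf.mem_img.1 (mul_mem (mem_img_of_mem f hy) h3)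
  obtain ⟨b, hb, eb⟩ := split (e z hz)
  rw [mul_inv_cancel_left, eb, ← c.conj hb g] at ez
  have : w = b * z := by
    calc w = g⁻¹ * (g * w * g⁻¹) * g := by group
      _ = _ := by rw [← ez]; group
  exact this ▸ mul_mem (hA hb) hz

theorem ess (c : Cx p T A E) (h : P = T ∨ E.IsEssential p P) : A ≤ P ∧ Cen p A P := by
  rcases h with rfl | h
  · exact ⟨c.le, c.cen_top⟩
  · exact c.cen_of_rad h.1 (H96.isRadical_of_isEssential c.syl.isPGroup h)

theorem group (c : Cx p T A E) : Cx p T A (groupFusionSystem T) where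
  syl := c.syl
  sat := by obtain ⟨S, rfl⟩ := c.syl.exists_sylow_top; exact group_isSaturated S
  le := c.le
  cen := c.cen
  fix P f hf a ha hP := by
    obtain ⟨-, -, g, e⟩ := mor_group_iff.1 hf
    rw [e a hP, c.conj ha]
  h1 P f _ hf := by
    obtain ⟨-, -, g, e⟩ := mor_group_iff.1 hf
    exact ⟨g, fun x hx => by rw [e x hx, mul_inv_cancel]; exact one_mem _⟩
  h2 P g _ hP h := ⟨_, mor_group_iff.2 ⟨hP, h, g, fun _ _ => rfl⟩, fun x _ => by simp⟩

end Cx

end Cfsg.Agent.H98.ML
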