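import Cfsg.Agent.H98.MlUqA

/-!
# The obstruction cochain and the correcting character
-/

set_option autoImplicit false

namespace Cfsg.Agent.H98.ML

open Subgroup H83 H1.ML H97
open scoped commutatorElement

universe u v

section adr
variable {G B : Type*} [Group G] [AddCommGroup B] {p : ℕ} {T H H' : Subgroup G}
  {E : FusionSystem T} {j : Multiplicative B →* G} {d d' : FA G B} {r r' r'' : G}

/-- `j` on additive elements -/
def J (j : Multiplicative B →* G) (b : B) : G := j (.ofAdd b)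

theorem J_add (a b : B) : J j (a + b) = J j a * J j b := map_mul j _ _
theorem J_zero : J j (0 : B) = 1 := map_one j
theorem J_neg (a : B) : J j (-a) = (J j a)⁻¹ := map_inv j _
theorem J_mem (a : B) : J j a ∈ j.range := ⟨_, rfl⟩

theorem mem_cji {h : G} (hh : h ∈ H) (r : G) : r⁻¹ * h * r ∈ cj r⁻¹ H := by
  simpa using conj_mem_cj (g := r⁻¹) hh

theorem of_mem_cji {k : G} (hk : k ∈ cj r⁻¹ H) : ∃ h ∈ H, k = r⁻¹ * h * r :=
  let ⟨h, hh, e⟩ := hk; ⟨h, hh, by simpa using e.symm⟩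

theorem Cx.le_cj {A : Subgroup G} (c : Cx p T A E) (hA : A ≤ H) (g : G) : A ≤ cj g H :=
  fun _ ha => c.conj ha g ▸ conj_mem_cj (hA ha)

/-- `d` corrects the conjugation `r⁻¹ H r → r'⁻¹ H r'` to a map of `E` -/
def AdR (E : FusionSystem T) (j : Multiplicative B →* G) (H : Subgroup G) (d : FA G B)
    (r r' : G) : Prop :=
  ∃ f, Mor E (cj r⁻¹ H) f ∧ ∀ h ∈ H, f (r⁻¹ * h * r) = J j (ev h d) * (r'⁻¹ * h * r')

theorem AdR.le (a : AdR E j H d r r') : cj r⁻¹ H ≤ T := let ⟨_, hf, _⟩ := a; hf.le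

theorem AdR.mono (a : AdR E j H d r r') (h : H' ≤ H) : AdR E j H' d r r' :=
  let ⟨f, hf, e⟩ := a; ⟨f, hf.mono (cj_mono _ h), fun x hx => e x (h hx)⟩

theorem AdR.smul (a : AdR E j H d r r') (g : G) : AdR E j (cj g H) (g • d) (g * r) (g * r') := by
  obtain ⟨f, hf, e⟩ := a
  refine ⟨f, by rwa [← cj_mul, mul_inv_rev, inv_mul_cancel_right], fun h hh => ?_⟩
  have := e _ (mem_cj.1 hh)
  rw [ev_smul]
  simpa only [mul_inv_rev, mul_assoc] using this

theorem adR_zero (h : cj r⁻¹ H ≤ T) {t : G} (ht : t ∈ T) : AdR E j H (0 : FA G B) r (r * t) :=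
  ⟨_, mor_conj' E h ht, fun x _ => by rw [map_zero, J_zero]; group⟩

variable (c : Cx p T j.range E) (hA : j.range ≤ H)
include c

theorem adR_of_K1 {hj : ∀ b g, g * j b = j b * g} (hd : d ∈ K1 j hj H) (h : cj r⁻¹ H ≤ T) :
    AdR E j H d r r := by
  obtain ⟨w, hw, e⟩ := hd
  refine ⟨_, mor_conj E h (h (mem_cji hw r)), fun x hx => ?_⟩
  rw [← c.conj (J_mem _) r⁻¹, J, e x hx, commutatorElement_def]
  group

include hA

theorem AdR.comp (a : AdR E j H d r r') (b : AdR E j H d' r' r'') : AdR E j H (d + d') r r'' := by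
  obtain ⟨f, hf, e⟩ := a
  obtain ⟨g, hg, e'⟩ := b
  refine ⟨_, hf.comp hg fun k hk => ?_, fun h hh => ?_⟩
  · obtain ⟨h, hh, rfl⟩ := of_mem_cji hk
    rw [e h hh]
    exact mul_mem (c.le_cj hA _ (J_mem _)) (mem_cji hh _)
  · rw [e h hh, c.map_left (c.le_cj hA _) hg (J_mem _) (mem_cji hh _), e' h hh, map_add, J_add,
      mul_assoc (J j _)]

theorem AdR.neg (a : AdR E j H d r r') : AdR E j H (-d) r' r := by
  obtain ⟨f, hf, e⟩ := a
  obtain ⟨g, hg, e', -⟩ := hf.inv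
  have m : ∀ h ∈ H, J j (ev h (-d)) * (r⁻¹ * h * r) ∈ cj r⁻¹ H := fun h hh =>
    mul_mem (c.le_cj hA _ (J_mem _)) (mem_cji hh _)
  have k : ∀ h ∈ H, r'⁻¹ * h * r' = f (J j (ev h (-d)) * (r⁻¹ * h * r)) := fun h hh => by
    rw [c.map_left (c.le_cj hA _) hf (J_mem _) (mem_cji hh _), e h hh, map_neg, J_neg,
      inv_mul_cancel_left]
  refine ⟨g, hg.mono fun x hx => ?_, fun h hh => by rw [k h hh, e' _ (m h hh)]⟩
  obtain ⟨h, hh, rfl⟩ := of_mem_cji hx
  rw [k h hh]
  exact mem_img_of_mem f (m h hh)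

theorem AdR.rep (a : AdR E j H d r r') {t t' : G} (ht : t ∈ T) (ht' : t' ∈ T) :
    AdR E j H d (r * t) (r' * t') := by
  simpa using (((adR_zero a.le ht).neg c hA).comp c hA a).comp c hA (adR_zero (a.neg c hA).le ht')

theorem AdR.hm (inj : Function.Injective j) (a : AdR E j H d r r') : d ∈ Hm B j.range H := by
  obtain ⟨f, hf, e⟩ := a
  have inj' : ∀ {a b : B}, J j a = J j b → a = b := fun e => inj e
  refine ⟨fun h hh k hk => inj' ?_, fun h hh => inj' ?_⟩
  · have := hf.map_mul (mem_cji hh r) (mem_cji hk r)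
    rw [e h hh, e k hk, show r⁻¹ * h * r * (r⁻¹ * k * r) = r⁻¹ * (h * k) * r by group,
      e _ (mul_mem hh hk), mul_assoc (J j (ev h d)), ← mul_assoc _ (J j (ev k d)),
      c.cen _ (J_mem (ev k d)), mul_assoc (J j (ev k d)), ← mul_assoc (J j (ev h d)), ← J_add,
      show r'⁻¹ * h * r' * (r'⁻¹ * k * r') = r'⁻¹ * (h * k) * r' by group] at this
    exact mul_right_cancel this
  · have e1 : ∀ g, g⁻¹ * h * g = h := fun g => by simpa using c.conj hh g⁻¹
    have := e h (hA hh)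
    rw [e1, e1, c.fix _ f hf h hh (c.le_cj hA _ hh)] at this
    rw [J_zero]
    exact (mul_eq_right.1 this.symm)

theorem adR_ex (h : cj r⁻¹ H ≤ T) (h' : cj r'⁻¹ H ≤ T) : ∃ d : FA G B, AdR E j H d r r' := by
  obtain ⟨f, hf, e⟩ := c.h2 _ (r'⁻¹ * r) (c.le_cj hA _) h fun k hk => by
    obtain ⟨x, hx, rfl⟩ := of_mem_cji hk
    simpa [mul_assoc] using h' (mem_cji hx r')
  have : ∀ x, ∃ b : B, x ∈ H → f (r⁻¹ * x * r) = J j b * (r'⁻¹ * x * r') := fun x => by
    by_cases hx : x ∈ H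
    · obtain ⟨_, ⟨b, rfl⟩, eb⟩ := split (e _ (mem_cji hx r))
      exact ⟨b.toAdd, fun _ => by rw [eb, J, ofAdd_toAdd]; group⟩
    · exact ⟨0, fun h => (hx h).elim⟩
  choose d hd using this
  exact ⟨fa d, f, hf, hd⟩

theorem AdR.k1 [Finite G] [Fact p.Prime] {hj : ∀ b g, g * j b = j b * g} (hC : Cen p j.range H)
    (a : AdR E j H d r r) : d ∈ K1 j hj H := by
  obtain ⟨f, hf, e⟩ := a
  haveI := c.normal
  obtain ⟨w, hw, e'⟩ := c.inner (c.le_cj hA _) (hC.cj _) hf fun k hk => by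
    obtain ⟨x, hx, rfl⟩ := of_mem_cji hk
    rw [e x hx, mul_inv_cancel_right]; exact J_mem _
  obtain ⟨y, hy, rfl⟩ := of_mem_cji hw
  refine ⟨y, hy, fun x hx => ?_⟩
  have := e' _ (mem_cji hx r)
  rw [e x hx, ← eq_mul_inv_iff_mul_eq] at this
  change J j _ = _
  rw [← c.conj (J_mem _) r, this, commutatorElement_def]
  group

end adr

section chi
variable {G B : Type v} [Group G] [AddCommGroup B] {p : ℕ} {T : Subgroup G}
  {E : FusionSystem T} {j : Multiplicative B →* G}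

theorem stab_iff (g r : G) : g • (r : G ⧸ T) = r ↔ r⁻¹ * g * r ∈ T := by
  rw [eq_comm, MulAction.Quotient.smul_coe, QuotientGroup.eq, smul_eq_mul, mul_assoc]

theorem syl_quot (h : IsSylowIn p T ⊤) : Syl p G (G ⧸ T) where
  syl x := by
    obtain ⟨r, rfl⟩ := QuotientGroup.mk_surjective x
    have : MulAction.stabilizer G (r : G ⧸ T) = cj r T := by
      ext g; rw [MulAction.mem_stabilizer_iff, stab_iff, mem_cj]
    exact this ▸ h.cj_of_mem (mem_top r)
  ne := ⟨((1 : G) : G ⧸ T)⟩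
  tr := MulAction.exists_smul_eq G

theorem cj_St_le {l : List (G ⧸ T)} {r : G} (h : (r : G ⧸ T) ∈ l) : cj r⁻¹ (St ⊤ l) ≤ T :=
  fun k hk => by
    obtain ⟨x, hx, rfl⟩ := of_mem_cji hk
    exact (stab_iff x r).1 ((mem_St.1 hx).2 _ h)

theorem Cx.le_St (c : Cx p T j.range E) (l : List (G ⧸ T)) : j.range ≤ St ⊤ l := fun a ha =>
  mem_St.2 ⟨mem_top a, fun x _ => by
    obtain ⟨r, rfl⟩ := QuotientGroup.mk_surjective x
    rw [stab_iff, ← inv_inv r, inv_inv r⁻¹, c.conj ha]; exact c.le ha⟩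

theorem AdR.out (c : Cx p T j.range E) {H : Subgroup G} (hA : j.range ≤ H) {d : FA G B} {r r' : G}
    (a : AdR E j H d r r') {s s' : G} (e : (r : G ⧸ T) = s) (e' : (r' : G ⧸ T) = s') :
    AdR E j H d s s' := by
  simpa using a.rep c hA (QuotientGroup.eq.1 e) (QuotientGroup.eq.1 e')

theorem exists_chi (key : KeyStmt.{v}) [Finite G] [Fact p.Prime] (c : Cx p T j.range E)
    (inj : Function.Injective j) : ∃ χ ∈ Hm B j.range T, ∀ (P : Subgroup G) (g : G),
      Cen p j.range P → P ≤ T → (∀ x ∈ P, g * x * g⁻¹ ∈ T) →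
      Mor E P fun x => J j (ev (g * x * g⁻¹) χ - ev x χ) * (g * x * g⁻¹) := by
  classical
  have sy := syl_quot c.syl
  have hj : ∀ b g, g * j b = j b * g := fun b g => c.cen _ ⟨b, rfl⟩ g
  have hA := c.le_St
  have ex : ∀ x y : G ⧸ T, ∃ d : FA G B, AdR E j (St ⊤ [x, y]) d x.out y.out := fun x y =>
    adR_ex c (hA _) (cj_St_le (by simp)) (cj_St_le (by simp))
  choose d hd using ex
  let f : List (G ⧸ T) → FA G B := fun l => match l with
    | [x, y] => if Cen p j.range (St ⊤ [x, y]) then d x y else 0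
    | _ => 0
  have cm : ∀ {a b : List (G ⧸ T)}, a ⊆ b → a ≠ [] → Cen p j.range (St ⊤ b) →
      Cen p j.range (St ⊤ a) := fun h hn hc => hc.mono (St_anti h) (sy.adm.pSt _ hn)
  have hf : ∀ x y, Cen p j.range (St ⊤ [x, y]) → f [x, y] = d x y := fun x y h => if_pos h
  obtain ⟨h, h1, h2⟩ := key G (G ⧸ T) B p sy j hj inj (c.syl.isPGroup.to_le c.le) f
    (fun l hl => by
      obtain ⟨x, y, rfl⟩ := List.length_eq_two.1 hl
      refine ⟨fun t => hf x y t ▸ (hd x y).hm c (hA _) inj, fun t g _ => ?_, fun t => if_neg t⟩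
      have t' : Cen p j.range (St ⊤ (g • [x, y])) := by
        haveI := c.normal
        rw [St_smul (mem_top g)]; exact t.cj g
      have a := (hd x y).smul g
      rw [← St_smul (mem_top g)] at a
      have o : ∀ x : G ⧸ T, ((g • x).out : G ⧸ T) = (g * x.out : G) := fun x => by
        rw [QuotientGroup.out_eq', ← smul_eq_mul, ← MulAction.Quotient.smul_coe,
          QuotientGroup.out_eq']
      have b := (hd (g • x) (g • y)).out c (hA _) (o x) (o y)
      rw [hf x y t, show f (g • [x, y]) = _ from hf _ _ t', sub_eq_add_neg]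
      exact (a.comp c (hA _) (b.neg c (hA _))).k1 c (hA _) t')
    (fun l hl t => by
      obtain ⟨x, y, z, rfl⟩ := List.length_eq_three.1 hl
      have e : dl f [x, y, z] = f [x, y] + f [y, z] + -f [x, z] := by
        simp only [dl_cons, dl_nil]; abel
      rw [e, hf _ _ (cm (by simp) (by simp) t), hf _ _ (cm (by simp) (by simp) t),
        hf _ _ (cm (by simp) (by simp) t)]
      exact ((((hd x y).mono (St_anti (by simp))).comp c (hA _)
        ((hd y z).mono (St_anti (by simp)))).comp c (hA _)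
        (((hd x z).mono (St_anti (by simp))).neg c (hA _))).k1 c (hA _) t)
  have e0 : St ⊤ [((1 : G) : G ⧸ T)] = T := by
    ext g; simp only [mem_St, mem_top, List.forall_mem_singleton, stab_iff]; simp
  have t0 : Cen p j.range (St ⊤ [((1 : G) : G ⧸ T)]) := e0.symm ▸ c.cen_top
  refine ⟨h [((1 : G) : G ⧸ T)], by simpa only [e0] using (h1 _ rfl).mem t0, fun P g hC hP hg => ?_⟩
  let x : G ⧸ T := (1 : G)
  let y : G ⧸ T := (g⁻¹ : G)
  have hle : P ≤ St ⊤ [x, y] := fun k hk => mem_St.2 ⟨mem_top k, by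
    simp only [List.forall_mem_cons, x, y, stab_iff]; simpa using And.intro (hP hk) (hg k hk)⟩
  have t := hC.mono hle (sy.adm.pSt _ (by simp))
  have a1 : AdR E j (St ⊤ [x, y]) (d x y) 1 g⁻¹ :=
    (hd x y).out c (hA _) (QuotientGroup.out_eq' x) (QuotientGroup.out_eq' y)
  have a2 : AdR E j (St ⊤ [x, y]) _ g⁻¹ g⁻¹ :=
    adR_of_K1 c (neg_mem (h2 [x, y] rfl t)) (cj_St_le (by simp [y]))
  have e1 : g⁻¹ • [x] = [y] := by simp [x, y]
  have a3 : AdR E j (St ⊤ [x, y]) _ g⁻¹ g⁻¹ := (adR_of_K1 c ((h1 [x] rfl).eqv t0 g⁻¹ (mem_top _))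
    (cj_St_le (by simp [e1, y]))).mono (St_anti (by simp [e1]))
  obtain ⟨φ, hφ, e⟩ := (a1.comp c (hA _) a2).comp c (hA _) a3
  rw [inv_one, cj_one] at hφ
  refine (hφ.mono hle).congr fun k hk => ?_
  have := e k (hle hk)
  rw [inv_one, one_mul, mul_one, inv_inv, hf _ _ t, e1] at this
  rw [this]
  congr 2
  simp only [dl_cons, dl_nil, map_add, map_neg, map_sub, ev_smul, inv_inv, map_zero]
  abel

end chi

end Cfsg.Agent.H98.ML
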