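import Cfsg.Agent.H98.AltSimple
import Cfsg.Agent.H63.Prod

/-!
Nilpotent subgroups of largest order of symmetric and alternating groups.
-/

set_option autoImplicit false

namespace Cfsg.Agent.H98.NilS

open Cfsg Cfsg.Agent.H63 Cfsg.Agent.H67 Equiv Equiv.Perm MulAction Finset
open scoped Pointwise

/-- `G` has a faithful action on `n` points -/
def Deg (G : Type) [Group G] (n : ℕ) : Prop := ∃ f : G →* Perm (Fin n), Function.Injective f

theorem deg_of_injective {G X : Type} [Group G] [Finite X] (f : G →* Perm X)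
    (hf : Function.Injective f) : Deg G (Nat.card X) :=
  ⟨(Finite.equivFin X).permCongrHom.toMonoidHom.comp f,
    (Finite.equivFin X).permCongrHom.injective.comp hf⟩

variable {Ω : Type} [Fintype Ω] [DecidableEq Ω] {A B : Subgroup (Perm Ω)}

omit [Fintype Ω] [DecidableEq Ω] in
theorem eq_of_mem_orbit (hc : A ≤ C[B]) (hcop : (Nat.card A).Coprime (Nat.card B)) {a : Perm Ω}
    (ha : a ∈ A) {x : Ω} (h : a x ∈ orbit B x) : a x = x := by
  obtain ⟨b, hb⟩ := h
  have h1 : ∀ k : ℕ, (a ^ k) x = (b ^ k : B) • x := fun k => by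
    induction k with
    | zero => rfl
    | succ k ih =>
      rw [pow_succ', Perm.mul_apply, ih, pow_succ, mul_smul, show b • x = a x from hb]
      exact (congrArg (· x) (hc ha _ (b ^ k).2)).symm
  have h2 : a ^ Nat.card B ∈ stabilizer (Perm Ω) x := by
    rw [mem_stabilizer_iff, Perm.smul_def, h1, pow_card_eq_one', one_smul]
  exact Subgroup.zpowers_le.2 h2 (mem_zpowers_pow_iff.2
    (hcop.symm.coprime_dvd_right (Subgroup.orderOf_dvd_natCard A ha)))

open scoped Classical in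
theorem deg_orbits (hc : A ≤ C[B]) (hcop : (Nat.card A).Coprime (Nat.card B)) (X : Finset Ω)
    (hX : ∀ a ∈ A, ∀ x, a x ≠ x → x ∈ X) : Deg A #(X.image (orbit B)) := by
  have h1 : ∀ (a : A) (x : Ω), a • orbit B x = orbit B (a • x) := fun a x => by
    ext y
    constructor
    · rintro ⟨_, ⟨b, rfl⟩, rfl⟩
      exact ⟨b, congrArg (· x) (hc a.2 _ b.2)⟩
    · rintro ⟨b, rfl⟩
      exact ⟨_, ⟨b, rfl⟩, (congrArg (· x) (hc a.2 _ b.2)).symm⟩
  let S : SubMulAction A (Set Ω) := ⟨X.image (orbit B), fun a s hs => by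
    obtain ⟨x, hx, rfl⟩ := mem_image.1 hs
    refine mem_image.2 ⟨a • x, ?_, (h1 a x).symm⟩
    by_cases h : a • x = x
    · rwa [h]
    · exact hX a a.2 _ fun e => h (a.1.injective e)⟩
  have := deg_of_injective (toPermHom A S) ((injective_iff_map_eq_one _).2 fun a ha => by
    ext x
    by_contra h
    have h2 := congrArg Subtype.val (Equiv.congr_fun ha
      ⟨orbit B x, mem_image.2 ⟨x, hX a a.2 x h, rfl⟩⟩)
    exact h (eq_of_mem_orbit hc hcop a.2 (orbit_eq_iff.1 ((h1 a x).symm.trans h2))))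
  rwa [show Nat.card S = _ from Nat.card_eq_finsetCard (X.image (orbit B))] at this

open scoped Classical in
omit [Fintype Ω] [DecidableEq Ω] in
theorem orb_count (k : ℕ) (Z : Finset Ω)
    (h : ∀ x ∈ Z, ∃ s ⊆ Z, k ≤ #s ∧ ∀ y ∈ s, y ∈ orbit B x) : k * #(Z.image (orbit B)) ≤ #Z := by
  refine mul_card_image_le_card Z k fun O hO => ?_
  obtain ⟨x, hx, rfl⟩ := mem_image.1 hO
  obtain ⟨s, h1, h2, h3⟩ := h x hx
  exact h2.trans (card_le_card fun y hy => mem_filter.2 ⟨h1 hy, orbit_eq_iff.2 (h3 y hy)⟩)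

omit [Fintype Ω] [DecidableEq Ω] in
theorem moved_of_comm (hc : A ≤ C[B]) {b : Perm Ω} (hb : b ∈ B) {x : Ω} (h : ∃ a ∈ A, a x ≠ x) :
    ∃ a ∈ A, a (b x) ≠ b x :=
  let ⟨a, ha, h1⟩ := h
  ⟨a, ha, AltS.ne_of_comm (hc ha b hb) h1⟩

theorem split (hc : A ≤ C[B]) (hcop : (Nat.card A).Coprime (Nat.card B)) :
    ∃ a b, a + b ≤ Fintype.card Ω ∧ Deg A a ∧ Deg B b := by
  classical
  have key : ∀ {A B : Subgroup (Perm Ω)}, A ≤ C[B] → ∀ {X Y : Finset Ω},
      (∀ x, x ∈ X ↔ ∃ a ∈ A, a x ≠ x) → (∀ x, x ∈ Y ↔ ∃ b ∈ B, b x ≠ x) →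
      2 * #(X.image (orbit B)) ≤ 2 * #(X \ Y) + #(X ∩ Y) := fun {A B} hc X Y hX hY => by
    have h1 := orb_count (B := B) 2 (X ∩ Y) fun x hx => by
      obtain ⟨b, hb, h1⟩ := (hY x).1 (mem_inter.1 hx).2
      refine ⟨{x, b x}, insert_subset hx (singleton_subset_iff.2 (mem_inter.2
        ⟨(hX _).2 (moved_of_comm hc hb ((hX x).1 (mem_inter.1 hx).1)),
          (hY _).2 ⟨b, hb, fun e => h1 (b.injective e)⟩⟩)), (card_pair h1.symm).ge, ?_⟩
      simp only [mem_insert, mem_singleton, forall_eq_or_imp, forall_eq]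
      exact ⟨mem_orbit_self x, ⟨b, hb⟩, rfl⟩
    have h2 := card_union_le ((X \ Y).image (orbit B)) ((X ∩ Y).image (orbit B))
    rw [← image_union, sdiff_union_inter] at h2
    have h3 := card_image_le (s := X \ Y) (f := orbit B)
    omega
  set X := univ.filter fun x => ∃ a ∈ A, a x ≠ x
  set Y := univ.filter fun x => ∃ b ∈ B, b x ≠ x
  have hX : ∀ x, x ∈ X ↔ ∃ a ∈ A, a x ≠ x := by simp [X]
  have hY : ∀ x, x ∈ Y ↔ ∃ a ∈ B, a x ≠ x := by simp [Y]
  refine ⟨_, _, ?_, deg_orbits hc hcop X fun a ha x hx => (hX x).2 ⟨a, ha, hx⟩,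
    deg_orbits (cent_symm hc) hcop.symm Y fun a ha x hx => (hY x).2 ⟨a, ha, hx⟩⟩
  have h1 := key hc hX hY
  have h2 := key (cent_symm hc) hY hX
  have h3 := card_sdiff_add_card X Y
  have h4 := card_sdiff_add_card_inter Y X
  have h5 := card_le_univ (X ∪ Y)
  rw [inter_comm] at h1
  omega

theorem le_of_deg {G : Type} [Group G] {n p k : ℕ} [Fact p.Prime] (h : Deg G n)
    (hk : Nat.card G = p ^ k) : k ≤ padicValNat p n.factorial := by
  obtain ⟨f, hf⟩ := h
  have := Subgroup.card_dvd_of_injective f hf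
  rwa [hk, Nat.card_perm, Nat.card_fin, padicValNat_dvd_iff_le n.factorial_ne_zero] at this

theorem step (p : ℕ) [hp : Fact p.Prime] {G : Type} [Group G] (hG : Group.IsNilpotent G) {n : ℕ}
    (h : Deg G n) : ∃ a b k, ∃ Q : Subgroup (Perm (Fin n)), a + b ≤ n ∧ Group.IsNilpotent Q ∧
      Deg Q b ∧ ¬ p ∣ Nat.card Q ∧ k ≤ padicValNat p a.factorial ∧ Nat.card G = p ^ k * Nat.card Q := by
  obtain ⟨f, hf⟩ := h
  have h1 : Group.IsNilpotent f.range := Group.nilpotent_of_mulEquiv (f.ofInjective hf)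
  have h2 := isDp_piCoreOf_of_isNilpotent {p} h1
  obtain ⟨a, b, h3, h4, h5⟩ := split h2.cent' (isPi_coprime (isPi_piCoreOf _ _) (isPi_piCoreOf _ _))
  obtain ⟨k, hk⟩ := IsPGroup.iff_card.1 (isPGroup_pCoreOf hp.out f.range)
  exact ⟨a, b, k, _, by simpa using h3, Group.nilpotent_of_mulEquiv
    (Subgroup.subgroupOfEquivOfLe h2.le_right), h5, fun h => isPi_piCoreOf _ _ p hp.out h rfl,
    le_of_deg h4 hk, by rw [← hk, ← h2.card, Nat.card_congr (f.ofInjective hf).toEquiv]⟩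

theorem crude (e c : ℕ) (hc : 0 < c) (G : Type) [Group G] (hG : Group.IsNilpotent G) (n : ℕ)
    (h : Deg G n) (hq : ∀ q, q.Prime → q ∣ Nat.card G → q ^ e ≤ c ^ (q - 1)) :
    Nat.card G = 1 ∨ Nat.card G ^ e * c ≤ c ^ n := by
  induction hm : Nat.card G using Nat.strong_induction_on generalizing G n with
  | _ m ih =>
  subst hm
  refine or_iff_not_imp_left.2 fun h1 => ?_
  obtain ⟨p, hp, h2⟩ := Nat.exists_prime_and_dvd h1
  haveI := Fact.mk hp
  obtain ⟨a, b, k, Q, h3, h4, h5, h6, h7, h8⟩ := step p hG h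
  have hk : k ≠ 0 := by rintro rfl; exact h6 (by simpa [h8] using h2)
  have ha : a ≠ 0 := by rintro rfl; exact hk (by simpa using h7)
  have h9 : Nat.card Q ^ e ≤ c ^ b := by
    rcases ih _ (h8 ▸ lt_mul_of_one_lt_left Nat.card_pos (Nat.one_lt_pow hk hp.one_lt)) Q h4 b h5
      (fun q h9 h10 => hq q h9 (h8 ▸ h10.mul_left _)) rfl with h9 | h9
    · rw [h9, one_pow]; exact Nat.one_le_pow _ _ hc
    · exact (Nat.le_mul_of_pos_right _ hc).trans h9
  have h10 := (Nat.mul_le_mul_left (p - 1) h7).trans_lt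
    (sub_one_mul_padicValNat_factorial_lt_of_ne_zero p ha)
  calc Nat.card G ^ e * c = (p ^ e) ^ k * c * Nat.card Q ^ e := by rw [h8]; ring
    _ ≤ (c ^ (p - 1)) ^ k * c * c ^ b := by gcongr ?_ ^ _ * _ * ?_; exact hq p hp h2
    _ = c ^ ((p - 1) * k + 1 + b) := by ring
    _ ≤ c ^ n := Nat.pow_le_pow_right hc (by omega)

/-- the order of a Sylow `2`-subgroup of `S_n` -/
def T (n : ℕ) : ℕ := 2 ^ padicValNat 2 n.factorial

theorem T_mul_le (a b : ℕ) : T a * T b ≤ T (a + b) := by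
  rw [T, T, T, ← pow_add, ← padicValNat.mul a.factorial_ne_zero b.factorial_ne_zero]
  exact Nat.pow_le_pow_right two_pos ((padicValNat_dvd_iff_le (a + b).factorial_ne_zero).1
    (pow_padicValNat_dvd.trans (Nat.factorial_mul_factorial_dvd_factorial_add a b)))

theorem T_pos (a : ℕ) : 0 < T a := Nat.two_pow_pos _

theorem T_mono {a b : ℕ} (h : a ≤ b) : T a ≤ T b := by
  obtain ⟨c, rfl⟩ := Nat.exists_eq_add_of_le h
  exact (Nat.le_mul_of_pos_right _ (T_pos c)).trans (T_mul_le a c)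

theorem T_eq {n : ℕ} (h : n < 32) : T n = 2 ^ (n / 2 + n / 4 + n / 8 + n / 16) := by
  rw [T, padicValNat_factorial (b := 5) (Nat.log_lt_of_lt_pow' (by omega) h)]
  simp [Finset.sum_Ico_eq_sum_range, Finset.sum_range_succ]

theorem T_four (j r : ℕ) (hr : r < 4) : T (4 * j + r) = T j * 8 ^ j * 2 ^ (r / 2) := by
  have h1 : 4 * j + r = 2 * (2 * j + r / 2) + r % 2 := by omega
  rw [T, T, h1, padicValNat_factorial_mul_add _ (by omega), padicValNat_factorial_mul,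
    padicValNat_factorial_mul_add _ (by omega), padicValNat_factorial_mul, show 8 = 2 ^ 3 by rfl,
    ← pow_mul]
  ring

theorem T_three {n : ℕ} (h : n % 4 = 3) : T n = 2 * T (n - 3) := by
  obtain ⟨j, rfl⟩ : ∃ j, n = 4 * j + 3 := ⟨n / 4, by omega⟩
  rw [T_four j 3 (by omega), Nat.add_sub_cancel, ← add_zero (4 * j), T_four j 0 (by omega)]
  ring

theorem T_not_three {n : ℕ} (h : n % 4 ≠ 3) (h3 : 3 ≤ n) : 4 * T (n - 3) ≤ T n := by
  obtain ⟨j, r, hr, rfl⟩ : ∃ j r, r < 3 ∧ n = 4 * (j + 1) + r := ⟨n / 4 - 1, n % 4, by omega⟩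
  rw [T_four _ r (by omega), show 4 * (j + 1) + r - 3 = 4 * j + (r + 1) by omega,
    T_four j _ (by omega)]
  have := T_mono (Nat.le_add_right j 1)
  calc _ = T j * 8 ^ j * (4 * 2 ^ ((r + 1) / 2)) := by ring
    _ ≤ T (j + 1) * 8 ^ j * (8 * 2 ^ (r / 2)) := by
      gcongr ?_ * _ * ?_
      interval_cases r <;> norm_num
    _ = _ := by ring

theorem T_lt {n : ℕ} (h : n % 4 = 3) (h3 : 4 ≤ n) : T (n - 4) < T (n - 3) := by
  obtain ⟨j, rfl⟩ : ∃ j, n = 4 * (j + 1) + 3 := ⟨n / 4 - 1, by omega⟩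
  rw [show 4 * (j + 1) + 3 - 4 = 4 * j + 3 by omega, T_four j _ (by omega), Nat.add_sub_cancel,
    ← add_zero (4 * (j + 1)), T_four _ 0 (by omega)]
  have := T_mono (Nat.le_add_right j 1)
  have h1 := T_pos j
  calc _ < T j * 8 ^ j * 8 := by gcongr; norm_num
    _ ≤ T (j + 1) * 8 ^ j * 8 := by gcongr
    _ = _ := by ring

theorem T_large (n : ℕ) : 4 * 3 ^ (n + 16) ≤ 3 * T (n + 16) ^ 2 := by
  induction n using Nat.strong_induction_on with
  | _ n ih =>
  by_cases h : n < 8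
  · rw [T_eq (by omega)]
    interval_cases n <;> norm_num
  · obtain ⟨m, rfl⟩ : ∃ m, n = m + 8 := ⟨n - 8, by omega⟩
    have h1 := T_mul_le (m + 16) 8
    rw [T_eq (n := 8) (by omega)] at h1
    calc _ = 4 * 3 ^ (m + 16) * 3 ^ 8 := by ring
      _ ≤ 3 * T (m + 16) ^ 2 * 128 ^ 2 := by gcongr ?_ * ?_; exacts [ih m (by omega), by norm_num]
      _ = 3 * (T (m + 16) * 128) ^ 2 := by ring
      _ ≤ _ := by gcongr; exact h1.trans (by rw [add_right_comm])

theorem odd_small {Q : Type} [Group Q] (hQ : Group.IsNilpotent Q) {m : ℕ} (h : Deg Q m)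
    (ho : ¬ 2 ∣ Nat.card Q) (hm : m < 16) :
    Nat.card Q ≤ [1, 1, 1, 3, 3, 5, 9, 11, 16, 81, 81, 81, 243, 243, 405, 729].getD m 0 := by
  haveI := Nat.fact_prime_three
  obtain ⟨b, c, k, R, h1, h2, h3, h4, h5, h6⟩ := step 3 hQ h
  have h7 : ∀ q, q.Prime → q ∣ Nat.card R → 5 ≤ q := fun q h7 h8 => by
    by_contra h9
    have : q < 5 := by omega
    interval_cases q
    exacts [absurd h7 (by decide), absurd h7 (by decide), ho (h6 ▸ h8.mul_left _), h4 h8,
      absurd h7 (by decide)]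
  have h8 : Nat.card R ≤ [1, 1, 1, 1, 1, 5, 7, 11, 16, 25, 37, 55, 83, 125, 186, 279].getD c 0 := by
    have : c < 16 := by omega
    by_cases h8 : Nat.card R = 1
    · rw [h8]; interval_cases c <;> simp
    obtain ⟨q, h9, h10⟩ := Nat.exists_prime_and_dvd h8
    have h11 := (h7 q h9 h10).trans (Nat.le_of_dvd Nat.card_pos h10)
    have h12 := (crude 4 5 (by omega) R h2 c h3 fun q h9 h10 => by
      obtain ⟨j, rfl⟩ := Nat.exists_eq_add_of_le (h7 q h9 h10)
      rw [show 5 + j - 1 = 4 + j by omega]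
      clear h9 h10
      induction j with
      | zero => norm_num
      | succ j ih =>
        calc (5 + (j + 1)) ^ 4 ≤ 5 * (5 + j) ^ 4 := by ring_nf; omega
          _ ≤ _ := by rw [← add_assoc, pow_succ' 5]; gcongr).resolve_left h8
    by_contra h13
    have h14 := Nat.pow_le_pow_left (not_le.1 h13) 4
    have h15 := Nat.pow_le_pow_left h11 4
    interval_cases c <;> simp at h14 <;> omega
  rw [padicValNat_factorial (b := 3) (Nat.log_lt_of_lt_pow' (by omega) (by omega))] at h5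
  have h9 : ∀ m < 16, ∀ b ≤ m, ∀ c ≤ m - b, 3 ^ (b / 3 + b / 9) *
      [1, 1, 1, 1, 1, 5, 7, 11, 16, 25, 37, 55, 83, 125, 186, 279].getD c 0 ≤
      [1, 1, 1, 3, 3, 5, 9, 11, 16, 81, 81, 81, 243, 243, 405, 729].getD m 0 := by decide
  exact h6 ▸ (Nat.mul_le_mul (Nat.pow_le_pow_right (by omega) h5) h8).trans
    (h9 m hm b (by omega) c (by omega))

theorem odd_large {Q : Type} [Group Q] (hQ : Group.IsNilpotent Q) {m : ℕ} (h : Deg Q m)
    (ho : ¬ 2 ∣ Nat.card Q) (hm : 16 ≤ m) : 2 * Nat.card Q ≤ T m := by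
  obtain ⟨n, rfl⟩ := Nat.exists_eq_add_of_le' hm
  have h1 := T_large n
  rcases crude 2 3 (by omega) Q hQ _ h (fun q h2 h3 => by
    obtain ⟨j, rfl⟩ := Nat.exists_eq_add_of_le (show 3 ≤ q from h2.two_le.lt_of_ne
      fun e => ho (e ▸ h3))
    rw [show 3 + j - 1 = 2 + j by omega]
    clear h2 h3
    induction j with
    | zero => norm_num
    | succ j ih =>
      calc (3 + (j + 1)) ^ 2 ≤ 3 * (3 + j) ^ 2 := by ring_nf; omega
        _ ≤ _ := by rw [← add_assoc, pow_succ' 3]; gcongr) with h2 | h2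
  · rw [h2]
    exact (T_mono hm).trans' (by rw [T_eq (by omega)]; norm_num)
  · exact (Nat.pow_le_pow_iff_left two_ne_zero).1 (by nlinarith)

theorem odd_bound {Q : Type} [Group Q] (hQ : Group.IsNilpotent Q) {m : ℕ} (h : Deg Q m)
    (ho : ¬ 2 ∣ Nat.card Q) : (m = 3 → Nat.card Q ≤ 3) ∧ (m ≠ 3 → Nat.card Q ≤ T m) ∧
      (m = 7 → Nat.card Q ≤ 11) ∧
      (4 ≤ m → m ≠ 5 → m ≠ 6 → m ≠ 7 → m ≠ 9 → 2 * Nat.card Q ≤ T m) ∧ (m < 3 → Nat.card Q ≤ 1) := by
  by_cases hm : m < 16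
  · have := odd_small hQ h ho hm
    rw [T_eq (by omega)]
    interval_cases m <;> simp at this ⊢ <;> omega
  · have := odd_large hQ h ho (not_lt.1 hm)
    omega

theorem sym_bound {G : Type} [Group G] (hG : Group.IsNilpotent G) {n : ℕ} (h : Deg G n) :
    Nat.card G ≤ T n ∨ 3 ≤ n ∧ Nat.card G ≤ 3 * T (n - 3) := by
  obtain ⟨a, b, k, Q, h1, h2, h3, h4, h5, h6⟩ := step 2 hG h
  have h7 : 2 ^ k ≤ T a := Nat.pow_le_pow_right two_pos h5
  obtain ⟨h8, h9, -⟩ := odd_bound h2 h3 h4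
  rw [h6]
  by_cases hb : b = 3
  · exact Or.inr ⟨by omega, mul_comm 3 _ ▸ Nat.mul_le_mul (h7.trans (T_mono (by omega))) (h8 hb)⟩
  · exact Or.inl ((Nat.mul_le_mul h7 (h9 hb)).trans ((T_mul_le a b).trans (T_mono h1)))

theorem deg_sub {n : ℕ} (N : Subgroup (Perm (Fin n))) : Deg N n := ⟨N.subtype, N.subtype_injective⟩

theorem sym_bound_ne {n : ℕ} (hn : n % 4 ≠ 3) {N : Subgroup (Perm (Fin n))}
    (hN : Group.IsNilpotent N) : Nat.card N ≤ T n :=
  (sym_bound hN (deg_sub N)).elim id fun h => by have := T_not_three hn h.1; omega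

theorem sym_bound_eq {n : ℕ} (hn : n % 4 = 3) {N : Subgroup (Perm (Fin n))}
    (hN : Group.IsNilpotent N) : Nat.card N ≤ 3 * T (n - 3) :=
  (sym_bound hN (deg_sub N)).elim (fun h => by have := T_three hn; omega) And.right

theorem card_syl {n : ℕ} (P : Sylow 2 (Perm (Fin n))) : Nat.card P = T n := by
  simpa [T] using AltS.card_of_sylIn_perm (sylIn_top P)

theorem card_syl_alt {n : ℕ} (hn : 2 ≤ n) (P : Sylow 2 (alternatingGroup (Fin n))) :
    2 * Nat.card P = T n := by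
  haveI := Fin.nontrivial_iff_two_le.2 hn
  have h := two_mul_nat_card_alternatingGroup (α := Fin n)
  rw [Nat.card_perm, Nat.card_fin] at h
  rw [P.card_eq_multiplicity, T, ← h, padicValNat.mul two_ne_zero Nat.card_pos.ne',
    padicValNat_self, Nat.factorization_def _ Nat.prime_two, pow_add, pow_one]

theorem exists_double (hc : A ≤ C[B]) (hA : IsPGroup 2 A) (h0 : A ≠ ⊥) (hB : ¬ 2 ∣ Nat.card B)
    (ha : A ≤ alternatingGroup Ω) :
    ∃ P, P ≤ C[B] ∧ IsPGroup 2 P ∧ 2 * Nat.card A ≤ Nat.card P := by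
  classical
  obtain ⟨⟨x, hx⟩, h1⟩ := exists_prime_orderOf_dvd_card' (G := A) 2
    (dvd_card_of_isPGroup Nat.prime_two hA h0)
  rw [Subgroup.orderOf_mk] at h1
  have hxx : ∀ y, x (x y) = y := fun y => by
    rw [← Perm.mul_apply, ← sq, ← h1, pow_orderOf_eq_one, Perm.one_apply]
  obtain ⟨y₀, h2⟩ : ∃ y, x y ≠ y := by
    by_contra h2
    push Not at h2
    rw [show x = 1 from Equiv.ext h2, orderOf_one] at h1
    omega
  have hxb : ∀ b ∈ B, ∀ y, x (b y) = b (x y) := fun b hb y => (congrArg (· y) (hc hx b hb)).symm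
  have hO : ∀ b ∈ B, ∀ y, b y ∈ orbit B y₀ ↔ y ∈ orbit B y₀ := fun b hb y =>
    ⟨fun h => by simpa [Subgroup.smul_def] using mapsTo_smul_orbit (⟨b, hb⟩⁻¹ : B) y₀ h,
      fun h => mapsTo_smul_orbit (⟨b, hb⟩ : B) y₀ h⟩
  have hd : ∀ y ∈ orbit B y₀, x y ∉ orbit B y₀ := by
    rintro _ ⟨b, rfl⟩ h
    obtain ⟨k, hk⟩ := IsPGroup.iff_card.1 hA
    exact h2 (eq_of_mem_orbit hc (hk ▸ ((Nat.prime_two.coprime_iff_not_dvd.2 hB).pow_left k)) hx
      ((hO b b.2 _).1 (hxb b b.2 y₀ ▸ h)))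
  have hi : Function.Involutive fun y => if y ∈ orbit B y₀ ∨ x y ∈ orbit B y₀ then x y else y :=
    fun y => by
      by_cases h : y ∈ orbit B y₀ ∨ x y ∈ orbit B y₀
      · simp only [h, if_true, hxx, h.symm]
      · simp only [h, if_false]
  have h3 : hi.toPerm _ ^ 2 = 1 := by rw [sq]; exact Equiv.ext hi
  have h4 : hi.toPerm _ ∈ C[B] := fun b hb => Equiv.ext fun y => by
    simp only [Perm.mul_apply, Function.Involutive.coe_toPerm, hxb b hb, hO b hb]
    split_ifs <;> rfl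
  have h5 : (hi.toPerm _).support = (orbit B y₀).toFinset ∪ (orbit B y₀).toFinset.image x := by
    ext y
    rw [mem_support, Function.Involutive.coe_toPerm, mem_union, Set.mem_toFinset, mem_image]
    split_ifs with h
    · refine iff_of_true (fun e => ?_) (h.imp_right fun h => ⟨x y, Set.mem_toFinset.2 h, hxx y⟩)
      exact h.elim (fun h => hd y h (e.symm ▸ h)) fun h => hd _ h (by rwa [hxx, ← e])
    · refine iff_of_false (fun h => h rfl) fun h' => h (h'.imp_right ?_)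
      rintro ⟨z, hz, rfl⟩
      rw [hxx]; exact Set.mem_toFinset.1 hz
  have h6 : sign (hi.toPerm _) = -1 := by
    have h6 := sum_cycleType (hi.toPerm _)
    rw [h5, card_union_of_disjoint (disjoint_left.2 fun y h6 h7 => by
      obtain ⟨z, hz, rfl⟩ := mem_image.1 h7
      exact hd z (Set.mem_toFinset.1 hz) (Set.mem_toFinset.1 h6)),
      card_image_of_injective _ x.injective] at h6
    rw [sign_of_cycleType, h6]
    rw [cycleType_of_pow_prime_eq_one h3, Multiset.sum_replicate, smul_eq_mul] at h6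
    refine Odd.neg_one_pow (Even.add_odd ⟨_, rfl⟩ (Nat.not_even_iff_odd.1 fun h7 => hB ?_))
    rw [show (hi.toPerm _).cycleType.card = #(orbit B y₀).toFinset by omega, Set.toFinset_card,
      ← Nat.card_eq_fintype_card, Nat.card_coe_set_eq, ← index_stabilizer] at h7
    exact h7.two_dvd.trans (Subgroup.index_dvd_card _)
  obtain ⟨P, hP, h7⟩ := exists_sylIn_ge hc hA
  obtain ⟨g, -, h8⟩ := hP.exists_conj_le (Subgroup.zpowers_le.2 h4)
    (IsPGroup.of_card_dvd_pow (n := 1) (by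
      rw [Nat.card_zpowers, pow_one]; exact orderOf_dvd_of_pow_eq_one h3))
  refine ⟨P, hP.le, hP.isPGroup, ?_⟩
  obtain ⟨c, hc⟩ := Subgroup.card_dvd_of_le h7
  have h9 : Nat.card A < Nat.card P := not_le.1 fun e => by
    have := ha (Subgroup.eq_of_le_of_card_ge h7 e ▸ map_conj_le_iff.1 h8 _ (Subgroup.mem_zpowers _))
    simp [h6] at this
  rw [hc] at h9 ⊢
  rw [mul_comm]
  exact Nat.mul_le_mul_left _ ((lt_mul_iff_one_lt_right Nat.card_pos).1 h9)

theorem alt_bound {n F : ℕ} (hF : ∀ N : Subgroup (Perm (Fin n)), Group.IsNilpotent N → Nat.card N ≤ F)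
    {N : Subgroup (Perm (Fin n))} (hN : Group.IsNilpotent N) (ha : N ≤ alternatingGroup _) :
    2 * Nat.card N ≤ F ∨ ¬ 2 ∣ Nat.card N := by
  have h2 := isDp_piCoreOf_of_isNilpotent {2} hN
  have h3 : ¬ 2 ∣ Nat.card O[{2}ᶜ](N) := fun h => isPi_piCoreOf _ _ 2 Nat.prime_two h rfl
  by_cases h0 : O[{2}](N) = ⊥
  · rw [h2.card, h0, Subgroup.card_bot, one_mul]; exact Or.inr h3
  obtain ⟨P, h4, h5, h6⟩ := exists_double h2.cent' (isPGroup_pCoreOf Nat.prime_two N) h0 h3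
    (h2.le_left.trans ha)
  have h7 := isDp_sup_of_coprime (cent_symm h4)
    (isPi_coprime (isPi_of_isPGroup Nat.prime_two h5) (isPi_piCoreOf _ _))
  have h8 := hF _ (h7.isNilpotent h5.isNilpotent (Group.nilpotent_of_mulEquiv
    (Subgroup.subgroupOfEquivOfLe h2.le_right)))
  rw [h7.card] at h8
  exact Or.inl (by rw [h2.card, ← mul_assoc]; exact (Nat.mul_le_mul_right _ h6).trans h8)

theorem alt_bound_ne {n : ℕ} (hn : n % 4 ≠ 3) (h5 : n ≠ 5) (h6 : n ≠ 6) (h9 : n ≠ 9) (h2 : 2 ≤ n)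
    {N : Subgroup (Perm (Fin n))} (hN : Group.IsNilpotent N) (ha : N ≤ alternatingGroup _) :
    2 * Nat.card N ≤ T n := by
  refine (alt_bound (fun _ => sym_bound_ne hn) hN ha).elim id fun h => ?_
  obtain ⟨-, -, -, h3, h4⟩ := odd_bound hN (deg_sub N) h
  by_cases h7 : n = 2
  · have := h4 (by omega)
    subst h7
    rw [T_eq (by omega)]; omega
  · exact h3 (by omega) h5 h6 (by omega) h9

theorem alt_bound_eq {n : ℕ} (hn : n % 4 = 3) (h7 : 7 ≤ n)
    {N : Subgroup (Perm (Fin n))} (hN : Group.IsNilpotent N) (ha : N ≤ alternatingGroup _) :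
    2 * Nat.card N ≤ 3 * T (n - 3) := by
  refine (alt_bound (fun _ => sym_bound_eq hn) hN ha).elim id fun h => ?_
  obtain ⟨-, -, h3, h4, -⟩ := odd_bound hN (deg_sub N) h
  by_cases h8 : n = 7
  · have := h3 h8
    subst h8
    rw [T_eq (by omega)]; omega
  · have := h4 (by omega) (by omega) (by omega) h8 (by omega)
    have := T_three hn
    omega

theorem struct {G : Type} [Group G] [Finite G] {N : Subgroup G} (hN : Group.IsNilpotent N) {j : ℕ}
    (h : Nat.card N = 3 * 2 ^ j) : ∃ (z : G) (P : Subgroup G), orderOf z = 3 ∧ IsPGroup 2 P ∧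
      P ≤ C[Subgroup.zpowers z] ∧ Nat.card P = 2 ^ j ∧ N = P ⊔ Subgroup.zpowers z := by
  have h2 := isDp_piCoreOf_of_isNilpotent {2} hN
  have h3 : (Nat.card O[{2}ᶜ](N)).Coprime 2 :=
    (isPi_compl_singleton_iff_coprime Nat.prime_two).1 (isPi_piCoreOf _ _)
  obtain ⟨k, hk⟩ := IsPGroup.iff_card.1 (isPGroup_pCoreOf Nat.prime_two N)
  have h4 := h2.card
  rw [h, hk] at h4
  have h5 : k = j := le_antisymm
    ((Nat.pow_dvd_pow_iff_le_right one_lt_two).1 ((Nat.Coprime.pow_left k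
      (show Nat.Coprime 2 3 by decide)).dvd_of_dvd_mul_left (Dvd.intro _ h4.symm)))
    ((Nat.pow_dvd_pow_iff_le_right one_lt_two).1 ((h3.symm.pow_left j).dvd_of_dvd_mul_right
      (Dvd.intro_left _ h4)))
  rw [h5, mul_comm, Nat.mul_right_inj (by positivity)] at h4
  haveI := Nat.fact_prime_three
  obtain ⟨⟨z, hz⟩, h6⟩ := exists_prime_orderOf_dvd_card' (G := O[{2}ᶜ](N)) 3 h4.dvd
  rw [Subgroup.orderOf_mk] at h6
  have h7 := Subgroup.eq_of_le_of_card_ge (Subgroup.zpowers_le.2 hz) (by rw [Nat.card_zpowers, h6, h4])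
  exact ⟨z, _, h6, isPGroup_pCoreOf Nat.prime_two N, h7 ▸ h2.cent', h5 ▸ hk, h7 ▸ h2.sup.symm⟩

theorem coprime_three {G : Type} [Group G] [Finite G] {P : Subgroup G} (hP : IsPGroup 2 P) {z : G}
    (hz : orderOf z = 3) : (Nat.card P).Coprime (Nat.card (Subgroup.zpowers z)) := by
  obtain ⟨k, hk⟩ := IsPGroup.iff_card.1 hP
  rw [hk, Nat.card_zpowers, hz]
  exact Nat.Coprime.pow_left k (by decide)

theorem three_cycle {n : ℕ} (hn : n % 4 = 3) {z : Perm (Fin n)} (hz : orderOf z = 3)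
    {P : Subgroup (Perm (Fin n))} (hP : IsPGroup 2 P) (hc : P ≤ C[Subgroup.zpowers z])
    (h : T (n - 3) ≤ Nat.card P) : #z.support = 3 := by
  classical
  haveI := Nat.fact_prime_three
  have h3 : z ^ 3 = 1 := hz ▸ pow_orderOf_eq_one z
  have h1 := sum_cycleType z
  rw [cycleType_of_pow_prime_eq_one h3, Multiset.sum_replicate, smul_eq_mul] at h1
  have h2 : #z.support ≠ 0 := fun e => by
    rw [card_support_eq_zero.1 e, orderOf_one] at hz; omega
  have h4 := orb_count (B := Subgroup.zpowers z) 3 z.support fun x hx => by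
    have h4 := mem_support.1 hx
    refine ⟨{x, z x, z (z x)}, by simp [insert_subset_iff, h4], (card_eq_three.2 ⟨_, _, _, h4.symm,
      fun e => h4 ?_, (z.injective.ne h4).symm, rfl⟩).ge, ?_⟩
    · conv_lhs => rw [e]
      exact congrArg (· x) (show z * (z * z) = 1 by rw [← h3, pow_three])
    · simp only [mem_insert, mem_singleton, forall_eq_or_imp, forall_eq]
      exact ⟨mem_orbit_self x, ⟨⟨z, Subgroup.mem_zpowers z⟩, rfl⟩,
        ⟨⟨z * z, Subgroup.mul_mem _ (Subgroup.mem_zpowers z) (Subgroup.mem_zpowers z)⟩, rfl⟩⟩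
  obtain ⟨k, hk⟩ := IsPGroup.iff_card.1 hP
  have h5 : 2 ^ k ≤ T _ := Nat.pow_le_pow_right two_pos
    (le_of_deg (deg_orbits hc (coprime_three hP hz) univ fun _ _ _ _ => mem_univ _) hk)
  have h6 := card_union_le (z.support.image (orbit (Subgroup.zpowers z)))
    (z.supportᶜ.image (orbit (Subgroup.zpowers z)))
  rw [← image_union, union_compl] at h6
  have h7 := card_image_le (s := z.supportᶜ) (f := orbit (Subgroup.zpowers z))
  have h8 := card_add_card_compl z.support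
  rw [Fintype.card_fin] at h8
  by_contra h9
  have := (h5.trans (T_mono (b := n - 4) (by omega))).trans_lt (T_lt hn (by omega))
  omega

theorem conj_main {G : Type} [Group G] [Finite G] {H : Subgroup G} {j : ℕ}
    (hH : ∀ N ≤ H, Group.IsNilpotent N → Nat.card N ≤ 3 * 2 ^ j) {z₁ z₂ g : G} {P₁ P₂ : Subgroup G}
    (h₂ : orderOf z₂ = 3) (hP₁ : IsPGroup 2 P₁) (hP₂ : IsPGroup 2 P₂)
    (hc₁ : P₁ ≤ C[Subgroup.zpowers z₁]) (hc₂ : P₂ ≤ C[Subgroup.zpowers z₂])
    (k₁ : Nat.card P₁ = 2 ^ j) (k₂ : Nat.card P₂ = 2 ^ j) (l₁ : P₁ ≤ H)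
    (l₂ : P₂ ⊔ Subgroup.zpowers z₂ ≤ H) (hg : g ∈ H) (e : g * z₁ * g⁻¹ = z₂) :
    ∃ h ∈ H, P₂ ⊔ Subgroup.zpowers z₂ =
      (P₁ ⊔ Subgroup.zpowers z₁).map (MulAut.conj h).toMonoidHom := by
  haveI := Nat.fact_prime_three
  have key : ∀ P : Subgroup G, IsPGroup 2 P → P ≤ H ⊓ C[Subgroup.zpowers z₂] → Nat.card P = 2 ^ j →
      SylIn 2 P (H ⊓ C[Subgroup.zpowers z₂]) := fun P h1 h2 h3 => by
    obtain ⟨R, hR⟩ := exists_sylIn 2 (H ⊓ C[Subgroup.zpowers z₂])
    have h4 := isDp_sup_of_coprime (cent_symm (hR.le.trans inf_le_right))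
      (coprime_three hR.isPGroup h₂)
    have h5 := hH _ (sup_le (hR.le.trans inf_le_left) (le_sup_right.trans l₂))
      (h4.isNilpotent hR.isPGroup.isNilpotent ((IsPGroup.of_card (p := 3) (n := 1) (by rw [Nat.card_zpowers, h₂, pow_one])).isNilpotent))
    rw [h4.card, Nat.card_zpowers, h₂] at h5
    exact hR.of_card_le h2 h1 (by omega)
  have h1 : (Subgroup.zpowers z₁).map (MulAut.conj g).toMonoidHom = Subgroup.zpowers z₂ := by
    rw [MonoidHom.map_zpowers, ← e]; rfl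
  obtain ⟨c, hc, h2⟩ := (key _ (hP₁.map (MulAut.conj g).toMonoidHom) (le_inf (map_conj_le_iff.2
    fun x hx => H.mul_mem (H.mul_mem hg (l₁ hx)) (H.inv_mem hg)) (by
      rw [← h1, ← map_conj_centralizer]; exact Subgroup.map_mono hc₁))
    (by rw [card_map_conj, k₁])).exists_conj (key _ hP₂ (le_inf (le_sup_left.trans l₂) hc₂) k₂)
  refine ⟨c * g, H.mul_mem hc.1 hg, ?_⟩
  rw [← map_conj_map_conj, Subgroup.map_sup, Subgroup.map_sup, h2, h1,
    map_conj_eq_iff_mem_normalizer.2 (Subgroup.centralizer_le_normalizer _ hc.2)]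

theorem sym_conj {n : ℕ} (hn : n % 4 = 3) {N₁ N₂ : Subgroup (Perm (Fin n))}
    (h₁ : Group.IsNilpotent N₁) (h₂ : Group.IsNilpotent N₂) (k₁ : Nat.card N₁ = 3 * T (n - 3))
    (k₂ : Nat.card N₂ = 3 * T (n - 3)) : ∃ g, N₂ = N₁.map (MulAut.conj g).toMonoidHom := by
  haveI := Nat.fact_prime_three
  obtain ⟨z₁, P₁, a1, a2, a3, a4, rfl⟩ := struct h₁ k₁
  obtain ⟨z₂, P₂, b1, b2, b3, b4, rfl⟩ := struct h₂ k₂
  obtain ⟨g, e⟩ := isConj_iff.1 (AltS.isConj_of_pow (a1 ▸ pow_orderOf_eq_one z₁)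
    (b1 ▸ pow_orderOf_eq_one z₂) ((three_cycle hn a1 a2 a3 a4.ge).trans
      (three_cycle hn b1 b2 b3 b4.ge).symm))
  obtain ⟨h, -, e'⟩ := conj_main (H := ⊤) (fun N _ hN => sym_bound_eq hn hN) b1 a2 b2 a3 b3 a4 b4
    le_top le_top trivial e
  exact ⟨h, e'⟩

theorem alt_conj {n j : ℕ} (hn : n % 4 = 3) (h7 : 7 ≤ n) (hj : 2 * 2 ^ j = T (n - 3))
    {N₁ N₂ : Subgroup (Perm (Fin n))} (l₁ : N₁ ≤ alternatingGroup _) (l₂ : N₂ ≤ alternatingGroup _)
    (h₁ : Group.IsNilpotent N₁) (h₂ : Group.IsNilpotent N₂) (k₁ : Nat.card N₁ = 3 * 2 ^ j)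
    (k₂ : Nat.card N₂ = 3 * 2 ^ j) :
    ∃ g ∈ alternatingGroup _, N₂ = N₁.map (MulAut.conj g).toMonoidHom := by
  haveI := Nat.fact_prime_three
  have key : ∀ (z : Perm (Fin n)) (P : Subgroup (Perm (Fin n))), orderOf z = 3 → IsPGroup 2 P → P ≤ C[Subgroup.zpowers z] →
      Nat.card P = 2 ^ j → P ≤ alternatingGroup _ → #z.support = 3 := fun z P a1 a2 a3 a4 a5 => by
    obtain ⟨R, h1, h2, h3⟩ := exists_double a3 a2 (fun e => by
      have := T_mono (show 4 ≤ n - 3 by omega)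
      rw [e, Subgroup.card_bot] at a4
      rw [T_eq (by omega)] at this
      omega) (by rw [Nat.card_zpowers, a1]; decide) a5
    exact three_cycle hn a1 h2 h1 (by omega)
  obtain ⟨z₁, P₁, a1, a2, a3, a4, rfl⟩ := struct h₁ k₁
  obtain ⟨z₂, P₂, b1, b2, b3, b4, rfl⟩ := struct h₂ k₂
  obtain ⟨g, hg, e⟩ := AltS.exists_alt_conj' (p := 3) (by rw [Fintype.card_fin]; omega)
    (a1 ▸ pow_orderOf_eq_one z₁) (AltS.isConj_of_pow (a1 ▸ pow_orderOf_eq_one z₁)
    (b1 ▸ pow_orderOf_eq_one z₂) ((key _ _ a1 a2 a3 a4 (le_sup_left.trans l₁)).trans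
      (key _ _ b1 b2 b3 b4 (le_sup_left.trans l₂)).symm))
  exact conj_main (fun N h hN => by have := alt_bound_eq hn h7 hN h; omega) b1 a2 b2 a3 b3 a4 b4
    (le_sup_left.trans l₁) l₂ hg e

theorem exists_hom {n : ℕ} (hn : 3 ≤ n) :
    ∃ φ : Perm (Fin (n - 3)) × Multiplicative (ZMod 3) →* Perm (Fin n), Function.Injective φ ∧
      ∀ x, sign (φ x) = sign x.1 := by
  haveI := Nat.fact_prime_three
  obtain ⟨e⟩ : Nonempty (Fin (n - 3) ⊕ Multiplicative (ZMod 3) ≃ Fin n) :=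
    Fintype.card_eq.1 (by simp [hn])
  refine ⟨e.permCongrHom.toMonoidHom.comp ((Perm.sumCongrHom _ _).comp
    ((MonoidHom.id _).prodMap (toPermHom _ _))), e.permCongrHom.injective.comp
      (Perm.sumCongrHom_injective.comp (Function.injective_id.prodMap toPerm_injective)), fun x => ?_⟩
  have := AltS.sign_of_pow (p := 3) (by omega) (k := 1)
    (x := toPermHom _ (Multiplicative (ZMod 3)) x.2) (by
      rw [← map_pow, show x.2 ^ 3 ^ 1 = 1 by simpa using pow_card_eq_one (x := x.2), map_one])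
  simpa using this

theorem exists_range {G P : Type} [Group G] [Group P] [Finite P] (hP : IsPGroup 2 P)
    (φ : P × Multiplicative (ZMod 3) →* G) (hφ : Function.Injective φ) :
    ∃ M : Subgroup G, Group.IsNilpotent M ∧ Nat.card M = 3 * Nat.card P ∧
      Nonempty (M ≃* (P × Multiplicative (ZMod 3))) := by
  haveI := hP.isNilpotent
  exact ⟨φ.range, Group.nilpotent_of_mulEquiv (φ.ofInjective hφ), by
    rw [← Nat.card_congr (φ.ofInjective hφ).toEquiv]; simp [mul_comm], ⟨(φ.ofInjective hφ).symm⟩⟩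

end Cfsg.Agent.H98.NilS
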