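import Cfsg.Agent.Lead.PcDefs

/-! Project PL, piece E3. -/

set_option autoImplicit false

namespace Cfsg.Agent.H98.PlE3

open Subgroup Cfsg.Agent.Lead.Pc
open scoped commutatorElement

universe u

variable {G : Type u} [Group G]

theorem nm_of {T W : Subgroup G} (h : ∀ g ∈ Nm T, ∀ x ∈ W, g * x * g⁻¹ ∈ W) : Nm T ≤ Nm W := by
  intro g hg
  refine mem_normalizer_iff.2 fun x => ⟨h g hg x, fun hx => ?_⟩
  have := h g⁻¹ (inv_mem hg) _ hx
  simpa [mul_assoc] using this

theorem map_le {T : Subgroup G} {g : G} (hg : g ∈ Nm T) : T.map (MulAut.conj g).toMonoidHom ≤ T := by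
  rintro _ ⟨x, hx, rfl⟩
  exact (mem_normalizer_iff.1 hg x).1 hx

theorem nm_sq (T : Subgroup G) : Nm T ≤ Nm (Sq T) := nm_of fun g hg x hx => by
  have : (Sq T).map (MulAut.conj g).toMonoidHom ≤ Sq T := by
    rw [Sq, MonoidHom.map_closure]
    refine closure_mono ?_
    rintro _ ⟨_, ⟨t, ht, rfl⟩, rfl⟩
    exact ⟨_, (mem_normalizer_iff.1 hg t).1 ht, map_mul _ _ _⟩
  exact this ⟨x, hx, rfl⟩

theorem nm_p3 (T : Subgroup G) : Nm T ≤ Nm (P3 T) := nm_of fun g hg x hx => by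
  have : (P3 T).map (MulAut.conj g).toMonoidHom ≤ P3 T := by
    rw [P3, Subgroup.map_sup, map_commutator]
    exact sup_le_sup (commutator_mono (map_le (nm_sq T hg)) (map_le hg))
      (map_le (nm_sq _ (nm_sq T hg)))
  exact this ⟨x, hx, rfl⟩

theorem perf {S : Subgroup G} (h : IsSimpleGroup S) (na : ¬ IsMulCommutative S) : ⁅S, S⁆ = S := by
  rcases h.eq_bot_or_eq_top_of_normal (_root_.commutator S) inferInstance with e | e
  · refine absurd ⟨⟨fun a b => ?_⟩⟩ na
    have : ⁅a, b⁆ ∈ _root_.commutator S := commutator_mem_commutator (mem_top a) (mem_top b)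
    rw [e, mem_bot] at this
    exact commutatorElement_eq_one_iff_mul_comm.1 this
  · rw [← map_subtype_commutator, e, ← MonoidHom.range_eq_map, range_subtype]

theorem li_mul {S T : Subgroup G} (le : T ≤ S) {y a : G} (h : Li S T y) (ha : a ∈ T) :
    Li S T (y * a) := by
  refine ⟨mul_mem h.1 (le_normalizer ha), fun e => h.2.1 ((mul_mem_cancel_right (le ha)).1 e), ?_⟩
  have : y * a * (y * a) = y * y * (y⁻¹ * a * y⁻¹⁻¹) * a := by group
  rw [this]
  exact mul_mem (mul_mem h.2.2 ((mem_normalizer_iff.1 (inv_mem h.1) a).1 ha)) ha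

theorem e3 : E3Stmt.{u} := by
  intro tr G _ _ S T S1 S2 R h _ al b ⟨y, yR, yT, c1, c2⟩
  have ly := b.li y yR yT
  have n := nm_p3 T
  obtain ⟨t, ht, h1⟩ := tr G S T h.nm (perf h.sim h.na) h.le h.two h.odd y ly (P3 T)
    (le_normalizer.trans n) (n ly.1) c1 c2
  have lt := li_mul h.le ly ht
  have yy := al _ n _ _ lt ly h1
  refine (closure_le _).2 ?_
  rintro _ ⟨a, ha, rfl⟩
  have ya := al _ n _ _ lt (li_mul h.le ly ha) h1
  have : a * a = (y⁻¹ * ⁅y, a⁆ * y⁻¹⁻¹) * ((y * y)⁻¹ * (y * a * (y * a))) := by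
    rw [commutatorElement_def]; group
  change a * a ∈ P3 T
  rw [this]
  exact mul_mem ((mem_normalizer_iff.1 (inv_mem (n ly.1)) _).1 (c2 a ha)) (mul_mem (inv_mem yy) ya)

end Cfsg.Agent.H98.PlE3
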