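import Cfsg.Agent.H96.Nilp
import Cfsg.Agent.H89.PNormal
import Cfsg.Agent.H5.DerP
import Cfsg.Agent.H4.Coprime
import Cfsg.Agent.H3.Frattini

/-!
A nilpotency criterion through weakly embedded subgroups.
-/

set_option autoImplicit false

namespace Cfsg.Agent.H98.WE

open Cfsg Cfsg.FusionSystem H97 H96

universe u

variable {Ω : Type u} [Group Ω] {S : Subgroup Ω} [Finite S] {F : FusionSystem S} {p : ℕ}
  [Fact p.Prime] {A B P Q T : Subgroup Ω} {k : ℕ}

theorem between (hS : IsPGroup p S) (hA : S ≤ Subgroup.normalizer (A : Set Ω))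
    (hB : S ≤ Subgroup.normalizer (B : Set Ω)) (hAB : A ≤ B) (hBS : B ≤ S)
    (h1 : Nat.card A ≤ p ^ k) (h2 : p ^ k ≤ Nat.card B) :
    ∃ Q : Subgroup Ω, S ≤ Subgroup.normalizer (Q : Set Ω) ∧ A ≤ Q ∧ Q ≤ B ∧ Nat.card Q = p ^ k := by
  haveI := (Subgroup.normal_subgroupOf_iff_le_normalizer (hAB.trans hBS)).2 hA
  haveI := (Subgroup.normal_subgroupOf_iff_le_normalizer hBS).2 hB
  have hp := (Fact.out : p.Prime).one_lt
  haveI := finite_of_le_S hBS
  haveI := finite_of_le_S (hAB.trans hBS)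
  obtain ⟨a, ha⟩ := IsPGroup.iff_card.1 (hS.to_le (hAB.trans hBS))
  obtain ⟨b, hb⟩ := IsPGroup.iff_card.1 (hS.to_le hBS)
  obtain ⟨L, hL, h3, h4, h5⟩ := H89.exists_normal_card_between hS
    (Subgroup.subgroupOf_mono S hAB) (k := k)
    (by rw [Nat.card_congr (Subgroup.subgroupOfEquivOfLe (hAB.trans hBS)).toEquiv, ha]
        exact pow_dvd_pow p ((Nat.pow_le_pow_iff_right hp).1 (ha ▸ h1)))
    (by rw [Nat.card_congr (Subgroup.subgroupOfEquivOfLe hBS).toEquiv, hb]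
        exact pow_dvd_pow p ((Nat.pow_le_pow_iff_right hp).1 (hb ▸ h2)))
  refine ⟨L.map S.subtype, ?_, ?_, Subgroup.map_le_iff_le_comap.2 h4, by
    rw [Subgroup.card_subtype, h5]⟩
  · rw [← Subgroup.normal_subgroupOf_iff_le_normalizer (Subgroup.map_subtype_le L)]
    rwa [Subgroup.subgroupOf, Subgroup.comap_map_eq_self_of_injective S.subtype_injective]
  · exact (Subgroup.map_subgroupOf_eq_of_le (hAB.trans hBS)).ge.trans (Subgroup.map_mono h3)

theorem between' (hS : IsPGroup p S) (hAB : A ≤ B) (hBS : B ≤ S)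
    (h1 : Nat.card A ≤ p ^ k) (h2 : p ^ k ≤ Nat.card B) :
    ∃ Q : Subgroup Ω, A ≤ Q ∧ Q ≤ B ∧ Nat.card Q = p ^ k := by
  have hp := (Fact.out : p.Prime).one_lt
  haveI := finite_of_le_S hBS
  haveI := finite_of_le_S (hAB.trans hBS)
  obtain ⟨a, ha⟩ := IsPGroup.iff_card.1 (hS.to_le (hAB.trans hBS))
  obtain ⟨b, hb⟩ := IsPGroup.iff_card.1 (hS.to_le hBS)
  obtain ⟨L, h3, h4⟩ := Sylow.exists_subgroup_card_pow_prime_le p
    (hb ▸ pow_dvd_pow p ((Nat.pow_le_pow_iff_right hp).1 (hb ▸ h2))) (A.subgroupOf B)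
    ((Nat.card_congr (Subgroup.subgroupOfEquivOfLe hAB).toEquiv).trans ha)
    ((Nat.pow_le_pow_iff_right hp).1 (ha ▸ h1))
  exact ⟨L.map B.subtype, (Subgroup.map_subgroupOf_eq_of_le hAB).ge.trans (Subgroup.map_mono h4),
    Subgroup.map_subtype_le L, by rw [Subgroup.card_subtype, h3]⟩

omit [Finite S] in
theorem comm_of_inf (hP : F.StronglyClosed P) (hT : F.StronglyClosed T) (h : P ⊓ T = ⊥) :
    T ≤ Subgroup.centralizer (P : Set Ω) := fun t ht x hx => by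
  have h1 := Subgroup.mem_normalizer_iff.1 (le_normalizer_of_stronglyClosed hP (hT.1 ht)) x⁻¹
  have h2 := Subgroup.mem_normalizer_iff.1 (le_normalizer_of_stronglyClosed hT (hP.1 hx)) t
  have h3 : x * t * x⁻¹ * t⁻¹ ∈ P ⊓ T := ⟨by
    simpa [mul_assoc] using P.mul_mem hx (h1.1 (P.inv_mem hx)), T.mul_mem (h2.1 ht) (T.inv_mem ht)⟩
  rw [h, Subgroup.mem_bot, mul_inv_eq_one, mul_inv_eq_iff_eq_mul] at h3
  exact h3

/-- a minimal nontrivial strongly closed subgroup -/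
def Min (F : FusionSystem S) (T : Subgroup Ω) : Prop :=
  F.StronglyClosed T ∧ T ≠ ⊥ ∧ ∀ U, F.StronglyClosed U → U ≤ T → U = ⊥ ∨ U = T

theorem exists_min (hP : F.StronglyClosed P) (h : P ≠ ⊥) : ∃ T ≤ P, Min F T := by
  obtain ⟨T, h1, h2⟩ := exists_max_subgroup (S := S)
    (fun U => U ≤ P ∧ F.StronglyClosed U ∧ U ≠ ⊥) (fun _ h => h.2.1.1) ⟨P, le_rfl, hP, h⟩
    fun U => Nat.card S - Nat.card U
  refine ⟨T, h1.1, h1.2.1, h1.2.2, fun U hU hUT => or_iff_not_imp_left.2 fun h0 => by_contra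
    fun h3 => ?_⟩
  have h4 := h2 U ⟨hUT.trans h1.1, hU, h0⟩
  have h5 := card_lt_of_lt (lt_of_le_of_ne hUT h3) h1.2.1.1
  have h6 := Subgroup.card_le_of_le h1.2.1.1
  omega

omit [Finite S] in
theorem Min.inf (hT : Min F T) (hP : F.StronglyClosed P) : P ⊓ T = ⊥ ∨ T ≤ P :=
  (hT.2.2 _ (stronglyClosed_inf hP hT.1) inf_le_right).imp_right inf_eq_right.1

omit [Finite S] in
theorem Min.le (hT : Min F T) (hP : F.StronglyClosed P) {x : Ω} (h1 : x ∈ P) (h2 : x ∈ T)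
    (h3 : x ≠ 1) : T ≤ P :=
  (hT.inf hP).resolve_left fun h => h3 (Subgroup.mem_bot.1 (h ▸ Subgroup.mem_inf.2 ⟨h1, h2⟩))

theorem nil_of_centralizes (hS : IsPGroup p S) (hF : F.IsSaturated p) (hT : F.StronglyClosed T)
    (hN : NNil F T) (h : F.hyperfocalSubgroup p ≤ Subgroup.centralizer (T : Set Ω)) : Nil F := by
  refine nil_of_hyp_eq_bot hS hF (le_bot_iff.1 (hyp_le_of_inside hS hF (le_normalizer_bot S) ?_))
  intro R hR α hα hc x hx
  have hH := stronglyClosed_hyp hS hF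
  obtain ⟨R', hR', hfc⟩ := exists_fullyCentralized F (hR.trans hH.1)
  obtain ⟨f, hf⟩ := isConj_iff_iso.1 hR'
  have hβ := hf.tr_mem_autGroup_iff.2 hα
  obtain ⟨g, hg, e, -⟩ := (iso_of_mem_autGroup hf.le' hβ).extend_centralizer (sat_receptive hS hF hfc)
  have hTR : T ≤ R' ⊔ centralizerIn S R' := le_sup_of_le_right fun t ht => ⟨hT.1 ht, fun y hy => by
    obtain ⟨z, hz, rfl⟩ := hf.surj y hy
    exact (h ((stronglyClosed_iff.1 hH).2 _ _ hf.mor z hz (hR hz)) t ht).symm⟩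
  obtain ⟨s, hs, es⟩ := hN _ g hTR (hg.le.trans (le_normalizer_of_stronglyClosed hT)) hg
    ((hg.mono hTR).img_eq_of_mapsTo fun t ht => (stronglyClosed_iff.1 hT).2 _ _ hg t (hTR ht) ht)
  obtain ⟨n, hn⟩ := exists_pow_eq_one_of_isPGroup (isPGroup_autInducedBy hS)
    (mem_autInducedBy_iff.2 ⟨s, hs, fun y hy => (e y hy).symm.trans
      (es y (Subgroup.mem_sup_left hy))⟩ : hf.tr α ∈ autInducedBy S R')
  rw [← map_pow, map_eq_one_iff _ hf.tr.injective] at hn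
  rw [ext_fix_of_coprime hc (k := n) (by rw [hn, ext_one]), inv_mul_cancel]
  exact Subgroup.one_mem _

/-- every subgroup of order `d` is weakly embedded -/
def Emb (F : FusionSystem S) (d : ℕ) : Prop := ∀ Q ≤ S, Nat.card Q = d →
  ∃ P, F.StronglyClosed P ∧ F.StronglyClosed (Q ⊔ P) ∧ F.StronglyClosed (Q ⊓ P)

theorem Min.card_le (hS : IsPGroup p S) (hE : Emb F (p ^ k)) (hk : k ≠ 0) (hT : Min F T) :
    Nat.card T ≤ p ^ k := by
  by_contra h
  obtain ⟨Q, -, h1, h2⟩ := between' hS (bot_le : ⊥ ≤ T) hT.1.1 (k := k)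
    (by simpa using Nat.one_le_pow _ _ (Fact.out : p.Prime).pos) (by omega)
  obtain ⟨P, h3, h4, h5⟩ := hE Q (h1.trans hT.1.1) h2
  have h0 : Q ≠ ⊥ := fun e => by
    rw [e, Subgroup.card_bot, eq_comm, Nat.pow_eq_one] at h2
    exact h2.elim (Fact.out : p.Prime).ne_one hk
  have h6 : ¬ T ≤ Q := fun e => h (h2 ▸ haveI := finite_of_le_S (h1.trans hT.1.1)
    Subgroup.card_le_of_le e)
  have h7 := (hT.2.2 _ h5 (inf_le_left.trans h1)).resolve_right fun e => h6 (e.ge.trans inf_le_left)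
  have h8 := (hT.inf h3).resolve_right fun e => h0 (h7 ▸ (inf_eq_left.2 (h1.trans e)).symm)
  obtain ⟨x, hx, hx1⟩ := Q.bot_or_exists_ne_one.resolve_left h0
  refine h6 fun t ht => ?_
  have h9 := hT.le h4 (Subgroup.mem_sup_left hx) (h1 hx) hx1 ht
  rw [← SetLike.mem_coe, Subgroup.coe_mul_of_left_le_normalizer_right _ _
    ((h1.trans hT.1.1).trans (le_normalizer_of_stronglyClosed h3))] at h9
  obtain ⟨q, hq, y, hy, rfl⟩ := h9
  have h10 : y ∈ P ⊓ T := ⟨hy, (T.mul_mem_cancel_left (h1 hq)).1 ht⟩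
  rw [h8, Subgroup.mem_bot] at h10
  simpa [h10] using hq

theorem small (hS : IsPGroup p S) (hF : F.IsSaturated p) (hE : Emb F (p ^ k)) (hk : k ≠ 0)
    (hN : ∀ H, F.IsFullyNormalized H → Nat.card H = p ^ k → NNil F H) (hd : p ^ k < Nat.card S)
    (hq : ∀ U, F.StronglyClosed U → U ≠ ⊥ → Nat.card U < p ^ k → F.hyperfocalSubgroup p ≤ U)
    (hT : Min F T) (h : Nat.card T < p ^ k) : Nil F := by
  by_contra h0
  have hp := (Fact.out : p.Prime).one_lt
  have hH := stronglyClosed_hyp hS hF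
  have hA : ∀ U, F.StronglyClosed U → Nat.card U = p ^ k → ¬ T ≤ Subgroup.centralizer (U : Set Ω) :=
    fun U hU h1 h2 => h0 (nil_of_centralizes hS hF hU (hN U (fullyNormalized_of_stronglyClosed hU) h1)
      ((hq T hT.1 hT.2.1 h).trans h2))
  have h1 : F.hyperfocalSubgroup p = T := (hT.2.2 _ hH (hq T hT.1 hT.2.1 h)).resolve_left
    fun e => h0 (nil_of_hyp_eq_bot hS hF e)
  rw [h1] at hq
  have hn := le_normalizer_of_stronglyClosed hT.1
  obtain ⟨M, h2, h3, h4, h5⟩ : ∃ M, M < S ∧ ⁅S, S⁆ ≤ M ∧ M.relIndex S = p ∧ ¬ T ≤ M := by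
    by_contra h2
    push Not at h2
    refine h0 (nil_of_foc_le_frattini hS hF ?_)
    rw [foc_eq_hyp_sup hS hF, h1, ← Subgroup.map_subtype_commutator]
    refine sup_le ((Subgroup.map_subgroupOf_eq_of_le hT.1.1).ge.trans (Subgroup.map_mono ?_))
      (Subgroup.map_mono (H3.commutator_le_frattini hS))
    refine le_iInf₂ fun M hM => ?_
    obtain ⟨N, h3, h4, h5, h6⟩ := exists_normal_index_p hS (T := M.map S.subtype)
      (lt_of_le_of_ne (Subgroup.map_subtype_le M) fun e => hM.1 (Subgroup.map_injective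
        S.subtype_injective (by rw [e, ← MonoidHom.range_eq_map, Subgroup.range_subtype])))
    have h7 : N.subgroupOf S = M := ((hM.le_iff.1 (Subgroup.map_le_iff_le_comap.1 h3)).resolve_left
      fun e => h4.2 (Subgroup.subgroupOf_eq_top.1 e))
    exact h7 ▸ Subgroup.subgroupOf_mono S (h2 N h4 h5 h6)
  have hM : S ≤ Subgroup.normalizer (M : Set Ω) := Subgroup.le_normalizer_iff_commutator_le_right.2
    ((Subgroup.commutator_mono le_rfl h2.le).trans h3)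
  haveI := finite_of_le_S hT.1.1
  by_cases h6 : T ⊓ M = ⊥
  · have h7 : Nat.card T = p := by
      have h7 := Subgroup.relIndex_le_of_le_right hT.1.1 (h4 ▸ (Fact.out : p.Prime).ne_zero)
      rw [h4, ← Subgroup.inf_relIndex_left, h6, Subgroup.relIndex_bot_left] at h7
      exact le_antisymm h7 (Nat.le_of_dvd Nat.card_pos (((hS.to_le hT.1.1).card_eq_or_dvd).resolve_left
        fun e => hT.2.1 (Subgroup.card_eq_one.1 e)))
    obtain ⟨Q, h8, h9, h10, h11⟩ := between hS hn Subgroup.le_normalizer hT.1.1 le_rfl h.le hd.le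
    exact hA Q (stronglyClosed_of_hyp_le hS hF h10 h8 (h1 ▸ h9)) h11 fun t ht =>
      Subgroup.centralizer_le h10 (H5.le_center_of_card_eq hS hT.1.1 h7 hn ht).2
  have h7 : p ^ k ≤ Nat.card M := by
    obtain ⟨n, hn⟩ := IsPGroup.iff_card.1 hS
    have h7 := Subgroup.relIndex_mul_relIndex ⊥ M S bot_le h2.le
    rw [Subgroup.relIndex_bot_left, Subgroup.relIndex_bot_left, h4, hn] at h7
    refine Nat.le_of_mul_le_mul_right ?_ (Fact.out : p.Prime).pos
    rw [h7, ← pow_succ]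
    exact Nat.pow_le_pow_right hp.le ((Nat.pow_lt_pow_iff_right hp).1 (hn ▸ hd))
  obtain ⟨Q, h8, h9, h10⟩ := between' hS (inf_le_right : T ⊓ M ≤ M) h2.le
    ((Subgroup.card_le_of_le inf_le_left).trans h.le) h7
  obtain ⟨P, h11, h12, h13⟩ := hE Q (h9.trans h2.le) h10
  obtain ⟨x, hx, hx1⟩ := (T ⊓ M).bot_or_exists_ne_one.resolve_left h6
  have h14 : ¬ F.StronglyClosed Q := fun e => h5 ((hT.le e (h8 hx) hx.1 hx1).trans h9)
  have h15 : Q ⊓ P = ⊥ := by_contra fun e => by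
    haveI := finite_of_le_S (h9.trans h2.le)
    rcases (Subgroup.card_le_of_le (inf_le_left : Q ⊓ P ≤ Q)).lt_or_eq with e' | e'
    · exact h5 ((hq _ h13 e (h10 ▸ e')).trans (inf_le_left.trans h9))
    · exact h14 (Subgroup.eq_of_le_of_card_ge inf_le_left e'.ge ▸ h13)
  have h16 : ¬ T ≤ P := fun e => hx1 (Subgroup.mem_bot.1 (h15 ▸ Subgroup.mem_inf.2 ⟨h8 hx, e hx.1⟩))
  obtain ⟨U, h17, hU⟩ := exists_min h11 fun e => h14 (by simpa [e] using h12)
  rcases (hU.card_le hS hE hk).lt_or_eq with e | e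
  · exact h16 ((hq U hU.1 hU.2.1 e).trans h17)
  · exact hA U hU.1 e ((comm_of_inf h11 hT.1 ((hT.inf h11).resolve_right h16)).trans
      (Subgroup.centralizer_le h17))

theorem step (hS : IsPGroup p S) (hE : Emb F (p ^ k)) (hT : Min F T) (h : Nat.card T = p ^ k)
    (hq : ∀ U, F.StronglyClosed U → U ≠ ⊥ → p ^ k ≤ Nat.card U)
    (hab : ¬ T ≤ Subgroup.centralizer (T : Set Ω)) (hTA : T ≤ A) (hA : A ≤ S)
    (h1 : Nat.card A = p ^ (k + 1)) {x : Ω} (hx : x ∈ A) (hxT : x ∉ T) :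
    ∃ Q P : Subgroup Ω, x ∈ Q ∧ Q ≤ S ∧ Nat.card Q = p ^ k ∧ F.StronglyClosed P ∧
      F.StronglyClosed (Q ⊔ P) ∧ Q ⊓ P = ⊥ ∧ P ≠ ⊥ ∧ P ⊓ T = ⊥ ∧ T ≤ Q ⊔ P := by
  have hp := (Fact.out : p.Prime).one_lt
  haveI := finite_of_le_S hA
  haveI := finite_of_le_S hT.1.1
  have hc : ¬ IsCyclic T := fun e => hab fun a ha b hb =>
    congrArg Subtype.val (IsCyclic.isMulCommutative.is_comm.comm (⟨b, hb⟩ : T) ⟨a, ha⟩)
  have h2 : Subgroup.zpowers x ≤ A := (Subgroup.zpowers_le).2 hx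
  haveI := finite_of_le_S (h2.trans hA)
  obtain ⟨Q, h3, h4, h5⟩ := between' hS h2 hA (k := k) (by
    obtain ⟨n, hn⟩ := IsPGroup.iff_card.1 (hS.to_le (h2.trans hA))
    have h3 := card_lt_of_lt (lt_of_le_of_ne h2 fun e => hc (Subgroup.isCyclic_of_le (e ▸ hTA))) hA
    rw [hn, h1, Nat.pow_lt_pow_iff_right hp] at h3
    exact hn ▸ Nat.pow_le_pow_right hp.le (by omega)) (h1 ▸ Nat.pow_le_pow_right hp.le k.le_succ)
  have hxQ := h3 (Subgroup.mem_zpowers x)
  haveI := finite_of_le_S (h4.trans hA)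
  obtain ⟨y, hy, hy1⟩ := (Q ⊓ T).bot_or_exists_ne_one.resolve_left fun e => by
    have h6 := H4.card_sup_of_le_normalizer ((h4.trans hA).trans
      (le_normalizer_of_stronglyClosed hT.1)) (disjoint_iff.2 (inf_comm Q T ▸ e))
    have h7 := Subgroup.card_le_of_le (sup_le hTA h4)
    rw [h6, h, h5, h1, ← pow_add, Nat.pow_le_pow_iff_right hp] at h7
    obtain rfl | rfl : k = 0 ∨ k = 1 := by omega
    · exact hT.2.1 (Subgroup.card_eq_one.1 h)
    · exact hc (isCyclic_of_prime_card (h.trans (pow_one p)))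
  obtain ⟨P, h6, h7, h8⟩ := hE Q (h4.trans hA) h5
  have h9 : ¬ F.StronglyClosed Q := fun e => hxT (Subgroup.eq_of_le_of_card_ge
    (hT.le e hy.1 hy.2 hy1) (h5.trans h.symm).le ▸ hxQ)
  have h10 : Q ⊓ P = ⊥ := by_contra fun e =>
    h9 (Subgroup.eq_of_le_of_card_ge inf_le_left (h5 ▸ hq _ h8 e) ▸ h8)
  exact ⟨Q, P, hxQ, h4.trans hA, h5, h6, h7, h10, fun e => h9 (by simpa [e] using h7),
    (hT.inf h6).resolve_right fun e => hy1 (Subgroup.mem_bot.1
      (h10 ▸ Subgroup.mem_inf.2 ⟨hy.1, e hy.2⟩)), hT.le h7 (Subgroup.mem_sup_left hy.1) hy.2 hy1⟩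

theorem big (hS : IsPGroup p S) (hF : F.IsSaturated p) (hE : Emb F (p ^ k)) (hk : k ≠ 0)
    (hN : ∀ H, F.IsFullyNormalized H → Nat.card H = p ^ k → NNil F H) (hd : p ^ k < Nat.card S)
    (hq : ∀ U, F.StronglyClosed U → U ≠ ⊥ → p ^ k ≤ Nat.card U) : Nil F := by
  by_contra h0
  have hp := (Fact.out : p.Prime).one_lt
  obtain ⟨T, -, hT⟩ := exists_min (stronglyClosed_top F) fun e => h0 (nil_of_eq_bot F e)
  have h1 := le_antisymm (hT.card_le hS hE hk) (hq T hT.1 hT.2.1)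
  have hab : ¬ T ≤ Subgroup.centralizer (T : Set Ω) := fun e =>
    h0 ((hN T (fullyNormalized_of_stronglyClosed hT.1) h1).nil_of_isNormal
      (sat_isNormal_of_abelian hS hF hT.1 fun x hx y hy => e hy x hx))
  obtain ⟨A, h2, h3, h4⟩ := between' hS hT.1.1 le_rfl (k := k + 1)
    (h1 ▸ Nat.pow_le_pow_right hp.le k.le_succ) (by
      obtain ⟨n, hn⟩ := IsPGroup.iff_card.1 hS
      exact hn ▸ Nat.pow_le_pow_right hp.le ((Nat.pow_lt_pow_iff_right hp).1 (hn ▸ hd)))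
  obtain ⟨x, hx, hxT⟩ := SetLike.exists_of_lt (lt_of_le_of_ne h2 fun e => by
    rw [← e, h1, Nat.pow_right_inj hp] at h4; omega)
  obtain ⟨-, P', -, -, -, h5, -, -, h6, h7, -⟩ := step hS hE hT h1 hq hab h2 h3 h4 hx hxT
  obtain ⟨U, h8, hU⟩ := exists_min h5 h6
  obtain ⟨y, hy, h9⟩ := exists_orderOf_eq_prime_of_ne_bot (hS.to_le hU.1.1) hU.2.1
  have hy1 : y ≠ 1 := fun e => by rw [e, orderOf_one] at h9; omega
  have h10 : U ⊓ T = ⊥ := eq_bot_iff.2 (h7 ▸ inf_le_inf_right T h8)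
  have h11 : Subgroup.zpowers y ≤ U := Subgroup.zpowers_le.2 hy
  obtain ⟨Q, P, h12, h13, h14, hP, h15, h16, -, h17, h18⟩ := step hS hE hT h1 hq hab
    (le_sup_left : T ≤ T ⊔ Subgroup.zpowers y) (sup_le hT.1.1 (h11.trans hU.1.1)) (by
      rw [H4.card_sup_of_le_normalizer ((h11.trans hU.1.1).trans
        (le_normalizer_of_stronglyClosed hT.1)) ((disjoint_iff.2 h10).symm.mono_right h11), h1,
        Nat.card_zpowers, h9, pow_succ])
    (Subgroup.mem_sup_right (Subgroup.mem_zpowers y))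
    fun e => hy1 (Subgroup.mem_bot.1 (h10 ▸ Subgroup.mem_inf.2 ⟨hy, e⟩))
  have h19 := (hU.inf hP).resolve_right fun e =>
    hy1 (Subgroup.mem_bot.1 (h16 ▸ Subgroup.mem_inf.2 ⟨h12, e hy⟩))
  have hn := le_normalizer_of_stronglyClosed hP
  haveI := finite_of_le_S h15.1
  have h20 : P ⊔ U = Q ⊔ P := Subgroup.eq_of_le_of_card_ge
    (sup_le le_sup_right (hU.le h15 (Subgroup.mem_sup_left h12) hy hy1)) (by
      rw [sup_comm Q, H4.card_sup_of_le_normalizer (h13.trans hn) (disjoint_iff.2 h16).symm,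
        H4.card_sup_of_le_normalizer (hU.1.1.trans hn) (disjoint_iff.2 h19), h14]
      exact Nat.mul_le_mul_left _ (hq U hU.1 hU.2.1))
  exact hab (h18.trans (h20 ▸ sup_le (Subgroup.le_centralizer_iff.1 (comm_of_inf hP hT.1 h17))
    (Subgroup.le_centralizer_iff.1 (comm_of_inf hU.1 hT.1 h10))))

theorem nil_of_emb (n : ℕ) : ∀ {Ω : Type u} [Group Ω] {S : Subgroup Ω} [Finite S]
    {F : FusionSystem S} {k : ℕ}, Nat.card S = n → IsPGroup p S → F.IsSaturated p → Emb F (p ^ k) →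
      k ≠ 0 → (∀ H, F.IsFullyNormalized H → Nat.card H = p ^ k → NNil F H) → p ^ k < Nat.card S →
        Nil F := by
  induction n using Nat.strong_induction_on with
  | _ n ih =>
  intro Ω _ S _ F k hn hS hF hE hk hN hd
  have hp := (Fact.out : p.Prime).one_lt
  by_cases h : ∀ U, F.StronglyClosed U → U ≠ ⊥ → p ^ k ≤ Nat.card U
  · exact big hS hF hE hk hN hd h
  push Not at h
  obtain ⟨U, h1, h2, h3⟩ := h
  obtain ⟨T, h4, hT⟩ := exists_min h1 h2
  haveI := finite_of_le_S h1.1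
  refine small hS hF hE hk hN hd (fun V hV h5 h6 => ?_) hT ((Subgroup.card_le_of_le h4).trans_lt h3)
  haveI := normal_subgroupOf_of_stronglyClosed hV
  haveI := finite_of_le_S hV.1
  obtain ⟨E, hθ⟩ := exists_factorSystem_quotient hV
  set θ := QuotientGroup.mk' (V.subgroupOf S)
  obtain ⟨j, hj⟩ := IsPGroup.iff_card.1 (hS.to_le hV.1)
  rw [hj, Nat.pow_lt_pow_iff_right hp] at h6
  have h7 : ∀ Q, Nat.card (preimageAlong θ Q) = p ^ j * Nat.card Q := fun Q => by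
    rw [H99.card_preimageAlong θ (le_top.trans hθ.2.2.1.ge), QuotientGroup.ker_mk',
      Nat.card_congr (Subgroup.subgroupOfEquivOfLe hV.1).toEquiv, hj]
  have h8 : ∀ Q : Subgroup (S ⧸ V.subgroupOf S), Nat.card Q = p ^ (k - j) →
      Nat.card (preimageAlong θ Q) = p ^ k := fun Q hQ => by
    rw [h7, hQ, ← pow_add, Nat.add_sub_cancel' h6.le]
  have h9 := ih _ (hn ▸ factor_card_lt hθ h5) (k := k - j) rfl (factor_isPGroup hS hθ)
    (factor_saturated hS hF hθ hV) (fun Q hQ h9 => ?_) (by omega) (fun H hH h9 =>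
      nNil_factor hθ hV hH.1 (hN _ (H99.factor_fullyNormalized hθ hV hH) (h8 H h9))) (by
        rw [← factor_preimage_top hθ, h7, ← Nat.add_sub_cancel' h6.le, pow_add] at hd
        exact lt_of_mul_lt_mul_left hd (Nat.zero_le _))
  · have h10 := h9.hyp_eq_bot (factor_isPGroup hS hθ)
    rwa [factor_hyp hS hF hθ hV, factor_img_eq_bot_iff hθ (stronglyClosed_hyp hS hF).1] at h10
  obtain ⟨P, h10, h11, h12⟩ := hE _ preimageAlong_le (h8 Q h9)
  have h13 := factor_stronglyClosed_img_sat hS hF hθ hV h11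
  have h14 := factor_stronglyClosed_img_sat hS hF hθ hV h12
  rw [((homOn_fn θ).mono h11.1).img_sup, factor_img_preimage hθ hQ] at h13
  refine ⟨_, factor_stronglyClosed_img_sat hS hF hθ hV h10, h13, ?_⟩
  convert h14 using 1
  refine le_antisymm (fun y hy => ?_) (le_inf (img_le_iff.2 fun x hx => (mem_preimageAlong.1 hx.1).2)
    (img_mono _ inf_le_right))
  obtain ⟨x, hx, rfl⟩ := ((homOn_fn θ).mono h10.1).mem_img.1 hy.2
  exact mem_img_of_mem _ ⟨mem_preimageAlong.2 ⟨h10.1 hx, hy.1⟩, hx⟩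

end Cfsg.Agent.H98.WE
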